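import Cfsg.Agent.TwoGroups.CGroup
import Cfsg.Agent.Linear.Transvection
import Mathlib.Topology.Compactification.OnePoint.ProjectiveLine

/-!
Groups with elementary abelian involution centralizers are `PSL(2, 2^n)`.
-/

set_option autoImplicit false

namespace Cfsg.Agent.TwoGroups

open Subgroup Matrix
open scoped OnePoint

/-- A type carrier in the lowest universe. -/
structure FBox (n : ℕ) where
  val : Fin n

variable {G : Type*} [Group G] [Finite G]

namespace CHyp

variable {T : Sylow 2 G} (h : CHyp T) {u : G} (hu : orderOf u = 2)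
  (huH : u ∉ Subgroup.normalizer ((T : Subgroup G) : Set G))

set_option quotPrecheck false in
local notation "D₀" => (Subgroup.normalizer ((T : Subgroup G) : Set G) ⊓
  Subgroup.map (MulEquiv.toMonoidHom (MulAut.conj u)) (Subgroup.normalizer ((T : Subgroup G) : Set G)) : Subgroup G)

include h hu huH

/-- `T` is the additive group of a field on which `D` acts by multiplication. -/
theorem exists_field : ∃ (K : Type) (_ : Field K) (τ : K → G),
    Function.Injective τ ∧ (∀ t, t ∈ (T : Subgroup G) ↔ ∃ a, τ a = t) ∧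
    (∀ a b, τ (a + b) = τ a * τ b) ∧
    ∀ c : K, c ≠ 0 → ∃ d ∈ D₀, ∀ a, d * τ a * d⁻¹ = τ (c * a) := by
  classical
  obtain ⟨s, hsH, hs⟩ := se_exists_mem h.se
  have hsT := h.mem_sylow hs hsH
  have hs1 : s ≠ 1 := fun e => by rw [e, orderOf_one] at hs; omega
  let e : FBox (Nat.card (T : Subgroup G)) ≃ ↥(T : Subgroup G) :=
    ({ toFun := FBox.val, invFun := FBox.mk, left_inv := fun _ => rfl, right_inv := fun _ => rfl } :
      FBox (Nat.card (T : Subgroup G)) ≃ Fin (Nat.card (T : Subgroup G))).trans (Finite.equivFin _).symm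
  let τ : FBox (Nat.card (T : Subgroup G)) → G := fun a => (e a : G)
  have τinj : Function.Injective τ := fun a b hab => e.injective (Subtype.ext hab)
  have τsurj : ∀ t ∈ (T : Subgroup G), ∃ a, τ a = t := fun t ht => ⟨e.symm ⟨t, ht⟩, by simp [τ]⟩
  have τmem : ∀ a, τ a ∈ (T : Subgroup G) := fun a => (e a).2
  have hex : ∀ a, ∃ d ∈ D₀, τ a ≠ 1 → d * s * d⁻¹ = τ a := by
    intro a
    by_cases ha : τ a = 1
    · exact ⟨1, one_mem _, fun h' => absurd ha h'⟩
    · obtain ⟨d, hd, hde⟩ := se_transitive h.se hu huH hs hsH (h.orderOf_eq_two (τmem a) ha)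
        (le_normalizer (τmem a))
      exact ⟨d, hd, fun _ => hde⟩
  choose δ hδ hδe using hex
  have hmemT : ∀ a b, (if τ a = 1 then 1 else δ a * τ b * (δ a)⁻¹) ∈ (T : Subgroup G) := by
    intro a b
    split
    · exact one_mem _
    · exact (mem_normalizer_iff.mp (Subgroup.mem_inf.mp (hδ a)).1 _).mp (τmem b)
  letI : Add (FBox (Nat.card (T : Subgroup G))) := ⟨fun a b => e.symm ⟨τ a * τ b, mul_mem (τmem a) (τmem b)⟩⟩
  letI : Zero (FBox (Nat.card (T : Subgroup G))) := ⟨e.symm 1⟩
  letI : One (FBox (Nat.card (T : Subgroup G))) := ⟨e.symm ⟨s, hsT⟩⟩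
  letI : Neg (FBox (Nat.card (T : Subgroup G))) := ⟨fun a => a⟩
  letI : Mul (FBox (Nat.card (T : Subgroup G))) := ⟨fun a b => e.symm ⟨_, hmemT a b⟩⟩
  have hadd : ∀ a b, τ (a + b) = τ a * τ b := fun a b => by
    show ((e (e.symm _) : ↥(T : Subgroup G)) : G) = _
    rw [e.apply_symm_apply]
  have hzero : τ 0 = 1 := by
    show ((e (e.symm 1) : ↥(T : Subgroup G)) : G) = _
    rw [e.apply_symm_apply]; rfl
  have hone : τ 1 = s := by
    show ((e (e.symm _) : ↥(T : Subgroup G)) : G) = _
    rw [e.apply_symm_apply]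
  have hmul : ∀ a b, τ (a * b) = if τ a = 1 then 1 else δ a * τ b * (δ a)⁻¹ := fun a b => by
    show ((e (e.symm _) : ↥(T : Subgroup G)) : G) = _
    rw [e.apply_symm_apply]
  have uniq : ∀ a d, τ a ≠ 1 → d ∈ D₀ → d * s * d⁻¹ = τ a → δ a = d := fun a d ha hd hde =>
    h.eq_of_conj_eq huH (hδ a) hd hs hsT ((hδe a ha).trans hde.symm)
  have hmul0 : ∀ a b, τ a ≠ 1 → τ (a * b) = δ a * τ b * (δ a)⁻¹ := fun a b ha => by
    rw [hmul, if_neg ha]
  have hmulne : ∀ a b, τ a ≠ 1 → τ b ≠ 1 → τ (a * b) ≠ 1 := fun a b ha hb e' => hb (by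
    rw [hmul0 a b ha] at e'
    simpa using e')
  have mul_comm' : ∀ a b : FBox (Nat.card (T : Subgroup G)), a * b = b * a := by
    intro a b
    apply τinj
    by_cases ha : τ a = 1
    · rw [hmul, if_pos ha, hmul, ha]
      split <;> simp
    by_cases hb : τ b = 1
    · rw [hmul, if_neg ha, hmul, if_pos hb, hb]
      simp
    rw [hmul0 a b ha, hmul0 b a hb, ← hδe a ha, ← hδe b hb,
      show δ a * (δ b * s * (δ b)⁻¹) * (δ a)⁻¹ = (δ a * δ b) * s * (δ a * δ b)⁻¹ by group,
      h.D_comm hu huH (hδ a) (hδ b)]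
    group
  letI R : CommRing (FBox (Nat.card (T : Subgroup G))) := CommRing.ofMinimalAxioms
    (fun a b c => τinj (by simp only [hadd, mul_assoc]))
    (fun a => τinj (by rw [hadd, hzero, one_mul]))
    (fun a => τinj (by rw [hzero, hadd]; exact h.sq_eq_one (τmem a)))
    (fun a b c => τinj (by
      by_cases ha : τ a = 1
      · have hab : τ (a * b) = 1 := by rw [hmul, if_pos ha]
        rw [hmul (a * b), if_pos hab, hmul a, if_pos ha]
      by_cases hb : τ b = 1
      · have hab : τ (a * b) = 1 := by rw [hmul0 a b ha, hb]; simp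
        rw [hmul (a * b), if_pos hab, hmul0 a _ ha, hmul b, if_pos hb]
        simp
      have hd : δ (a * b) = δ a * δ b := uniq _ _ (hmulne a b ha hb) (mul_mem (hδ a) (hδ b)) (by
        rw [hmul0 a b ha, ← hδe b hb]; group)
      rw [hmul0 _ c (hmulne a b ha hb), hd, hmul0 a _ ha, hmul0 b c hb]
      group))
    mul_comm'
    (fun a => τinj (by
      have h1 : τ 1 ≠ 1 := by rw [hone]; exact hs1
      rw [hmul0 1 a h1, uniq 1 1 h1 (one_mem _) (by rw [hone]; group)]
      group))
    (fun a b c => τinj (by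
      by_cases ha : τ a = 1
      · simp only [hadd, hmul, if_pos ha, one_mul]
      · simp only [hadd, hmul0 _ _ ha]
        group))
  have hF : IsField (FBox (Nat.card (T : Subgroup G))) := by
    refine ⟨⟨0, 1, fun e' => hs1 ?_⟩, mul_comm', fun {a} ha => ?_⟩
    · rw [← hone, ← e', hzero]
    · have ha1 : τ a ≠ 1 := fun e' => ha (τinj (e'.trans hzero.symm))
      obtain ⟨b, hb⟩ := τsurj ((δ a)⁻¹ * s * δ a) (by
        simpa using (mem_normalizer_iff.mp (inv_mem (Subgroup.mem_inf.mp (hδ a)).1) s).mp hsT)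
      exact ⟨b, τinj (by rw [hmul0 a b ha1, hb, hone]; group)⟩
  refine ⟨_, hF.toField, τ, τinj, fun t => ⟨τsurj t, fun ⟨a, ha⟩ => ha ▸ τmem a⟩, hadd, fun c hc => ?_⟩
  exact ⟨δ c, hδ c, fun a => (hmul0 c a fun e' => hc (τinj (e'.trans hzero.symm))).symm⟩

/-- `G` is isomorphic to `PSL(2, K)`. -/
theorem nonempty_psl : ∃ (K : Type) (_ : Field K) (_ : Fintype K),
    Fintype.card K = Nat.card (T : Subgroup G) ∧ Nonempty (G ≃* ProjectiveSpecialLinearGroup (Fin 2) K) := by
  classical
  obtain ⟨K, fK, τ, τinj, τT, hadd, hscal⟩ := h.exists_field hu huH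
  have τmem : ∀ a, τ a ∈ (T : Subgroup G) := fun a => (τT _).mpr ⟨a, rfl⟩
  have τsurj : ∀ t ∈ (T : Subgroup G), ∃ a, τ a = t := fun t ht => (τT t).mp ht
  haveI : Finite K := Finite.of_injective τ τinj
  let _ : Fintype K := Fintype.ofFinite K
  have hKc : Fintype.card K = Nat.card (T : Subgroup G) := by
    rw [← Nat.card_eq_fintype_card]
    exact Nat.card_eq_of_bijective (fun a => (⟨τ a, τmem a⟩ : ↥(T : Subgroup G)))
      ⟨fun a b e => τinj (congrArg Subtype.val e), fun t => by
        obtain ⟨a, ha⟩ := τsurj t.1 t.2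
        exact ⟨a, Subtype.ext ha⟩⟩
  refine ⟨K, fK, inferInstance, hKc, ?_⟩
  have hτ0 : τ 0 = 1 := by
    have := hadd 0 0
    rw [add_zero] at this
    exact mul_eq_left.mp this.symm
  have two0 : ∀ a : K, a + a = 0 := fun a => τinj (by rw [hadd, hτ0]; exact h.sq_eq_one (τmem a))
  set x : G ⧸ Subgroup.normalizer ((T : Subgroup G) : Set G) := QuotientGroup.mk 1
  set y : G ⧸ Subgroup.normalizer ((T : Subgroup G) : Set G) := QuotientGroup.mk u
  have hTx : ∀ a : K, τ a • x = x := fun a => by
    rw [MulAction.Quotient.smul_mk, QuotientGroup.eq, smul_eq_mul]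
    simpa using le_normalizer (τmem a)
  have hne : ∀ a : K, τ a • y ≠ x := fun a e =>
    xy huH (MulAction.injective (τ a) (e.trans (hTx a).symm)).symm
  let f : OnePoint K → G ⧸ Subgroup.normalizer ((T : Subgroup G) : Set G) :=
    fun p => p.elim x fun a => τ a • y
  have hf : Function.Bijective f := by
    refine ⟨?_, fun z => ?_⟩
    · intro p q e
      induction p using OnePoint.rec with
      | infty =>
        induction q using OnePoint.rec with
        | infty => rfl
        | coe b => exact absurd e.symm (hne b)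
      | coe a =>
        induction q using OnePoint.rec with
        | infty => exact absurd e (hne a)
        | coe b => exact congrArg _ (τinj (h.T_smul_inj huH (τmem a) (τmem b) e))
    · by_cases hz : z = x
      · exact ⟨∞, hz.symm⟩
      · obtain ⟨t, ht, e⟩ := h.exists_T_smul hu huH hz
        obtain ⟨a, rfl⟩ := τsurj t ht
        exact ⟨a, e⟩
  let B := Equiv.ofBijective f hf
  let ρ : G →* Equiv.Perm (OnePoint K) :=
    (B.symm.permCongrHom).toMonoidHom.comp (MulAction.toPermHom G _)
  have hρ : ∀ g p q, g • f p = f q → ρ g p = q := fun g p q e => by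
    show B.symm (g • B p) = q
    rw [Equiv.symm_apply_eq]
    exact e
  have hρi : Function.Injective ρ := by
    rw [injective_iff_map_eq_one]
    intro g hg
    have hp : ∀ p, g • f p = f p := fun p => by
      have h1 : B.symm (g • B p) = p := DFunLike.congr_fun hg p
      exact (Equiv.symm_apply_eq _).mp h1
    exact h.fix_three hu huH (x₁ := f ∞) (x₂ := f ((0 : K) : OnePoint K)) (x₃ := f ((1 : K) : OnePoint K))
      (hne 0).symm (hne 1).symm (fun e => zero_ne_one (α := K) (OnePoint.coe_injective (hf.1 e)))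
      (hp _) (hp _) (hp _)
  have hy0 : f ((0 : K) : OnePoint K) = y := by show τ 0 • y = y; rw [hτ0, one_smul]
  have hux : u • x = y := ux u
  have huy : u • y = x := inv_smul_swap hu hux
  have hdsc : ∀ d ∈ D₀, ∀ c : K, (∀ a, d * τ a * d⁻¹ = τ (c * a)) →
      d • x = x ∧ ∀ a : K, d • f (a : OnePoint K) = f ((c * a : K) : OnePoint K) := by
    intro d hd c hdc
    obtain ⟨dx, dy⟩ := (mem_pair_iff u d).mp hd
    refine ⟨dx, fun a => ?_⟩
    show d • τ a • y = τ (c * a) • y
    rw [← hdc a, mul_smul, mul_smul, inv_smul_eq_iff.mpr (show y = d • y from dy.symm)]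
  -- where `u` sends `1`
  obtain ⟨k, hk⟩ : ∃ k : K, u • f ((1 : K) : OnePoint K) = f (k : OnePoint K) := by
    obtain ⟨p, hp⟩ := hf.2 (u • f ((1 : K) : OnePoint K))
    induction p using OnePoint.rec with
    | infty =>
      exfalso
      have : f ((1 : K) : OnePoint K) = f ((0 : K) : OnePoint K) := by
        rw [hy0, ← hux]
        exact (inv_smul_swap hu hp.symm).symm
      exact one_ne_zero (OnePoint.coe_injective (hf.1 this))
    | coe k => exact ⟨k, hp.symm⟩
  have hk0 : k ≠ 0 := by
    rintro rfl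
    rw [hy0] at hk
    refine hne 1 ?_
    exact (inv_smul_swap hu hk).symm.trans huy
  -- the involution `a ↦ a⁻¹`
  obtain ⟨v, vinf, vzero, vne⟩ : ∃ v : G, v • x = y ∧ v • y = x ∧
      ∀ a : K, a ≠ 0 → v • f (a : OnePoint K) = f ((a⁻¹ : K) : OnePoint K) := by
    obtain ⟨e, he, hec⟩ := hscal k hk0
    obtain ⟨ex', hef⟩ := hdsc e he k hec
    obtain ⟨-, ey⟩ := (mem_pair_iff u e).mp he
    refine ⟨e⁻¹ * u, by rw [mul_smul, hux, inv_smul_eq_iff]; exact ey.symm,
      by rw [mul_smul, huy, inv_smul_eq_iff]; exact ex'.symm, fun a ha => ?_⟩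
    obtain ⟨d, hd, hdc⟩ := hscal a ha
    obtain ⟨-, hdf⟩ := hdsc d hd a hdc
    have h1 : f (a : OnePoint K) = d • f ((1 : K) : OnePoint K) := by rw [hdf, mul_one]
    have h2 : u * d = d⁻¹ * u := by rw [← h.inverts hu huH d hd]; group
    rw [mul_smul, h1, ← mul_smul u, h2, mul_smul, hk, inv_smul_eq_iff, hef, inv_smul_eq_iff, hdf]
    congr 2
    field_simp
  let ψ : SpecialLinearGroup (Fin 2) K →* Equiv.Perm (OnePoint K) :=
    (MulAction.toPermHom (GL (Fin 2) K) (OnePoint K)).comp SpecialLinearGroup.toGL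
  have hψ : ∀ (A : SpecialLinearGroup (Fin 2) K) p, ψ A p = SpecialLinearGroup.toGL A • p := fun A p => rfl
  have hψρ : ∀ A, ψ A ∈ ρ.range := by
    refine Linear.transvection_induction _ (fun i j hij c => ?_) (fun A A' hA hA' => by
      rw [map_mul]; exact mul_mem hA hA')
    have h00 : (SpecialLinearGroup.toGL (SpecialLinearGroup.transvection hij c)).1 =
        Matrix.transvection i j c := rfl
    fin_cases i <;> fin_cases j
    · exact absurd rfl hij
    · refine ⟨τ c, Equiv.ext fun p => hρ _ _ _ ?_⟩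
      rw [hψ]
      induction p using OnePoint.rec with
      | infty =>
        rw [OnePoint.smul_infty_eq_ite]
        simp [h00, Matrix.transvection]
        exact hTx c
      | coe a =>
        rw [OnePoint.smul_some_eq_ite]
        simp [h00, Matrix.transvection]
        show τ c • τ a • y = τ (a + c) • y
        rw [← mul_smul, ← hadd, add_comm]
    · refine ⟨v * τ c * v, Equiv.ext fun p => hρ _ _ _ ?_⟩
      rw [hψ]
      induction p using OnePoint.rec with
      | infty =>
        rw [OnePoint.smul_infty_eq_ite]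
        simp [h00, Matrix.transvection]
        show (v * τ c * v) • x = _
        rw [mul_smul, mul_smul, vinf]
        by_cases hc : c = 0
        · subst hc
          rw [if_pos rfl, hτ0, one_smul, vzero]
          rfl
        · rw [if_neg hc]
          exact vne c hc
      | coe a =>
        rw [OnePoint.smul_some_eq_ite]
        simp [h00, Matrix.transvection]
        rw [mul_smul, mul_smul]
        by_cases ha : a = 0
        · subst ha
          rw [hy0, vzero, hTx, vinf]
          simp [hy0]
        rw [vne a ha]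
        have h1 : τ c • f ((a⁻¹ : K) : OnePoint K) = f ((a⁻¹ + c : K) : OnePoint K) := by
          show τ c • τ a⁻¹ • y = _
          rw [← mul_smul, ← hadd, add_comm]
          rfl
        rw [h1]
        by_cases hc : a⁻¹ + c = 0
        · rw [if_pos (by rw [show c * a + 1 = (a⁻¹ + c) * a by field_simp; ring, hc, zero_mul]), hc,
            hy0, vzero]
          rfl
        · rw [if_neg (fun e => hc (by
            rw [show a⁻¹ + c = (c * a + 1) * a⁻¹ by field_simp; ring, e, zero_mul])), vne _ hc]
          congr 2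
          field_simp
          ring
    · exact absurd rfl hij
  have hψi : Function.Injective ψ := by
    rw [injective_iff_map_eq_one]
    intro A hA
    have hp : ∀ p, SpecialLinearGroup.toGL A • p = p := fun p => DFunLike.congr_fun hA p
    have e1 := hp ∞
    have e2 := hp ((0 : K) : OnePoint K)
    have e3 := hp ((1 : K) : OnePoint K)
    rw [OnePoint.smul_infty_eq_ite] at e1
    rw [OnePoint.smul_some_eq_ite] at e2 e3
    have h10 : A.1 1 0 = 0 := by
      by_contra hc
      simp [hc] at e1
    simp [h10] at e2 e3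
    have hdet := A.2
    rw [det_fin_two] at hdet
    simp [h10] at hdet
    have h11 : A.1 1 1 ≠ 0 := fun e => by simp [e] at hdet
    simp [h11] at e2 e3
    simp [e2, div_eq_one_iff_eq h11] at e3
    rw [← e3, mul_self_eq_one_iff] at hdet
    have neg1 : (-1 : K) = 1 := neg_eq_of_add_eq_zero_left (two0 1)
    rw [neg1, or_self] at hdet
    apply Subtype.ext
    ext i j
    fin_cases i <;> fin_cases j
    · simpa using hdet
    · simpa using e2
    · simpa using h10
    · simpa [← e3] using hdet
  have hle : ψ.range ≤ ρ.range := by rintro _ ⟨A, rfl⟩; exact hψρ A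
  have hcard : Nat.card ψ.range = Nat.card ρ.range := by
    rw [← Nat.card_congr (MonoidHom.ofInjective hψi).toEquiv,
      ← Nat.card_congr (MonoidHom.ofInjective hρi).toEquiv, Linear.card_SL_two, h.card_G hu huH, hKc,
      ← one_pow 2, Nat.sq_sub_sq]
    ring
  have heq : ψ.range = ρ.range := Subgroup.eq_of_le_of_card_ge hle hcard.ge
  have hcen : Subgroup.center (SpecialLinearGroup (Fin 2) K) = ⊥ := by
    rw [← Subgroup.card_eq_one, Linear.card_center_SL, hKc, ← Nat.coprime_iff_gcd_eq_one]
    obtain ⟨m, hm⟩ := IsPGroup.iff_card.mp T.2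
    have := h.four_le
    rw [Nat.prime_two.coprime_iff_not_dvd, hm]
    rw [hm] at this
    have hm1 : m ≠ 0 := fun e => by rw [e] at this; simp at this
    have := dvd_pow_self 2 hm1
    omega
  exact ⟨(MonoidHom.ofInjective hρi).trans ((MulEquiv.subgroupCongr heq.symm).trans
    ((MonoidHom.ofInjective hψi).symm.trans
      (QuotientGroup.quotientBot.symm.trans (QuotientGroup.quotientMulEquivOfEq hcen.symm))))⟩

end CHyp

end Cfsg.Agent.TwoGroups
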