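import Cfsg.Agent.TwoGroups.SixtyFourModel

set_option autoImplicit false
set_option linter.style.haveILetI false
set_option linter.unusedSectionVars false
open scoped commutatorElement

namespace Cfsg.Agent.TwoGroups.SixtyFour

open Cfsg.Agent.Fusion.Heis Cfsg.Agent.Fusion.PSLn Cfsg.Agent.KnownB Cfsg.Agent.KnownB.AutPSL

variable {T : Type*} [Group T] [Finite T]

theorem fixed_shape {ρ x : MulAut T} (s : Setup ρ x) (C : Subgroup T) (hC : ∀ y, y ∈ C ↔ x y = y) :
    Nonempty (↥C ≃* DihedralGroup 4) ∨ Nonempty (↥C ≃* QuaternionGroup 2) := by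
  classical
  obtain ⟨z, hz, hz1, hzx⟩ := s.exists_z
  obtain ⟨e, f, hxe, hxf, hef, he2, hf2⟩ := s.exists_pair hz hz1 hzx
  obtain ⟨e', f', he', hf', hef', hcent⟩ := s.exists_involutions hz hz1 hzx hef he2 hf2
  haveI : Fintype (GaloisField 2 2) := Fintype.ofFinite _
  obtain ⟨ω, hω⟩ := exists_four (F := GaloisField 2 2) (Fintype.card_eq_nat_card.trans
    (GaloisField.card 2 2 two_ne_zero))
  obtain ⟨Ψ, hΨ⟩ := s.exists_equiv hω he' hf' hef' hz hz1
  have central : ∀ y, ⁅y, e⁆ = 1 → ⁅y, f⁆ = 1 → y ∈ Subgroup.center T := by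
    intro y h1 h2
    obtain ⟨k1, k2⟩ := hcent y h1 h2
    refine Subgroup.mem_center_iff.mpr fun g => ?_
    have horb : ∀ v a, ⁅y, v⁆ = 1 → ⁅y, Setup.orb ρ ω v a⁆ = 1 := fun v a hv => by
      unfold Setup.orb
      split_ifs <;> simp [s.shift_right, hv]
    obtain ⟨a, b, c, huv⟩ := hΨ (Ψ.symm g)
    rw [Ψ.apply_symm_apply] at huv
    apply Eq.symm
    rw [← commutatorElement_eq_one_iff_mul_comm, huv, s.comm_mul_right, s.comm_mul_right,
      horb _ _ k2, horb _ _ k1, Setup.comm_center (Setup.orb_mem s hω hz _), one_mul, one_mul]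
  have hzz := s.sq_eq_one hz
  have hzC : z ∈ C := (hC z).mpr hzx
  have heC : e ∈ C := (hC e).mpr hxe
  have hfC : f ∈ C := (hC f).mpr hxf
  have cmem : ∀ u v, u ∈ C → v ∈ C → ⁅u, v⁆ = 1 ∨ ⁅u, v⁆ = z := fun u v hu hv =>
    s.fixed_center hz hz1 hzx (s.comm_mem u v) (by rw [map_commutatorElement, (hC u).mp hu, (hC v).mp hv])
  let g : Fin 2 × Fin 2 × Fin 2 → C := fun t =>
    ⟨e ^ (t.1 : ℕ) * f ^ (t.2.1 : ℕ) * z ^ (t.2.2 : ℕ),
      mul_mem (mul_mem (pow_mem heC _) (pow_mem hfC _)) (pow_mem hzC _)⟩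
  have hzc : ∀ k : ℕ, z ^ k ∈ Subgroup.center T := fun k => pow_mem hz k
  have hsurj : Function.Surjective g := by
    rintro ⟨y, hy⟩
    obtain ⟨i, hi⟩ : ∃ i : Fin 2, ⁅y, f⁆ = z ^ (i : ℕ) := by
      rcases cmem y f hy hfC with h | h
      · exact ⟨0, by simp [h]⟩
      · exact ⟨1, by simp [h]⟩
    obtain ⟨j, hj⟩ : ∃ j : Fin 2, ⁅y, e⁆ = z ^ (j : ℕ) := by
      rcases cmem y e hy heC with h | h
      · exact ⟨0, by simp [h]⟩
      · exact ⟨1, by simp [h]⟩
    set r := e ^ (i : ℕ) * f ^ (j : ℕ) with hr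
    have hrC : r ∈ C := mul_mem (pow_mem heC _) (pow_mem hfC _)
    have r1 : ⁅r, f⁆ = z ^ (i : ℕ) := by
      rw [hr, s.comm_mul_left]
      fin_cases i <;> fin_cases j <;> simp [hef]
    have r2 : ⁅r, e⁆ = z ^ (j : ℕ) := by
      rw [hr, s.comm_mul_left]
      fin_cases i <;> fin_cases j <;> simp [s.comm_symm e f, hef]
    have hm : r⁻¹ * y ∈ Subgroup.center T := by
      have hi' : ∀ v, ⁅r⁻¹, v⁆ = ⁅r, v⁆ := fun v => by
        rw [s.comm_symm v r⁻¹, s.comm_inv_right, s.comm_symm v r]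
      have hzpow : ∀ k : ℕ, z ^ k * z ^ k = 1 := fun k => by
        rw [← pow_add, ← two_mul, pow_mul, pow_two, hzz, one_pow]
      exact central _ (by rw [s.comm_mul_left, hi', r2, hj, hzpow]) (by rw [s.comm_mul_left, hi', r1, hi, hzpow])
    have hmC : x (r⁻¹ * y) = r⁻¹ * y := (hC _).mp (mul_mem (inv_mem hrC) hy)
    rcases s.fixed_center hz hz1 hzx hm hmC with h | h
    · exact ⟨(i, j, 0), Subtype.ext (by
        show r * z ^ ((0 : Fin 2) : ℕ) = y
        simp [inv_mul_eq_one.mp h])⟩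
    · exact ⟨(i, j, 1), Subtype.ext (by
        show r * z ^ ((1 : Fin 2) : ℕ) = y
        simp [← h])⟩
  have hinj : Function.Injective g := by
    rintro ⟨i, j, k⟩ ⟨i', j', k'⟩ h
    have h' : e ^ (i : ℕ) * f ^ (j : ℕ) * z ^ (k : ℕ) = e ^ (i' : ℕ) * f ^ (j' : ℕ) * z ^ (k' : ℕ) :=
      congrArg Subtype.val h
    have hF := congrArg (fun v => ⁅v, f⁆) h'
    have hE := congrArg (fun v => ⁅v, e⁆) h'
    have cz : ∀ (k : ℕ) (v : T), ⁅z ^ k, v⁆ = 1 := fun k v => by
      rw [s.comm_symm v, Setup.comm_center (hzc k)]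
    simp only [s.comm_mul_left, cz, mul_one] at hF hE
    have hi : i = i' := by
      fin_cases i <;> fin_cases i' <;> fin_cases j <;> fin_cases j' <;> simp [hef, hz1, hz1.symm] at hF ⊢
    have hj : j = j' := by
      fin_cases i <;> fin_cases i' <;> fin_cases j <;> fin_cases j' <;>
        simp [s.comm_symm e f, hef, hz1, hz1.symm] at hE ⊢
    subst hi; subst hj
    have hk := mul_left_cancel h'
    have : k = k' := by fin_cases k <;> fin_cases k' <;> simp [hz1, hz1.symm] at hk ⊢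
    rw [this]
  have hcard : Nat.card C = 8 := by
    rw [← Nat.card_congr (Equiv.ofBijective g ⟨hinj, hsurj⟩)]; simp
  have hfe : ⁅f, e⁆ = z := by rw [s.comm_symm, hef]
  have dih : ∀ u v : C, (u : T) * u = z → (v : T) * v = 1 → ⁅(v : T), (u : T)⁆ = z →
      Nonempty (↥C ≃* DihedralGroup 4) := fun u v hu hv huv => by
    refine TwoGroups.IsTwoExt.dihedral (x := u) (y := v) (N := 4) ⟨?_, by rw [hcard], by norm_num, ?_,
      Subtype.ext hv, ?_⟩
    · rw [show (4 : ℕ) = 2 ^ (1 + 1) by norm_num]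
      haveI : Fact (Nat.Prime 2) := ⟨Nat.prime_two⟩
      refine orderOf_eq_prime_pow ?_ ?_
      · intro h
        apply hz1
        rw [← hu]
        simpa [pow_two] using congrArg Subtype.val h
      · apply Subtype.ext
        rw [SubmonoidClass.coe_pow, show (2 ^ (1 + 1) : ℕ) = 2 * 2 by norm_num, pow_mul, pow_two (u : T), hu,
          pow_two, hzz]
        rfl
    · intro h
      obtain ⟨k, hk⟩ := Subgroup.mem_zpowers_iff.mp h
      apply hz1
      rw [← huv, commutatorElement_eq_one_iff_mul_comm, ← hk, SubgroupClass.coe_zpow]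
      exact ((Commute.refl (u : T)).zpow_left k).eq
    · apply Subtype.ext
      have h1 : (v : T) * u * (v : T)⁻¹ = z * u := by rw [← huv]; simp only [commutatorElement_def]; group
      rw [zpow_neg_one, Subgroup.coe_mul, Subgroup.coe_mul, Subgroup.coe_inv, Subgroup.coe_inv, h1]
      refine (inv_eq_of_mul_eq_one_right ?_).symm
      rw [← mul_assoc, Subgroup.mem_center_iff.mp hz (u : T), mul_assoc, hu, hzz]
  rcases he2 with he2 | he2 <;> rcases hf2 with hf2 | hf2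
  · exact Or.inl (dih ⟨e * f, mul_mem heC hfC⟩ ⟨f, hfC⟩ (by
      show e * f * (e * f) = z
      rw [s.sq_mul, he2, hf2, hef, one_mul, one_mul]) hf2 (by
      show ⁅f, e * f⁆ = z
      rw [s.comm_mul_right, commutatorElement_self, hfe, mul_one]))
  · exact Or.inl (dih ⟨f, hfC⟩ ⟨e, heC⟩ hf2 he2 hef)
  · exact Or.inl (dih ⟨e, heC⟩ ⟨f, hfC⟩ he2 hf2 hfe)
  · refine Or.inr (Fusion.EssFour.quaternion_of hcard (x := ⟨e, heC⟩) (y := ⟨f, hfC⟩) (z := ⟨z, hzC⟩)
      (Subtype.ext hzz) (Subtype.ext he2) (Subtype.ext hf2) (Subtype.ext ?_) (fun h => hz1 (congrArg Subtype.val h)))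
    show f⁻¹ * e * f = e * z
    have : ⁅e⁻¹, f⁻¹⁆ = z := by
      rw [s.comm_inv_right, s.comm_symm f e⁻¹, s.comm_inv_right, hfe]
    rw [← this, commutatorElement_def]; group

theorem sylow_psl34 {ρ x : MulAut T} (s : Setup ρ x) :
    ∃ (F : Type) (_ : Field F) (_ : Fintype F), Fintype.card F = 4 ∧
      ∃ S : Sylow 2 (Matrix.ProjectiveSpecialLinearGroup (Fin 3) F),
        Nonempty (T ≃* ↥(S : Subgroup (Matrix.ProjectiveSpecialLinearGroup (Fin 3) F))) := by
  classical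
  haveI : Fintype (GaloisField 2 2) := Fintype.ofFinite _
  have hF : Fintype.card (GaloisField 2 2) = 4 :=
    Fintype.card_eq_nat_card.trans (GaloisField.card 2 2 two_ne_zero)
  refine ⟨GaloisField 2 2, inferInstance, inferInstance, hF, ?_⟩
  obtain ⟨z, hz, hz1, hzx⟩ := s.exists_z
  obtain ⟨e, f, -, -, hef, he2, hf2⟩ := s.exists_pair hz hz1 hzx
  obtain ⟨e', f', he', hf', hef', -⟩ := s.exists_involutions hz hz1 hzx hef he2 hf2
  obtain ⟨ω, hω⟩ := exists_four hF
  obtain ⟨Ψ, -⟩ := s.exists_equiv hω he' hf' hef' hz hz1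
  haveI : Fact (Nat.Prime 2) := ⟨Nat.prime_two⟩
  obtain ⟨S⟩ : Nonempty (Sylow 2 (Matrix.ProjectiveSpecialLinearGroup (Fin 3) (GaloisField 2 2))) := inferInstance
  obtain ⟨g, hg⟩ := exists_proj_sylow (le_refl 3) S
  have hinj : Function.Injective ((proj g).comp (upperUni 3 (GaloisField 2 2)).subtype) := by
    rintro ⟨u, hu⟩ ⟨v, hv⟩ h
    obtain ⟨c, hc⟩ := (proj_eq_iff g u v).mp h
    exact Subtype.ext (uni_smul_eq (by norm_num) hu hv hc)
  exact ⟨S, ⟨(Ψ.symm.trans (MonoidHom.ofInjective hinj)).trans (MulEquiv.subgroupCongr (by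
    rw [hg, MonoidHom.range_comp, Subgroup.range_subtype]))⟩⟩

end Cfsg.Agent.TwoGroups.SixtyFour
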