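import Cfsg.Agent.TwoGroups.Automizer
import Cfsg.Agent.TwoGroups.CyclicTwo
import Cfsg.Agent.Transfer.AlperinChain
import Cfsg.Agent.FGS3.PGroupFrattini
import Cfsg.Prelude.Def_TwoFusion

/-!
Fusion in finite groups with dihedral Sylow 2-subgroups.
-/

set_option autoImplicit false
set_option linter.style.haveILetI false

namespace Cfsg.Agent.TwoGroups

open Subgroup

variable {G : Type*} [Group G] [Finite G]

/-- `r`, `s` are dihedral generators of the Sylow 2-subgroup `S` of order `2 ^ (k + 1)`. -/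
structure DihIn (S : Sylow 2 G) (r s : G) (k : ℕ) : Prop where
  kpos : 1 ≤ k
  rS : r ∈ (S : Subgroup G)
  sS : s ∈ (S : Subgroup G)
  ord : orderOf r = 2 ^ k
  ssq : s * s = 1
  notMem : s ∉ zpowers r
  conj : s * r * s⁻¹ = r⁻¹
  card : Nat.card (S : Subgroup G) = 2 ^ (k + 1)

theorem exists_dihIn (S : Sylow 2 G) (m : ℕ) (hm : 2 ≤ m) (eS : (S : Subgroup G) ≃* DihedralGroup m) :
    ∃ r s k, DihIn S r s k ∧ m = 2 ^ k := by
  obtain ⟨n, hn⟩ := IsPGroup.iff_card.mp S.2
  have h := isTwoExt_dihedral (by omega : 0 < m) eS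
  have hc := h.card
  rw [hn] at hc
  have hn2 : 2 ≤ n := by
    by_contra hlt
    have : 2 ^ n ≤ 2 ^ 1 := Nat.pow_le_pow_right two_pos (by omega)
    omega
  obtain ⟨k, rfl⟩ : ∃ k, n = k + 1 := ⟨n - 1, by omega⟩
  have hmk : m = 2 ^ k := by rw [pow_succ] at hc; omega
  refine ⟨(eS.symm (DihedralGroup.r 1) : G), (eS.symm (DihedralGroup.sr 0) : G), k,
    ⟨by omega, Subtype.prop _, Subtype.prop _, by rw [Subgroup.orderOf_coe, h.ord, hmk],
      congrArg Subtype.val h.ysq, ?_, ?_, hn⟩, hmk⟩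
  · intro hs
    obtain ⟨i, hi⟩ := mem_zpowers_iff.mp hs
    exact h.notMem (mem_zpowers_iff.mpr ⟨i, Subtype.ext (by simpa using hi)⟩)
  · have := congrArg Subtype.val h.conj
    simpa using this

namespace DihIn

variable {S : Sylow 2 G} {r s : G} {k : ℕ} (h : DihIn S r s k)

include h

theorem sinv : s⁻¹ = s := inv_eq_of_mul_eq_one_right h.ssq

theorem conj_zpow (i : ℤ) : s * r ^ i * s⁻¹ = r ^ (-i) := by
  rw [← _root_.conj_zpow, h.conj, inv_zpow, zpow_neg]

theorem s_mul (i : ℤ) : s * r ^ i = r ^ (-i) * s := mul_inv_eq_iff_eq_mul.mp (h.conj_zpow i)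

theorem xy_mul_xy (i j : ℤ) : r ^ i * s * (r ^ j * s) = r ^ (i - j) := by
  rw [mul_assoc, ← mul_assoc s, h.s_mul, mul_assoc, h.ssq, mul_one, ← zpow_add, sub_eq_add_neg]

theorem refl_sq (i : ℤ) : r ^ i * s * (r ^ i * s) = 1 := by rw [h.xy_mul_xy, sub_self, zpow_zero]

theorem refl_mul_rot (i j : ℤ) : r ^ i * s * r ^ j = r ^ (i - j) * s := by
  rw [mul_assoc, h.s_mul, ← mul_assoc, ← zpow_add, sub_eq_add_neg]

omit h in
theorem rot_mul_refl (i j : ℤ) : r ^ i * (r ^ j * s) = r ^ (i + j) * s := by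
  rw [← mul_assoc, ← zpow_add]

theorem refl_notMem (i : ℤ) : r ^ i * s ∉ zpowers r := fun hm =>
  h.notMem ((Subgroup.mul_mem_cancel_left _ (zpow_mem_zpowers r i)).mp hm)

theorem rot_le : zpowers r ≤ (S : Subgroup G) := zpowers_le.mpr h.rS

theorem refl_mem (i : ℤ) : r ^ i * s ∈ (S : Subgroup G) := mul_mem (zpow_mem h.rS i) h.sS

theorem relIndex_rot : (zpowers r).relIndex (S : Subgroup G) = 2 := by
  have h1 := ((zpowers r).subgroupOf (S : Subgroup G)).card_mul_index
  rw [Nat.card_congr (subgroupOfEquivOfLe h.rot_le).toEquiv, Nat.card_zpowers, h.ord, h.card, pow_succ] at h1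
  exact Nat.eq_of_mul_eq_mul_left (by positivity) h1

theorem exists_eq {g : G} (hg : g ∈ (S : Subgroup G)) : ∃ i : ℤ, g = r ^ i ∨ g = r ^ i * s := by
  by_cases hgr : g ∈ zpowers r
  · obtain ⟨i, hi⟩ := mem_zpowers_iff.mp hgr
    exact ⟨i, Or.inl hi.symm⟩
  · have h1 := (Subgroup.mul_mem_iff_of_index_two (H := (zpowers r).subgroupOf (S : Subgroup G))
      h.relIndex_rot (a := ⟨g, hg⟩) (b := ⟨s, h.sS⟩)).mpr
      ⟨fun h1 => absurd h1 hgr, fun h1 => absurd h1 h.notMem⟩
    obtain ⟨i, hi⟩ := mem_zpowers_iff.mp (show g * s ∈ zpowers r from h1)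
    exact ⟨i, Or.inr (by rw [hi, mul_assoc, h.ssq, mul_one])⟩

theorem zpow_eq_iff (i j : ℤ) : r ^ i = r ^ j ↔ (2 ^ k : ℤ) ∣ j - i := by
  rw [zpow_eq_zpow_iff_modEq, h.ord, Int.modEq_iff_dvd]
  push_cast
  rfl

theorem two_dvd : (2 : ℤ) ∣ 2 ^ k := dvd_pow_self 2 (by have := h.kpos; omega)

theorem zz : r ^ ((2 : ℤ) ^ (k - 1)) * r ^ ((2 : ℤ) ^ (k - 1)) = 1 := by
  rw [← zpow_add, ← zpow_zero r, h.zpow_eq_iff]
  obtain ⟨j, rfl⟩ : ∃ j, k = j + 1 := ⟨k - 1, by have := h.kpos; omega⟩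
  exact ⟨-1, by rw [Nat.add_sub_cancel, pow_succ]; ring⟩

theorem z_ne : r ^ ((2 : ℤ) ^ (k - 1)) ≠ 1 := by
  rw [← zpow_zero r, Ne, h.zpow_eq_iff]
  obtain ⟨j, rfl⟩ : ∃ j, k = j + 1 := ⟨k - 1, by have := h.kpos; omega⟩
  rw [Nat.add_sub_cancel, zero_sub, dvd_neg]
  intro hd
  have h1 := Int.le_of_dvd (by positivity) hd
  rw [pow_succ] at h1
  have : (0 : ℤ) < 2 ^ j := by positivity
  omega

theorem z_comm (i : ℤ) : Commute (r ^ ((2 : ℤ) ^ (k - 1))) (r ^ i * s) := by
  refine (Commute.zpow_zpow_self r _ i).mul_right ?_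
  show _ = _
  rw [h.s_mul, zpow_neg, inv_eq_of_mul_eq_one_right h.zz]

theorem rot_sq {i : ℤ} (hi : r ^ i * r ^ i = 1) : r ^ i = 1 ∨ r ^ i = r ^ ((2 : ℤ) ^ (k - 1)) := by
  rw [← zpow_add, ← zpow_zero r, h.zpow_eq_iff, zero_sub, dvd_neg] at hi
  obtain ⟨j, rfl⟩ : ∃ j, k = j + 1 := ⟨k - 1, by have := h.kpos; omega⟩
  obtain ⟨c, hc⟩ := hi
  have hi' : i = 2 ^ j * c := by rw [pow_succ] at hc; linarith
  rw [Nat.add_sub_cancel]
  rcases Int.even_or_odd c with ⟨e, he⟩ | ⟨e, he⟩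
  · exact Or.inl (by rw [← zpow_zero r, h.zpow_eq_iff]; exact ⟨-e, by rw [hi', he, pow_succ]; ring⟩)
  · exact Or.inr (by rw [h.zpow_eq_iff]; exact ⟨-e, by rw [hi', he, pow_succ]; ring⟩)

/-- The four-group through `z` and the reflection `r ^ i * s`. -/
def four (i : ℤ) : Subgroup G where
  carrier := {g | g = 1 ∨ g = r ^ ((2 : ℤ) ^ (k - 1)) ∨ g = r ^ i * s ∨
    g = r ^ ((2 : ℤ) ^ (k - 1)) * (r ^ i * s)}
  one_mem' := Or.inl rfl
  mul_mem' := by
    have hz := h.zz
    have hc : r ^ i * s * r ^ ((2 : ℤ) ^ (k - 1)) = r ^ ((2 : ℤ) ^ (k - 1)) * (r ^ i * s) := (h.z_comm i).eq.symm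
    have ht := h.refl_sq i
    have h1 : r ^ i * s * (r ^ ((2 : ℤ) ^ (k - 1)) * (r ^ i * s)) = r ^ ((2 : ℤ) ^ (k - 1)) := by
      rw [← mul_assoc, hc, mul_assoc, ht, mul_one]
    rintro a b (rfl | rfl | rfl | rfl) (rfl | rfl | rfl | rfl)
    · exact Or.inl (one_mul _)
    · exact Or.inr (Or.inl (one_mul _))
    · exact Or.inr (Or.inr (Or.inl (one_mul _)))
    · exact Or.inr (Or.inr (Or.inr (one_mul _)))
    · exact Or.inr (Or.inl (mul_one _))
    · exact Or.inl hz
    · exact Or.inr (Or.inr (Or.inr rfl))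
    · exact Or.inr (Or.inr (Or.inl (by rw [← mul_assoc, hz, one_mul])))
    · exact Or.inr (Or.inr (Or.inl (mul_one _)))
    · exact Or.inr (Or.inr (Or.inr hc))
    · exact Or.inl ht
    · exact Or.inr (Or.inl h1)
    · exact Or.inr (Or.inr (Or.inr (mul_one _)))
    · exact Or.inr (Or.inr (Or.inl (by rw [mul_assoc, hc, ← mul_assoc, hz, one_mul])))
    · exact Or.inr (Or.inl (by rw [mul_assoc, ht, mul_one]))
    · exact Or.inl (by rw [mul_assoc, h1, hz])
  inv_mem' := by
    rintro a (rfl | rfl | rfl | rfl)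
    · exact Or.inl inv_one
    · exact Or.inr (Or.inl (inv_eq_of_mul_eq_one_right h.zz))
    · exact Or.inr (Or.inr (Or.inl (inv_eq_of_mul_eq_one_right (h.refl_sq i))))
    · exact Or.inr (Or.inr (Or.inr (by
        rw [mul_inv_rev, inv_eq_of_mul_eq_one_right (h.refl_sq i), inv_eq_of_mul_eq_one_right h.zz,
          ← (h.z_comm i).eq])))

theorem mem_four {i : ℤ} {g : G} : g ∈ h.four i ↔ g = 1 ∨ g = r ^ ((2 : ℤ) ^ (k - 1)) ∨ g = r ^ i * s ∨
    g = r ^ ((2 : ℤ) ^ (k - 1)) * (r ^ i * s) := Iff.rfl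

theorem z_mem_four (i : ℤ) : r ^ ((2 : ℤ) ^ (k - 1)) ∈ h.four i := Or.inr (Or.inl rfl)

theorem t_mem_four (i : ℤ) : r ^ i * s ∈ h.four i := Or.inr (Or.inr (Or.inl rfl))

theorem four_le (i : ℤ) : h.four i ≤ (S : Subgroup G) := by
  rintro g (rfl | rfl | rfl | rfl)
  exacts [one_mem _, zpow_mem h.rS _, h.refl_mem i, mul_mem (zpow_mem h.rS _) (h.refl_mem i)]

theorem isKleinFour_four (i : ℤ) : IsKleinFour (h.four i) := by
  classical
  let _ : Fintype ↥(h.four i) := Fintype.ofFinite _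
  refine isKleinFour_of ?_ ?_
  · have ht1 : r ^ i * s ≠ 1 := fun e => h.refl_notMem i (e ▸ one_mem _)
    have htz : r ^ i * s ≠ r ^ ((2 : ℤ) ^ (k - 1)) := fun e => h.refl_notMem i (e ▸ zpow_mem_zpowers r _)
    have hzt1 : r ^ ((2 : ℤ) ^ (k - 1)) * (r ^ i * s) ≠ 1 := fun e => htz (by
      rw [← inv_eq_of_mul_eq_one_right e, inv_eq_of_mul_eq_one_right h.zz])
    rw [show Nat.card ↥(h.four i) = Nat.card ↥(({1, r ^ ((2 : ℤ) ^ (k - 1)), r ^ i * s,
        r ^ ((2 : ℤ) ^ (k - 1)) * (r ^ i * s)} : Finset G) : Set G) from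
          Nat.card_congr (Equiv.setCongr (show (h.four i : Set G) = _ by ext g; simp [h.mem_four])),
      Nat.card_coe_set_eq, Set.ncard_coe_finset, Finset.card_insert_of_notMem, Finset.card_insert_of_notMem,
      Finset.card_insert_of_notMem, Finset.card_singleton]
    · simp only [Finset.mem_singleton]
      exact fun e => h.z_ne (mul_eq_right.mp e.symm)
    · simp only [Finset.mem_insert, Finset.mem_singleton, not_or]
      exact ⟨htz.symm, fun e => ht1 (mul_eq_left.mp e.symm)⟩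
    · simp only [Finset.mem_insert, Finset.mem_singleton, not_or]
      exact ⟨h.z_ne.symm, ht1.symm, hzt1.symm⟩
  · rintro g (rfl | rfl | rfl | rfl)
    · exact one_mul 1
    · exact h.zz
    · exact h.refl_sq i
    · rw [mul_assoc, ← mul_assoc (r ^ i * s), ← (h.z_comm i).eq, mul_assoc, h.refl_sq i, mul_one, h.zz]

/-- The four-subgroups of `S`. -/
theorem eq_four {U : Subgroup G} (hU : IsKleinFour U) (hUS : U ≤ S) : ∃ i, U = h.four i := by
  classical
  obtain ⟨h4, hsq, -⟩ := four_facts hU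
  have hrot : ∀ u ∈ U, u ∈ zpowers r → u = 1 ∨ u = r ^ ((2 : ℤ) ^ (k - 1)) := by
    intro u hu hur
    obtain ⟨i, rfl⟩ := mem_zpowers_iff.mp hur
    exact h.rot_sq (hsq _ hu)
  obtain ⟨t, htU, htr⟩ : ∃ t ∈ U, t ∉ zpowers r := by
    by_contra hcon
    push Not at hcon
    have : Nat.card U ≤ 2 := by
      refine le_trans (Nat.card_le_card_of_injective
        (fun u : U => decide ((u : G) = 1)) (fun u v e => ?_)) (by simp)
      simp only [decide_eq_decide] at e
      rcases hrot u u.2 (hcon u u.2) with hu | hu <;> rcases hrot v v.2 (hcon v v.2) with hv | hv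
      · exact Subtype.ext (hu.trans hv.symm)
      · exact absurd (hv ▸ e.mp hu) h.z_ne
      · exact absurd (hu ▸ e.mpr hv) h.z_ne
      · exact Subtype.ext (hu.trans hv.symm)
    omega
  obtain ⟨i, hi⟩ := h.exists_eq (hUS htU)
  replace hi : t = r ^ i * s := hi.resolve_left fun e => htr (e ▸ zpow_mem_zpowers r i)
  subst hi
  have hz : r ^ ((2 : ℤ) ^ (k - 1)) ∈ U := by
    obtain ⟨u, huU, hu1, hut⟩ : ∃ u ∈ U, u ≠ 1 ∧ u ≠ r ^ i * s := by
      by_contra hcon
      push Not at hcon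
      have : Nat.card U ≤ 2 := by
        refine le_trans (Nat.card_le_card_of_injective
          (fun u : U => decide ((u : G) = 1)) (fun u v e => ?_)) (by simp)
        simp only [decide_eq_decide] at e
        by_cases hu : (u : G) = 1
        · exact Subtype.ext (hu.trans (e.mp hu).symm)
        · exact Subtype.ext ((hcon u u.2 hu).trans (hcon v v.2 (fun hv => hu (e.mpr hv))).symm)
      omega
    by_cases hur : u ∈ zpowers r
    · exact (hrot u huU hur).resolve_left hu1 ▸ huU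
    · obtain ⟨j, hj⟩ := h.exists_eq (hUS huU)
      replace hj : u = r ^ j * s := hj.resolve_left fun e => hur (e ▸ zpow_mem_zpowers r j)
      subst hj
      have hm := mul_mem huU htU
      rcases hrot _ hm (by rw [h.xy_mul_xy]; exact zpow_mem_zpowers r _) with e | e
      · exact absurd (mul_right_cancel (e.trans (h.refl_sq i).symm)) hut
      · exact e ▸ hm
  refine ⟨i, (Subgroup.eq_of_le_of_card_ge ?_ ?_).symm⟩
  · rintro g (rfl | rfl | rfl | rfl)
    exacts [one_mem _, hz, htU, mul_mem hz htU]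
  · rw [h4, (four_facts (h.isKleinFour_four i)).1]

/-- `⟨r ^ 2, r ^ e * s⟩`. -/
def evenSub (e : ℤ) : Subgroup G where
  carrier := {g | ∃ m : ℤ, g = r ^ (2 * m) ∨ g = r ^ (e + 2 * m) * s}
  one_mem' := ⟨0, Or.inl (by simp)⟩
  mul_mem' := by
    rintro a b ⟨m, rfl | rfl⟩ ⟨l, rfl | rfl⟩
    · exact ⟨m + l, Or.inl (by rw [← zpow_add]; congr 1; ring)⟩
    · exact ⟨m + l, Or.inr (by rw [← mul_assoc, ← zpow_add]; congr 2; ring)⟩
    · exact ⟨m - l, Or.inr (by rw [mul_assoc, h.s_mul, ← mul_assoc, ← zpow_add]; congr 2; ring)⟩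
    · exact ⟨m - l, Or.inl (by rw [h.xy_mul_xy]; congr 1; ring)⟩
  inv_mem' := by
    rintro a ⟨m, rfl | rfl⟩
    · exact ⟨-m, Or.inl (by rw [← zpow_neg]; congr 1; ring)⟩
    · exact ⟨m, Or.inr (inv_eq_of_mul_eq_one_right (h.refl_sq _))⟩

theorem refl_mem_evenSub {e i : ℤ} : r ^ i * s ∈ h.evenSub e ↔ 2 ∣ i - e := by
  constructor
  · rintro ⟨m, hm | hm⟩
    · exact absurd (hm ▸ zpow_mem_zpowers r _) (h.refl_notMem i)
    · rw [mul_left_inj, h.zpow_eq_iff] at hm
      have := h.two_dvd.trans hm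
      omega
  · rintro ⟨m, hm⟩
    exact ⟨m, Or.inr (by rw [← hm]; congr 2; ring)⟩

theorem rot_mem_evenSub {e i : ℤ} (hi : 2 ∣ i) : r ^ i ∈ h.evenSub e := by
  obtain ⟨m, rfl⟩ := hi
  exact ⟨m, Or.inl rfl⟩

theorem evenSub_le (e : ℤ) : h.evenSub e ≤ (S : Subgroup G) := by
  rintro g ⟨m, rfl | rfl⟩
  exacts [zpow_mem h.rS _, h.refl_mem _]

theorem commutator_mem_evenSub (e : ℤ) {a b : G} (ha : a ∈ (S : Subgroup G)) (hb : b ∈ (S : Subgroup G)) :
    a * b * a⁻¹ * b⁻¹ ∈ h.evenSub e := by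
  have hi : ∀ i : ℤ, (r ^ i * s)⁻¹ = r ^ i * s := fun i => inv_eq_of_mul_eq_one_right (h.refl_sq i)
  obtain ⟨i, rfl | rfl⟩ := h.exists_eq ha <;> obtain ⟨j, rfl | rfl⟩ := h.exists_eq hb
  · exact ⟨0, Or.inl (by rw [← zpow_neg, ← zpow_neg, ← zpow_add, ← zpow_add, ← zpow_add]; congr 1; ring)⟩
  · exact ⟨i, Or.inl (by
      rw [hi, ← zpow_neg, rot_mul_refl, h.refl_mul_rot, h.xy_mul_xy]; congr 1; ring)⟩
  · exact ⟨-j, Or.inl (by
      rw [hi, h.refl_mul_rot, h.xy_mul_xy, ← zpow_neg, ← zpow_add]; congr 1; ring)⟩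
  · exact ⟨i - j, Or.inl (by
      rw [hi, hi, h.xy_mul_xy, rot_mul_refl, h.xy_mul_xy]; congr 1; ring)⟩

theorem four_le_evenSub {e i : ℤ} (hk : 2 ≤ k) (hi : 2 ∣ i - e) : h.four i ≤ h.evenSub e := by
  have hz : r ^ ((2 : ℤ) ^ (k - 1)) ∈ h.evenSub e := h.rot_mem_evenSub (dvd_pow_self 2 (by omega))
  rintro g (rfl | rfl | rfl | rfl)
  exacts [one_mem _, hz, h.refl_mem_evenSub.mpr hi, mul_mem hz (h.refl_mem_evenSub.mpr hi)]

/-- Conjugating four-groups inside `S`. -/
theorem four_add_two (i j : ℤ) : (h.four i).map (MulAut.conj (r ^ j)).toMonoidHom = h.four (i + 2 * j) := by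
  refine Subgroup.eq_of_le_of_card_ge ?_ ?_
  · have hz : r ^ j * r ^ ((2 : ℤ) ^ (k - 1)) * (r ^ j)⁻¹ = r ^ ((2 : ℤ) ^ (k - 1)) := by
      rw [(Commute.zpow_zpow_self r j _).eq, mul_inv_cancel_right]
    have ht : r ^ j * (r ^ i * s) * (r ^ j)⁻¹ = r ^ (i + 2 * j) * s := by
      rw [← zpow_neg, mul_assoc, mul_assoc (r ^ i), h.s_mul, ← mul_assoc (r ^ i), ← mul_assoc, ← zpow_add,
        ← zpow_add]
      congr 2; ring
    rintro _ ⟨g, hg, rfl⟩
    simp only [MulEquiv.coe_toMonoidHom, MulAut.conj_apply]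
    rcases hg with rfl | rfl | rfl | rfl
    · exact Or.inl (by simp)
    · exact Or.inr (Or.inl hz)
    · exact Or.inr (Or.inr (Or.inl ht))
    · refine Or.inr (Or.inr (Or.inr ?_))
      rw [← hz, ← ht, hz]
      calc r ^ j * (r ^ ((2 : ℤ) ^ (k - 1)) * (r ^ i * s)) * (r ^ j)⁻¹
          = (r ^ j * r ^ ((2 : ℤ) ^ (k - 1)) * (r ^ j)⁻¹) * (r ^ j * (r ^ i * s) * (r ^ j)⁻¹) := by group
        _ = _ := by rw [hz]
  · rw [Transfer.card_map_conj, (four_facts (h.isKleinFour_four _)).1, (four_facts (h.isKleinFour_four _)).1]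

theorem four_cases (i : ℤ) : ∃ a ∈ (S : Subgroup G),
    (h.four i).map (MulAut.conj a).toMonoidHom = h.four 0 ∨ (h.four i).map (MulAut.conj a).toMonoidHom = h.four 1 := by
  refine ⟨r ^ (-(i / 2)), zpow_mem h.rS _, ?_⟩
  rw [h.four_add_two]
  rcases Int.emod_two_eq_zero_or_one i with e | e
  · exact Or.inl (congrArg h.four (by omega))
  · exact Or.inr (congrArg h.four (by omega))

/-- Subgroups of `S` other than four-groups have 2-groups as automizers. -/
theorem centralizes_or_four {B : Subgroup G} (hB : B ≤ S) {g : G} (hg : g ∈ Subgroup.normalizer (B : Set G))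
    (hgo : Odd (orderOf g)) : g ∈ centralizer (B : Set G) ∨ IsKleinFour B := by
  have hBp : IsPGroup 2 B := S.2.to_le hB
  set C := B ⊓ zpowers r
  haveI : IsCyclic C := Subgroup.isCyclic_of_le inf_le_right
  have hidx : C.relIndex B ≤ 2 := by
    rw [show C.relIndex B = (zpowers r).relIndex B from inf_relIndex_left _ _]
    exact (Subgroup.relIndex_le_of_le_right hB (by rw [h.relIndex_rot]; norm_num)).trans h.relIndex_rot.le
  by_cases hC3 : 3 ≤ Nat.card C
  · refine Or.inl (odd_centralizes hBp inf_le_left inferInstance hidx hg ?_ hgo)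
    obtain ⟨⟨c, hc⟩, hgen⟩ := IsCyclic.exists_generator (α := C)
    have hcz : zpowers c = C := by
      refine le_antisymm (zpowers_le.mpr hc) fun x hx => ?_
      obtain ⟨i, hi⟩ := mem_zpowers_iff.mp (hgen ⟨x, hx⟩)
      exact mem_zpowers_iff.mpr ⟨i, congrArg Subtype.val hi⟩
    have hco : 3 ≤ orderOf c := by rwa [← Nat.card_zpowers, hcz]
    rw [Transfer.mem_normalizer_iff_map_conj]
    refine Subgroup.eq_of_le_of_card_ge ?_ (Transfer.card_map_conj g C).ge
    show map (MulAut.conj g).toMonoidHom C ≤ C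
    rw [← hcz, MonoidHom.map_zpowers, zpowers_le, hcz]
    have hgc : g * c * g⁻¹ ∈ B := (mem_normalizer_iff.mp hg c).mp (Subgroup.mem_inf.mp hc).1
    refine Subgroup.mem_inf.mpr ⟨hgc, ?_⟩
    show g * c * g⁻¹ ∈ zpowers r
    obtain ⟨j, hj | hj⟩ := h.exists_eq (hB hgc)
    · rw [hj]; exact zpow_mem_zpowers r j
    · exfalso
      have h2 : orderOf (g * c * g⁻¹) ∣ 2 := orderOf_dvd_of_pow_eq_one (by rw [pow_two, hj]; exact h.refl_sq j)
      have h3 : orderOf (g * c * g⁻¹) = orderOf c := (MulAut.conj g).orderOf_eq c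
      rw [h3] at h2
      have := Nat.le_of_dvd two_pos h2
      omega
  · by_cases hCB : B ≤ zpowers r
    · haveI : IsCyclic B := Subgroup.isCyclic_of_le hCB
      exact Or.inl (odd_centralizes hBp le_rfl inferInstance (by simp) hg hg hgo)
    have hcard : Nat.card C * C.relIndex B = Nat.card B := by
      rw [← (C.subgroupOf B).card_mul_index, Nat.card_congr (subgroupOfEquivOfLe inf_le_left).toEquiv]; rfl
    obtain ⟨n, hn⟩ := IsPGroup.iff_card.mp hBp
    have hB4 : Nat.card B ≤ 4 := by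
      rw [← hcard]
      exact le_trans (Nat.mul_le_mul (by omega : Nat.card C ≤ 2) hidx) le_rfl
    by_cases hB2 : Nat.card B ≤ 2
    · haveI : IsCyclic B := by
        rcases (show Nat.card B = 1 ∨ Nat.card B = 2 by have := Nat.card_pos (α := B); omega) with e | e
        · haveI := (Nat.card_eq_one_iff_unique.mp e).1
          infer_instance
        · exact isCyclic_of_prime_card (p := 2) e
      exact Or.inl (odd_centralizes hBp le_rfl inferInstance (by simp) hg hg hgo)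
    refine Or.inr (isKleinFour_of ?_ fun b hb => ?_)
    · have hn2 : n = 2 := by
        have h1 : n ≤ 2 := (Nat.pow_le_pow_iff_right one_lt_two).mp (by rw [← hn]; simpa using hB4)
        rw [hn] at hB2
        interval_cases n <;> simp at hB2 ⊢
      rw [hn, hn2]; norm_num
    · by_cases hbr : b ∈ zpowers r
      · have h2 : orderOf (⟨b, Subgroup.mem_inf.mpr ⟨hb, hbr⟩⟩ : C) ≤ Nat.card C :=
          Nat.le_of_dvd Nat.card_pos (orderOf_dvd_natCard _)
        rw [Subgroup.orderOf_mk] at h2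
        have h3 := pow_orderOf_eq_one b
        rcases (show orderOf b = 1 ∨ orderOf b = 2 by have := orderOf_pos b; omega) with e | e
        · rw [orderOf_eq_one_iff.mp e, one_mul]
        · rwa [e, pow_two] at h3
      · obtain ⟨j, hj | hj⟩ := h.exists_eq (hB hb)
        · exact absurd (hj ▸ zpow_mem_zpowers r j) hbr
        · rw [hj]; exact h.refl_sq j

/-- Conjugation by `m` agrees on `B` with conjugation by an element of `S`. -/
theorem agree_of_tame {B : Subgroup G} (hB : Transfer.TameIn S B) (hne : IsKleinFour B → ¬ Exotic B)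
    {m : G} (hm : m ∈ Subgroup.normalizer (B : Set G)) :
    ∃ a ∈ (S : Subgroup G), ∀ b ∈ B, a * b * a⁻¹ = m * b * m⁻¹ := by
  have hBS : B ≤ (S : Subgroup G) := (Transfer.FullyNormalizedIn.of_tame hB).1
  obtain ⟨a, ha, c, hc, rfl⟩ := Transfer.exists_mul_of_mem_normalizer S.2 (.of_tame hB) (fun g hg hgo => by
    by_contra hgC
    rcases h.centralizes_or_four hBS hg (Nat.coprime_two_right.mp hgo) with e | e
    · exact hgC e
    · exact hne e ⟨g, hg, Nat.coprime_two_right.mp hgo, hgC⟩) hm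
  refine ⟨a, ha.1, fun b hb => ?_⟩
  calc a * b * a⁻¹ = a * (b * c) * c⁻¹ * a⁻¹ := by group
    _ = a * c * b * (a * c)⁻¹ := by rw [mem_centralizer_iff.mp hc b hb]; group

/-- If no four-subgroup is exotic, `S` controls fusion. -/
theorem fusion_agree (hne : ∀ U : Subgroup G, U ≤ S → IsKleinFour U → ¬ Exotic U) {A : Subgroup G}
    (hA : A ≤ S) {g : G} (hg : A.map (MulAut.conj g).toMonoidHom ≤ (S : Subgroup G)) :
    ∃ a ∈ (S : Subgroup G), ∀ b ∈ A, a * b * a⁻¹ = g * b * g⁻¹ := by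
  refine Transfer.alperin_induction S
    (fun A g => ∃ a ∈ (S : Subgroup G), ∀ b ∈ A, a * b * a⁻¹ = g * b * g⁻¹) ?_ ?_ ?_ ?_ hA hg
  · rintro A B g hAB ⟨a, ha, e⟩
    exact ⟨a, ha, fun b hb => e b (hAB hb)⟩
  · rintro A g g' ⟨a, ha, e⟩ ⟨a', ha', e'⟩
    refine ⟨a' * a, mul_mem ha' ha, fun b hb => ?_⟩
    have := e' _ (mem_map_of_mem _ hb)
    simp only [MulEquiv.coe_toMonoidHom, MulAut.conj_apply] at this
    calc a' * a * b * (a' * a)⁻¹ = a' * (a * b * a⁻¹) * a'⁻¹ := by group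
      _ = g' * g * b * (g' * g)⁻¹ := by rw [e b hb, this]; group
  · rintro A g ⟨a, ha, e⟩
    refine ⟨a⁻¹, inv_mem ha, ?_⟩
    rintro _ ⟨b, hb, rfl⟩
    simp only [MulEquiv.coe_toMonoidHom, MulAut.conj_apply]
    calc a⁻¹ * (g * b * g⁻¹) * a⁻¹⁻¹ = a⁻¹ * (a * b * a⁻¹) * a := by rw [e b hb, inv_inv]
      _ = g⁻¹ * (g * b * g⁻¹) * g⁻¹⁻¹ := by group
  · intro B hB m hm
    exact h.agree_of_tame hB (hne B (Transfer.FullyNormalizedIn.of_tame hB).1) hm

theorem hasNormalPComplement (hne : ∀ U : Subgroup G, U ≤ S → IsKleinFour U → ¬ Exotic U) :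
    Cfsg.HasNormalPComplement 2 G := by
  refine Transfer.hasNormalPComplement_of_fusion S fun x hx g hgx => ?_
  obtain ⟨a, ha, e⟩ := h.fusion_agree hne (A := zpowers x) (zpowers_le.mpr hx) (g := g)
    (by rw [MonoidHom.map_zpowers]; exact zpowers_le.mpr hgx)
  exact ⟨a, ha, e x (mem_zpowers x)⟩

/-- Fusion stays inside a subgroup containing commutators and all exotic four-groups. -/
theorem fusion_in {L : Subgroup G} (hcomm : ∀ a ∈ (S : Subgroup G), ∀ b ∈ (S : Subgroup G), a * b * a⁻¹ * b⁻¹ ∈ L)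
    (hU : ∀ U : Subgroup G, U ≤ S → IsKleinFour U → U ≤ L ∨ ¬ Exotic U)
    {x : G} (hx : x ∈ (S : Subgroup G)) {g : G} (hgx : g * x * g⁻¹ ∈ (S : Subgroup G)) :
    x⁻¹ * (g * x * g⁻¹) ∈ L := by
  refine (Transfer.alperin_induction S
    (fun A g => ∀ b ∈ A, b⁻¹ * (g * b * g⁻¹) ∈ L) ?_ ?_ ?_ ?_ (A := zpowers x) (zpowers_le.mpr hx) (g := g)
    (by rw [MonoidHom.map_zpowers]; exact zpowers_le.mpr hgx)) x (mem_zpowers x)
  · exact fun A B g hAB e b hb => e b (hAB hb)
  · intro A g g' e e' b hb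
    have := mul_mem (e b hb) (e' _ (mem_map_of_mem _ hb))
    simp only [MulEquiv.coe_toMonoidHom, MulAut.conj_apply] at this
    convert this using 1
    group
  · rintro A g e _ ⟨b, hb, rfl⟩
    have := inv_mem (e b hb)
    simp only [MulEquiv.coe_toMonoidHom, MulAut.conj_apply]
    convert this using 1
    group
  · intro B hB m hm b hb
    have hBS : B ≤ (S : Subgroup G) := (Transfer.FullyNormalizedIn.of_tame hB).1
    by_cases hex : IsKleinFour B ∧ Exotic B
    · have hBL := (hU B hBS hex.1).resolve_right (not_not.mpr hex.2)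
      exact mul_mem (inv_mem (hBL hb)) (hBL ((mem_normalizer_iff.mp hm b).mp hb))
    · obtain ⟨a, ha, e⟩ := h.agree_of_tame hB (fun h4 he => hex ⟨h4, he⟩) hm
      rw [← e b hb]
      have := hcomm b⁻¹ (inv_mem (hBS hb)) a ha
      rw [inv_inv] at this
      convert this using 1
      group

/-- Conjugation of four-groups preserves exoticness. -/
theorem exotic_conj {U V : Subgroup G} {a : G} (e : U.map (MulAut.conj a).toMonoidHom = V) (hU : Exotic U) :
    Exotic V := by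
  subst e
  obtain ⟨g, hgN, hgo, hgC⟩ := hU
  refine ⟨a * g * a⁻¹, ?_, ?_, fun hC => hgC ?_⟩
  · rw [Transfer.mem_normalizer_iff_map_conj, Transfer.map_conj_mul]
    have h1 := Transfer.mem_normalizer_iff_map_conj.mp hgN
    rw [inv_mul_cancel_right, ← Transfer.map_conj_mul, h1]
  · show Odd (orderOf (MulAut.conj a g))
    rwa [MulEquiv.orderOf_eq]
  · rw [mem_centralizer_iff] at hC ⊢
    intro u hu
    have h1 := hC _ ⟨u, hu, rfl⟩
    simp only [MulEquiv.coe_toMonoidHom, MulAut.conj_apply] at h1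
    have h2 : a * (u * g) * a⁻¹ = a * (g * u) * a⁻¹ := by
      calc a * (u * g) * a⁻¹ = a * u * a⁻¹ * (a * g * a⁻¹) := by group
        _ = a * g * a⁻¹ * (a * u * a⁻¹) := h1
        _ = _ := by group
    exact mul_left_cancel (mul_right_cancel h2)

theorem exotic_four_iff (i : ℤ) : Exotic (h.four i) ↔
    (if 2 ∣ i then Exotic (h.four 0) else Exotic (h.four 1)) := by
  split
  · rename_i hi
    obtain ⟨j, rfl⟩ := hi
    have e := h.four_add_two 0 j
    rw [zero_add] at e
    refine ⟨fun hx => h.exotic_conj (U := h.four (2 * j)) (a := r ^ (-j)) ?_ hx, h.exotic_conj e⟩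
    rw [h.four_add_two]
    exact congrArg h.four (by ring)
  · rename_i hi
    obtain ⟨j, rfl⟩ : ∃ j, i = 1 + 2 * j := ⟨i / 2, by omega⟩
    refine ⟨fun hx => h.exotic_conj (U := h.four (1 + 2 * j)) (a := r ^ (-j)) ?_ hx, h.exotic_conj (h.four_add_two 1 j)⟩
    rw [h.four_add_two]
    exact congrArg h.four (by ring)

/-- A non-exotic four-group gives a fusion invariant subgroup of index two. -/
theorem exists_index_two {i : ℤ} (hne : ¬ Exotic (h.four i)) : ∃ L : Subgroup G, L ≤ (S : Subgroup G) ∧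
    L.relIndex (S : Subgroup G) = 2 ∧ r ^ ((2 : ℤ) ^ (k - 1)) ∈ L ∧ r ^ i * s ∉ L ∧
    (2 ≤ k → ∀ j : ℤ, ¬ 2 ∣ j - i → r ^ j * s ∈ L) ∧
    ∀ x ∈ (S : Subgroup G), ∀ g : G, g * x * g⁻¹ ∈ (S : Subgroup G) → x⁻¹ * (g * x * g⁻¹) ∈ L := by
  by_cases hk : 2 ≤ k
  · have hnL : r ^ i * s ∉ h.evenSub (i + 1) := by
      rw [h.refl_mem_evenSub]; omega
    refine ⟨h.evenSub (i + 1), h.evenSub_le _, ?_, h.rot_mem_evenSub (dvd_pow_self 2 (by omega)), hnL,
      fun _ j hj => h.refl_mem_evenSub.mpr (by omega), fun x hx g => h.fusion_in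
        (fun a ha b hb => h.commutator_mem_evenSub _ ha hb) (fun U hUS hU => ?_) hx⟩
    · show ((h.evenSub (i + 1)).subgroupOf (S : Subgroup G)).index = 2
      rw [Subgroup.index_eq_two_iff]
      refine ⟨⟨r ^ i * s, h.refl_mem i⟩, fun b => ?_⟩
      show Xor' ((b : G) * (r ^ i * s) ∈ h.evenSub (i + 1)) ((b : G) ∈ h.evenSub (i + 1))
      obtain ⟨j, hj | hj⟩ := h.exists_eq b.2 <;> rw [hj]
      · rw [← mul_assoc, ← zpow_add, h.refl_mem_evenSub]
        by_cases hd : 2 ∣ j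
        · exact Or.inr ⟨h.rot_mem_evenSub hd, by omega⟩
        · refine Or.inl ⟨by omega, ?_⟩
          rintro ⟨m, hm | hm⟩
          · rw [h.zpow_eq_iff] at hm
            have := h.two_dvd.trans hm
            omega
          · exact h.refl_notMem _ (hm ▸ zpow_mem_zpowers r j)
      · rw [h.xy_mul_xy]
        by_cases hd : 2 ∣ j - i
        · exact Or.inl ⟨h.rot_mem_evenSub hd, by rw [h.refl_mem_evenSub]; omega⟩
        · refine Or.inr ⟨by rw [h.refl_mem_evenSub]; omega, ?_⟩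
          rintro ⟨m, hm | hm⟩
          · rw [h.zpow_eq_iff] at hm
            have := h.two_dvd.trans hm
            omega
          · exact h.refl_notMem _ (hm ▸ zpow_mem_zpowers r _)
    · obtain ⟨j, rfl⟩ := h.eq_four hU hUS
      by_cases hd : 2 ∣ j - i
      · refine Or.inr fun hx => hne ?_
        obtain ⟨e, he⟩ := hd
        refine h.exotic_conj (a := r ^ (-e)) ?_ hx
        rw [h.four_add_two]
        exact congrArg h.four (by omega)
      · exact Or.inl (h.four_le_evenSub hk (by omega))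
  · have hk1 : k = 1 := by have := h.kpos; omega
    have hall : ∀ U : Subgroup G, U ≤ S → IsKleinFour U → ¬ Exotic U := by
      intro U hUS hU
      have e1 : U = (S : Subgroup G) := Subgroup.eq_of_le_of_card_ge hUS
        (by rw [h.card, (four_facts hU).1, hk1]; norm_num)
      have e2 : h.four i = (S : Subgroup G) := Subgroup.eq_of_le_of_card_ge (h.four_le i)
        (by rw [h.card, (four_facts (h.isKleinFour_four i)).1, hk1]; norm_num)
      rwa [e1, ← e2]
    refine ⟨zpowers r, h.rot_le, h.relIndex_rot, zpow_mem_zpowers r _, h.refl_notMem i,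
      fun h2 => absurd h2 hk, fun x hx g => h.fusion_in
        (fun a ha b hb => ?_) (fun U hUS hU => Or.inr (hall U hUS hU)) hx⟩
    have hab : a * b = b * a := by
      obtain ⟨-, -, hc⟩ := four_facts (h.isKleinFour_four i)
      have e2 : h.four i = (S : Subgroup G) := Subgroup.eq_of_le_of_card_ge (h.four_le i)
        (by rw [h.card, (four_facts (h.isKleinFour_four i)).1, hk1]; norm_num)
      exact hc a (e2.ge ha) b (e2.ge hb)
    rw [hab, mul_inv_cancel_right, mul_inv_cancel]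
    exact one_mem _

theorem not_isConj {i : ℤ} (hne : ¬ Exotic (h.four i)) :
    ¬ IsConj (r ^ ((2 : ℤ) ^ (k - 1))) (r ^ i * s) := by
  intro hc
  obtain ⟨g, hg⟩ := isConj_iff.mp hc
  obtain ⟨L, -, -, hz, ht, -, hf⟩ := h.exists_index_two hne
  have h1 := mul_mem hz (hf _ (zpow_mem h.rS _) g (hg ▸ h.refl_mem i))
  rw [mul_inv_cancel_left, hg] at h1
  exact ht h1

theorem isConj_of_exotic {i : ℤ} (hx : Exotic (h.four i)) {a b : G} (ha : a ∈ h.four i) (ha1 : a ≠ 1)
    (hb : b ∈ h.four i) (hb1 : b ≠ 1) : IsConj a b := by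
  obtain ⟨g, hgN, hgo, hgC⟩ := hx
  obtain ⟨n, hn⟩ := four_transitive (h.isKleinFour_four i) hgN hgo hgC ha ha1 hb hb1
  exact isConj_iff.mpr ⟨_, hn⟩

theorem orderOf_z : orderOf (r ^ ((2 : ℤ) ^ (k - 1))) = 2 :=
  orderOf_eq_prime (by rw [pow_two]; exact h.zz) h.z_ne

theorem orderOf_refl (i : ℤ) : orderOf (r ^ i * s) = 2 :=
  orderOf_eq_prime (by rw [pow_two]; exact h.refl_sq i) fun e => h.refl_notMem i (e ▸ one_mem _)

/-- Every involution is conjugate to `z`, `s` or `r * s`. -/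
theorem isConj_rep {a : G} (ha : orderOf a = 2) : IsConj a (r ^ ((2 : ℤ) ^ (k - 1))) ∨
    IsConj a (r ^ (0 : ℤ) * s) ∨ IsConj a (r ^ (1 : ℤ) * s) := by
  obtain ⟨Q, hQ⟩ := (IsPGroup.of_card (n := 1) (by rw [Nat.card_zpowers, ha, pow_one]) :
    IsPGroup 2 (zpowers a)).exists_le_sylow
  obtain ⟨g, hg⟩ := MulAction.exists_smul_eq G Q S
  set b := g * a * g⁻¹
  have hb : b ∈ (S : Subgroup G) := by
    rw [← hg, Sylow.coe_subgroup_smul, Subgroup.mem_pointwise_smul_iff_inv_smul_mem]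
    simpa [MulAut.smul_def, b, mul_assoc] using hQ (mem_zpowers a)
  have hab : IsConj a b := isConj_iff.mpr ⟨g, rfl⟩
  have hbo : orderOf b = 2 := by rw [← ha]; exact (MulAut.conj g).orderOf_eq a
  have hb2 : b * b = 1 := by
    have := pow_orderOf_eq_one b
    rwa [hbo, pow_two] at this
  obtain ⟨j, hj | hj⟩ := h.exists_eq hb
  · refine Or.inl (hab.trans ?_)
    rw [hj] at hb2 hbo ⊢
    rcases h.rot_sq hb2 with e | e
    · rw [e, orderOf_one] at hbo; omega
    · rw [e]
  · refine Or.inr ?_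
    have hc : ∀ e : ℤ, 2 ∣ j - e → IsConj a (r ^ e * s) := by
      rintro e ⟨m, hm⟩
      refine hab.trans (isConj_iff.mpr ⟨r ^ (-m), ?_⟩)
      rw [hj, ← zpow_neg, rot_mul_refl, h.refl_mul_rot]
      congr 2; omega
    rcases Int.emod_two_eq_zero_or_one j with e | e
    · exact Or.inl (hc 0 (by omega))
    · exact Or.inr (hc 1 (by omega))

theorem isConj_all (hx : ∀ U : Subgroup G, U ≤ S → IsKleinFour U → Exotic U) {a : G} (ha : orderOf a = 2) :
    IsConj a (r ^ ((2 : ℤ) ^ (k - 1))) := by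
  have hex : ∀ i : ℤ, IsConj (r ^ i * s) (r ^ ((2 : ℤ) ^ (k - 1))) := fun i =>
    h.isConj_of_exotic (hx _ (h.four_le i) (h.isKleinFour_four i)) (h.t_mem_four i)
      (fun e => h.refl_notMem i (e ▸ one_mem _)) (h.z_mem_four i) h.z_ne
  rcases h.isConj_rep ha with e | e | e
  exacts [e, e.trans (hex 0), e.trans (hex 1)]

/-- If all four-groups are exotic there is no subgroup of index two. -/
theorem index_ne_two (hx : ∀ U : Subgroup G, U ≤ S → IsKleinFour U → Exotic U) (H : Subgroup G) :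
    H.index ≠ 2 := by
  intro hH
  haveI := Subgroup.normal_of_index_eq_two hH
  have hzt : ∀ i : ℤ, r ^ ((2 : ℤ) ^ (k - 1)) * (r ^ i * s) ∈ H := by
    intro i
    obtain ⟨g, hg⟩ := isConj_iff.mp (h.isConj_all hx (h.orderOf_refl i))
    rw [← hg]
    set t := r ^ i * s
    have h1 : g * t * g⁻¹ * t⁻¹ ∈ H := by
      by_cases ht : t ∈ H
      · exact mul_mem (Subgroup.Normal.conj_mem inferInstance _ ht g) (inv_mem ht)
      · exact (Subgroup.mul_mem_iff_of_index_two hH).mpr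
          ⟨fun h' => absurd (by simpa [mul_assoc] using Subgroup.Normal.conj_mem inferInstance _ h' g⁻¹) ht,
           fun h' => absurd (inv_mem_iff.mp h') ht⟩
    rwa [inv_eq_of_mul_eq_one_right (h.refl_sq i)] at h1
  have hrefl : ∀ i : ℤ, r ^ i * s ∈ H := by
    intro i
    have := hzt (i - (2 : ℤ) ^ (k - 1))
    rwa [rot_mul_refl, add_sub_cancel] at this
  have hle : (S : Subgroup G) ≤ H := by
    intro g hg
    obtain ⟨i, rfl | rfl⟩ := h.exists_eq hg
    · have := mul_mem (hrefl i) (hrefl 0)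
      rwa [h.xy_mul_xy, sub_zero] at this
    · exact hrefl i
  exact S.not_dvd_index (dvd_trans (dvd_of_eq hH.symm) (Subgroup.index_dvd_of_le hle))

/-- A non-exotic four-group gives a subgroup of index two. -/
theorem exists_normal_index_two {i : ℤ} (hne : ¬ Exotic (h.four i)) : ∃ H : Subgroup G, H.Normal ∧ H.index = 2 := by
  obtain ⟨L, hL, hrel, -, -, -, hf⟩ := h.exists_index_two hne
  have hle : (S : Subgroup G) ⊓ Cfsg.pResidual 2 G ≤ L :=
    Transfer.inf_pResidual_le_of_forall S fun x hx g _ hgx => hf x hx.1 g hgx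
  have hne' : Cfsg.pResidual 2 G ≠ ⊤ := fun e => by
    rw [e, inf_top_eq] at hle
    rw [Subgroup.relIndex_eq_one.mpr hle] at hrel
    omega
  haveI : (Cfsg.pResidual 2 G).Normal := Transfer.pResidual_normal
  haveI : Nontrivial (G ⧸ Cfsg.pResidual 2 G) := by
    rw [← Finite.one_lt_card_iff_nontrivial, ← Subgroup.index_eq_card]
    have h1 : (Cfsg.pResidual 2 G).index ≠ 1 := fun e => hne' (Subgroup.index_eq_one.mp e)
    have h2 : (Cfsg.pResidual 2 G).index ≠ 0 := Subgroup.index_ne_zero_of_finite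
    omega
  obtain ⟨M, hM, -⟩ := IsCoatomic.eq_top_or_exists_le_coatom (⊥ : Subgroup (G ⧸ Cfsg.pResidual 2 G))
    |>.resolve_left bot_ne_top
  have hi := FGS3.index_of_coatom Transfer.isPGroup_quotient_pResidual hM
  haveI : M.Normal := Subgroup.normal_of_index_eq_two hi
  exact ⟨M.comap (QuotientGroup.mk' _), inferInstance,
    by rw [Subgroup.index_comap_of_surjective _ (QuotientGroup.mk'_surjective _), hi]⟩

/-- The order of the automizer of a four-subgroup of `S`. -/
theorem relIndex_eq {U : Subgroup G} (hUS : U ≤ S) (hU : IsKleinFour U) :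
    Exotic U ↔ (centralizer (U : Set G)).relIndex (Subgroup.normalizer (U : Set G)) =
      if Nat.card (S : Subgroup G) = 4 then 3 else 6 := by
  obtain ⟨h6, hex⟩ := relIndex_four hU
  set d := (centralizer (U : Set G)).relIndex (Subgroup.normalizer (U : Set G))
  have hd0 : d ≠ 0 := Subgroup.index_ne_zero_of_finite
  have hd6 := Nat.le_of_dvd (by norm_num) h6
  have hd4 : d ≠ 4 ∧ d ≠ 5 := ⟨fun e => by rw [e] at h6; norm_num at h6, fun e => by rw [e] at h6; norm_num at h6⟩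
  rw [hex]
  by_cases h4 : Nat.card (S : Subgroup G) = 4
  · rw [if_pos h4]
    have hodd : ¬ 2 ∣ d := by
      have hSC : (S : Subgroup G) ≤ centralizer (U : Set G) := by
        have e1 : U = (S : Subgroup G) := Subgroup.eq_of_le_of_card_ge hUS (by rw [h4, (four_facts hU).1])
        rw [← e1]
        exact fun a ha => mem_centralizer_iff.mpr fun b hb => (four_facts hU).2.2 b hb a ha
      exact fun h2 => S.not_dvd_index (h2.trans ((Subgroup.relIndex_dvd_index_of_le
        (centralizer_le_normalizer _)).trans (Subgroup.index_dvd_of_le hSC)))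
    omega
  · rw [if_neg h4]
    have hk : 2 ≤ k := by
      by_contra hlt
      exact h4 (by rw [h.card, show k = 1 by have := h.kpos; omega]; norm_num)
    have heven : 2 ∣ d := by
      obtain ⟨i, rfl⟩ := h.eq_four hU hUS
      set a := r ^ ((2 : ℤ) ^ (k - 2))
      have he : (2 : ℤ) * 2 ^ (k - 2) = 2 ^ (k - 1) := by
        rw [← pow_succ', show k - 2 + 1 = k - 1 by omega]
      have haN : a ∈ Subgroup.normalizer ((h.four i : Subgroup G) : Set G) := by
        rw [Transfer.mem_normalizer_iff_map_conj, h.four_add_two, he]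
        refine Subgroup.eq_of_le_of_card_ge ?_ (by
          rw [(four_facts (h.isKleinFour_four _)).1, (four_facts (h.isKleinFour_four _)).1])
        have ht : r ^ (i + (2 : ℤ) ^ (k - 1)) * s = r ^ ((2 : ℤ) ^ (k - 1)) * (r ^ i * s) := by
          rw [rot_mul_refl, add_comm]
        rintro g (rfl | rfl | rfl | rfl)
        · exact one_mem _
        · exact h.z_mem_four i
        · exact Or.inr (Or.inr (Or.inr ht))
        · refine Or.inr (Or.inr (Or.inl ?_))
          rw [ht, ← mul_assoc, h.zz, one_mul]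
      have haC : a ∉ centralizer ((h.four i : Subgroup G) : Set G) := fun hC => h.z_ne (by
        have h1 := mem_centralizer_iff.mp hC _ (h.t_mem_four i)
        rw [h.refl_mul_rot, rot_mul_refl, mul_left_inj, h.zpow_eq_iff] at h1
        rw [← zpow_zero r, h.zpow_eq_iff, zero_sub, dvd_neg, ← he]
        obtain ⟨c, hc⟩ := h1
        exact ⟨c, by linarith⟩)
      haveI := Transfer.centralizer_subgroupOf_normalizer_normal (h.four i)
      obtain ⟨n, hn⟩ := IsPGroup.iff_card.mp S.2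
      have h1 : orderOf a ∣ 2 ^ n := hn ▸ Subgroup.orderOf_dvd_natCard _ (zpow_mem h.rS _)
      by_contra hodd
      refine haC ((QuotientGroup.eq_one_iff (⟨a, haN⟩ : ↥(Subgroup.normalizer ((h.four i : Subgroup G) : Set G)))).mp
        (orderOf_eq_one_iff.mp (Nat.eq_one_of_dvd_coprimes
          (Nat.Coprime.pow_left n (Nat.prime_two.coprime_iff_not_dvd.mpr hodd))
          ((orderOf_map_dvd (QuotientGroup.mk' _) _).trans (by rw [Subgroup.orderOf_mk]; exact h1))
          (orderOf_dvd_natCard _))))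
    omega

/-- Four-subgroups of `S` conjugate in `G` are conjugate in `S`. -/
theorem four_fusion {U : Subgroup G} (hUS : U ≤ S) (hU : IsKleinFour U) {g : G}
    (hg : U.map (MulAut.conj g).toMonoidHom ≤ (S : Subgroup G)) :
    ∃ a ∈ (S : Subgroup G), U.map (MulAut.conj a).toMonoidHom = U.map (MulAut.conj g).toMonoidHom := by
  refine Transfer.alperin_induction S (fun A g => ∀ V : Subgroup G, V ≤ A → IsKleinFour V →
    ∃ a ∈ (S : Subgroup G), V.map (MulAut.conj a).toMonoidHom = V.map (MulAut.conj g).toMonoidHom)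
    ?_ ?_ ?_ ?_ hUS hg U le_rfl hU
  · exact fun A B g hAB e V hV hV4 => e V (hV.trans hAB) hV4
  · intro A g g' e e' V hV hV4
    obtain ⟨a, ha, hea⟩ := e V hV hV4
    obtain ⟨a', ha', hea'⟩ := e' (V.map (MulAut.conj g).toMonoidHom) (map_mono hV) (by
      haveI := hV4
      exact isKleinFour_of (by rw [Transfer.card_map_conj, (four_facts hV4).1]) (by
        rintro _ ⟨v, hv, rfl⟩
        rw [← map_mul, (four_facts hV4).2.1 v hv, map_one]))
    refine ⟨a' * a, mul_mem ha' ha, ?_⟩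
    rw [← Transfer.map_conj_mul, hea, hea', Transfer.map_conj_mul]
  · intro A g e V hV hV4
    set W := V.map (MulAut.conj g⁻¹).toMonoidHom
    have hWA : W ≤ A := by
      refine (map_mono hV).trans ?_
      rw [Transfer.map_conj_mul, inv_mul_cancel, Transfer.map_conj_one]
    obtain ⟨a, ha, hea⟩ := e W hWA (isKleinFour_of (by rw [Transfer.card_map_conj, (four_facts hV4).1]) (by
        rintro _ ⟨v, hv, rfl⟩
        rw [← map_mul, (four_facts hV4).2.1 v hv, map_one]))
    refine ⟨a⁻¹, inv_mem ha, ?_⟩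
    rw [Transfer.map_conj_mul g g⁻¹, mul_inv_cancel, Transfer.map_conj_one] at hea
    show V.map _ = W
    rw [← hea, Transfer.map_conj_mul, inv_mul_cancel, Transfer.map_conj_one]
  · intro B hB m hm V hV hV4
    by_cases hex : IsKleinFour B ∧ Exotic B
    · have e1 : V = B := Subgroup.eq_of_le_of_card_ge hV (by rw [(four_facts hV4).1, (four_facts hex.1).1])
      exact ⟨1, one_mem _, by rw [Transfer.map_conj_one, e1, Transfer.mem_normalizer_iff_map_conj.mp hm]⟩
    · obtain ⟨a, ha, e⟩ := h.agree_of_tame hB (fun h4 he => hex ⟨h4, he⟩) hm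
      refine ⟨a, ha, ?_⟩
      ext v
      simp only [mem_map, MulEquiv.coe_toMonoidHom, MulAut.conj_apply]
      constructor <;> rintro ⟨b, hb, rfl⟩ <;> exact ⟨b, hb, by rw [e b (hV hb)]⟩

theorem four_zero_ne_one (hk : 2 ≤ k) {a : G} (ha : a ∈ (S : Subgroup G)) :
    (h.four 0).map (MulAut.conj a).toMonoidHom ≠ h.four 1 := by
  intro e
  have h1 := h.four_le_evenSub (e := 1) (i := 1) hk (by norm_num) (e ▸ mem_map_of_mem _ (h.t_mem_four 0))
  have h2 := h.commutator_mem_evenSub 1 ha (h.refl_mem 0)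
  simp only [MulEquiv.coe_toMonoidHom, MulAut.conj_apply] at h1
  have h3 := mul_mem (inv_mem h2) h1
  rw [show (a * (r ^ (0 : ℤ) * s) * a⁻¹ * (r ^ (0 : ℤ) * s)⁻¹)⁻¹ * (a * (r ^ (0 : ℤ) * s) * a⁻¹) =
    r ^ (0 : ℤ) * s by group] at h3
  have := h.refl_mem_evenSub.mp h3
  omega

/-- Every four-subgroup of `G` is conjugate into `S`. -/
theorem exists_conj_le {V : Subgroup G} (hV : IsKleinFour V) :
    ∃ g : G, V.map (MulAut.conj g).toMonoidHom ≤ (S : Subgroup G) ∧ IsKleinFour (V.map (MulAut.conj g).toMonoidHom) := by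
  obtain ⟨g, hg⟩ := Transfer.exists_map_conj_le_sylow S (isPGroup_of_four hV)
  refine ⟨g, hg, isKleinFour_of (by rw [Transfer.card_map_conj, (four_facts hV).1]) ?_⟩
  rintro _ ⟨v, hv, rfl⟩
  rw [← map_mul, (four_facts hV).2.1 v hv, map_one]

end DihIn

end Cfsg.Agent.TwoGroups
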