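import Cfsg.Agent.TwoGroups.Involution
import Mathlib
import Cfsg.Prelude.Def_Involutions

/-!
Strongly embedded subgroups: involutions and the cosets they interchange.
-/

set_option autoImplicit false

namespace Cfsg.Agent.TwoGroups

open Subgroup MulAction

variable {G : Type*} [Group G] [Finite G] {H : Subgroup G}

/-- Two cosets through a common involution coincide. -/
theorem se_mem_of_conj (hH : Cfsg.IsStronglyEmbedded H) {t g : G} (ht : orderOf t = 2)
    (htH : t ∈ H) (hg : g⁻¹ * t * g ∈ H) : g ∈ H := by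
  by_contra hgH
  have hmem : t ∈ H ⊓ H.map (MulAut.conj g).toMonoidHom :=
    ⟨htH, g⁻¹ * t * g, hg, by simp [mul_assoc]⟩
  have h1 := hH.2.2 g hgH
  have h2 : orderOf (⟨t, hmem⟩ : ↥(H ⊓ H.map (MulAut.conj g).toMonoidHom)) ∣
      Nat.card ↥(H ⊓ H.map (MulAut.conj g).toMonoidHom) := orderOf_dvd_natCard _
  rw [Subgroup.orderOf_mk, ht] at h2
  exact Nat.not_even_iff_odd.mpr h1 (even_iff_two_dvd.mpr h2)

/-- The centralizer of an involution of `H` lies in `H`. -/
theorem se_centralizer_le (hH : Cfsg.IsStronglyEmbedded H) {t : G} (ht : orderOf t = 2)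
    (htH : t ∈ H) {g : G} (hg : Commute g t) : g ∈ H :=
  se_mem_of_conj hH ht htH (by rw [mul_assoc, ← hg.eq, inv_mul_cancel_left]; exact htH)

omit [Finite G] in
/-- Conjugation preserves the order. -/
theorem orderOf_conj' (g t : G) : orderOf (g * t * g⁻¹) = orderOf t :=
  (MulAut.conj g).orderOf_eq t

/-- An involution fixes at most one coset. -/
theorem se_fixed_unique (hH : Cfsg.IsStronglyEmbedded H) {t : G} (ht : orderOf t = 2)
    {x y : G ⧸ H} (hx : t • x = x) (hy : t • y = y) : x = y := by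
  obtain ⟨a, rfl⟩ := QuotientGroup.mk_surjective x
  obtain ⟨b, rfl⟩ := QuotientGroup.mk_surjective y
  rw [MulAction.Quotient.smul_mk, QuotientGroup.eq, smul_eq_mul] at hx hy
  have h1 : a⁻¹ * t * a ∈ H := by
    have := inv_mem hx
    simpa [mul_assoc] using this
  have h2 : b⁻¹ * t * b ∈ H := by
    have := inv_mem hy
    simpa [mul_assoc] using this
  rw [QuotientGroup.eq]
  refine se_mem_of_conj hH (t := a⁻¹ * t * a) ?_ h1 ?_
  · rw [show a⁻¹ * t * a = a⁻¹ * t * a⁻¹⁻¹ by rw [inv_inv], orderOf_conj', ht]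
  · rw [show (a⁻¹ * b)⁻¹ * (a⁻¹ * t * a) * (a⁻¹ * b) = b⁻¹ * t * b by group]
    exact h2

theorem se_exists_mem (hH : Cfsg.IsStronglyEmbedded H) : ∃ t ∈ H, orderOf t = 2 := by
  obtain ⟨t, ht⟩ := exists_prime_orderOf_dvd_card' (G := H) 2 hH.2.1.two_dvd
  exact ⟨t, t.2, by rw [Subgroup.orderOf_coe]; exact ht⟩

theorem se_exists_notMem (hH : Cfsg.IsStronglyEmbedded H) : ∃ u ∉ H, orderOf u = 2 := by
  by_contra hcon
  push Not at hcon
  obtain ⟨t, htH, ht⟩ := se_exists_mem hH
  apply hH.1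
  rw [eq_top_iff]
  intro g _
  refine se_mem_of_conj hH ht htH ?_
  by_contra h
  exact hcon _ h (by rw [show g⁻¹ * t * g = g⁻¹ * t * g⁻¹⁻¹ by rw [inv_inv], orderOf_conj', ht])

/-- An involution of `H` and one outside have product of odd order. -/
theorem se_odd (hH : Cfsg.IsStronglyEmbedded H) {s u : G} (hs : orderOf s = 2) (hsH : s ∈ H)
    (hu : orderOf u = 2) (huH : u ∉ H) : Odd (orderOf (u * s)) := by
  by_contra hne
  rw [Nat.not_odd_iff_even] at hne
  obtain ⟨c, -, hc1, hcc, hcu, hcs, -⟩ := exists_central_of_even (sq_one_of_order_two hu)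
    (sq_one_of_order_two hs) (isOfFinOrder_of_finite _) hne
  have hc : orderOf c = 2 := orderOf_eq_prime (by rw [pow_two]; exact hcc) hc1
  exact huH (se_centralizer_le hH hc (se_centralizer_le hH hs hsH hcs) hcu.symm)

/-- All involutions are conjugate. -/
theorem se_isConj (hH : Cfsg.IsStronglyEmbedded H) {a b : G} (ha : orderOf a = 2)
    (hb : orderOf b = 2) : IsConj a b := by
  obtain ⟨t, htH, ht⟩ := se_exists_mem hH
  obtain ⟨u, huH, hu⟩ := se_exists_notMem hH
  have key : ∀ s v : G, orderOf s = 2 → s ∈ H → orderOf v = 2 → v ∉ H → IsConj s v := by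
    intro s v hs hsH hv hvH
    obtain ⟨k, -, hk⟩ := exists_conj_of_odd (sq_one_of_order_two hv) (sq_one_of_order_two hs)
      (se_odd hH hs hsH hv hvH)
    exact isConj_iff.mpr ⟨k, hk⟩
  have all : ∀ a : G, orderOf a = 2 → IsConj t a := by
    intro a ha
    by_cases haH : a ∈ H
    · exact (key t u ht htH hu huH).trans (key a u ha haH hu huH).symm
    · exact key t a ht htH ha haH
  exact (all a ha).symm.trans (all b hb)

/-- Every involution fixes a coset. -/
theorem se_exists_fixed (hH : Cfsg.IsStronglyEmbedded H) {u : G} (hu : orderOf u = 2) :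
    ∃ x : G ⧸ H, u • x = x := by
  obtain ⟨t, htH, ht⟩ := se_exists_mem hH
  obtain ⟨c, hc⟩ := isConj_iff.mp (se_isConj hH ht hu)
  refine ⟨QuotientGroup.mk c, ?_⟩
  rw [← hc, MulAction.Quotient.smul_mk, QuotientGroup.eq, smul_eq_mul]
  simpa [mul_assoc] using inv_mem htH

/-- Fixed cosets move with conjugation. -/
theorem conj_smul_fixed {t g : G} {x : G ⧸ H} (h : t • x = x) :
    (g * t * g⁻¹) • (g • x) = g • x := by
  rw [← mul_smul, inv_mul_cancel_right, mul_smul, h]

/-- The two involutions fixing different cosets are interchanged by a third one. -/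
theorem se_exists_swap (hH : Cfsg.IsStronglyEmbedded H) {s u : G} (hs : orderOf s = 2)
    (hu : orderOf u = 2) {x y : G ⧸ H} (hxy : x ≠ y) (hsx : s • x = x) (huy : u • y = y) :
    ∃ r : G, orderOf r = 2 ∧ r • x = y ∧ r * s * r⁻¹ = u := by
  have hs1 := sq_one_of_order_two hs
  have hu1 := sq_one_of_order_two hu
  have hodd : Odd (orderOf (u * s)) := by
    by_contra hne
    rw [Nat.not_odd_iff_even] at hne
    obtain ⟨c, -, hc1, hcc, hcu, hcs, -⟩ :=
      exists_central_of_even hu1 hs1 (isOfFinOrder_of_finite _) hne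
    have hc : orderOf c = 2 := orderOf_eq_prime (by rw [pow_two]; exact hcc) hc1
    obtain ⟨w, hw⟩ := se_exists_fixed hH hc
    have hsw : s • (c • x) = c • x := by rw [← mul_smul, ← hcs.eq, mul_smul, hsx]
    have h1 : c • x = x := se_fixed_unique hH hs hsw hsx
    have huw : u • (c • y) = c • y := by rw [← mul_smul, ← hcu.eq, mul_smul, huy]
    have h2 : c • y = y := se_fixed_unique hH hu huw huy
    exact hxy (se_fixed_unique hH hc h1 h2)
  obtain ⟨k, hk, hke⟩ := exists_conj_of_odd hu1 hs1 hodd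
  obtain ⟨i, rfl⟩ := mem_zpowers_iff.mp hk
  have hinv : s * (u * s) * s⁻¹ = (u * s)⁻¹ := by
    rw [mul_inv_rev, inv_eq_of_sq_one hu1, inv_eq_of_sq_one hs1]
    simp [mul_assoc, hs1]
  have hkey : ((u * s) ^ i * s) * s * ((u * s) ^ i * s)⁻¹ = u := by
    rw [show ((u * s) ^ i * s) * s * ((u * s) ^ i * s)⁻¹ = (u * s) ^ i * s * ((u * s) ^ i)⁻¹ by group]
    exact hke
  have hne : s ≠ u := fun e => hxy (se_fixed_unique hH hs hsx (e ▸ huy))
  have hr : orderOf ((u * s) ^ i * s) = 2 := by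
    refine orderOf_eq_prime ?_ (fun e => hne ?_)
    · rw [pow_two, mul_assoc ((u * s) ^ i), ← mul_assoc s, mul_zpow_of_inverts hinv,
        mul_assoc ((u * s) ^ (-i)), hs1, mul_one, ← zpow_add, add_neg_cancel, zpow_zero]
    · rw [e] at hkey
      simpa using hkey
  refine ⟨_, hr, ?_, hkey⟩
  refine se_fixed_unique hH hu ?_ huy
  have := conj_smul_fixed (g := (u * s) ^ i * s) hsx
  rwa [hkey] at this

/-- An involution moves a pair of cosets back. -/
theorem inv_smul_swap {r : G} (hr : orderOf r = 2) {x y : G ⧸ H} (h : r • x = y) : r • y = x := by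
  rw [← h, ← mul_smul, sq_one_of_order_two hr, one_smul]

theorem se_count (hH : Cfsg.IsStronglyEmbedded H) {x y : G ⧸ H} (hxy : x ≠ y) :
    Nat.card {i : G // orderOf i = 2 ∧ i • x = y} = Nat.card {t : G // orderOf t = 2 ∧ t ∈ H} ∧
    ∀ s : G, orderOf s = 2 → s • x = x → ∀ r r' : {i : G // orderOf i = 2 ∧ i • x = y},
      r.1 * s * r.1⁻¹ = r'.1 * s * r'.1⁻¹ → r = r' := by
  classical
  let _ : Fintype (G ⧸ H) := Fintype.ofFinite _
  let _ : Fintype G := Fintype.ofFinite G
  set m := Nat.card {t : G // orderOf t = 2 ∧ t ∈ H}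
  let I : G ⧸ H → Type _ := fun z => {t : G // orderOf t = 2 ∧ t • z = z}
  have hI : ∀ z, Nat.card (I z) = m := by
    intro z
    obtain ⟨g, rfl⟩ := QuotientGroup.mk_surjective z
    refine Nat.card_congr ((MulAut.conj g⁻¹).toEquiv.subtypeEquiv fun t => ?_)
    show _ ↔ orderOf (g⁻¹ * t * g⁻¹⁻¹) = 2 ∧ g⁻¹ * t * g⁻¹⁻¹ ∈ H
    rw [orderOf_conj', MulAction.Quotient.smul_mk, QuotientGroup.eq, inv_inv, smul_eq_mul]
    refine and_congr_right fun _ => ?_
    rw [← inv_mem_iff]
    simp [mul_assoc]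
  -- surjection onto pairs of fixing involutions
  have surj : ∀ a b : G ⧸ H, a ≠ b → ∀ f : {i : G // orderOf i = 2 ∧ i • a = b} × I a → I a × I b,
      (∀ r s, (f (r, s)).1 = s ∧ ((f (r, s)).2 : G) = r.1 * s.1 * r.1⁻¹) → Function.Surjective f := by
    rintro a b hab f hf ⟨s, u⟩
    obtain ⟨r, hr, hrx, hre⟩ := se_exists_swap hH s.2.1 u.2.1 hab s.2.2 u.2.2
    exact ⟨(⟨r, hr, hrx⟩, s), Prod.ext (hf _ _).1 (Subtype.ext ((hf _ _).2.trans hre))⟩
  let F : ∀ a b : G ⧸ H, {i : G // orderOf i = 2 ∧ i • a = b} × I a → I a × I b := fun a b p =>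
    (p.2, ⟨p.1.1 * p.2.1 * p.1.1⁻¹, by rw [orderOf_conj', p.2.2.1], by
      have := conj_smul_fixed (g := p.1.1) p.2.2.2
      rwa [p.1.2.2] at this⟩)
  have hm0 : 0 < m := by
    obtain ⟨t, htH, ht⟩ := se_exists_mem hH
    exact Nat.card_pos_iff.mpr ⟨⟨t, ht, htH⟩, inferInstance⟩
  let R : G ⧸ H → ℕ := fun b => Nat.card {i : G // orderOf i = 2 ∧ i • x = b}
  have hge : ∀ b, x ≠ b → m ≤ R b := by
    intro b hb
    have := Nat.card_le_card_of_surjective _ (surj x b hb (F x b) fun r s => ⟨rfl, rfl⟩)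
    rw [Nat.card_prod, Nat.card_prod, hI, hI] at this
    exact Nat.le_of_mul_le_mul_right this hm0
  have hxx : R x = m := hI x
  have htot : ∑ b, R b = ∑ _b : G ⧸ H, m := by
    have h1 : Nat.card {t : G // orderOf t = 2} = ∑ b, R b := by
      rw [← Nat.card_sigma]
      exact Nat.card_congr ⟨fun t => ⟨t.1 • x, t.1, t.2, rfl⟩, fun p => ⟨p.2.1, p.2.2.1⟩,
        fun t => rfl, fun ⟨b, t, ht, e⟩ => by subst e; rfl⟩
    have h2 : Nat.card {t : G // orderOf t = 2} = ∑ b : G ⧸ H, Nat.card (I b) := by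
      rw [← Nat.card_sigma]
      refine (Nat.card_eq_of_bijective (fun p : Σ b, I b => (⟨p.2.1, p.2.2.1⟩ : {t : G // orderOf t = 2}))
        ⟨?_, ?_⟩).symm
      · rintro ⟨a, t, ht, hta⟩ ⟨b, s, hs, hsb⟩ e
        obtain rfl : t = s := congrArg Subtype.val e
        obtain rfl := se_fixed_unique hH ht hta hsb
        rfl
      · rintro ⟨t, ht⟩
        obtain ⟨b, hb⟩ := se_exists_fixed hH ht
        exact ⟨⟨b, t, ht, hb⟩, rfl⟩
    rw [← h1, h2]
    exact Finset.sum_congr rfl fun b _ => hI b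
  have hle : ∀ b ∈ Finset.univ, m ≤ R b := fun b _ => by
    rcases eq_or_ne x b with rfl | hb
    · exact hxx.ge
    · exact hge b hb
  have hy : R y = m := ((Finset.sum_eq_sum_iff_of_le hle).mp htot.symm y (Finset.mem_univ y)).symm
  refine ⟨hy, fun s hs hsx r r' e => ?_⟩
  have hbij : Function.Bijective (F x y) :=
    (Nat.bijective_iff_surjective_and_card _).mpr
      ⟨surj x y hxy (F x y) fun r s => ⟨rfl, rfl⟩, by
        rw [Nat.card_prod, Nat.card_prod, hI, hI]
        exact congrArg (· * m) hy⟩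
  have := hbij.1 (a₁ := (r, ⟨s, hs, hsx⟩)) (a₂ := (r', ⟨s, hs, hsx⟩)) (Prod.ext rfl (Subtype.ext e))
  exact (Prod.ext_iff.mp this).1

omit [Finite G] in
/-- Membership in the stabiliser of the pair of cosets `H`, `uH`. -/
theorem mem_pair_iff (u d : G) : d ∈ H ⊓ H.map (MulAut.conj u).toMonoidHom ↔
    d • (QuotientGroup.mk 1 : G ⧸ H) = QuotientGroup.mk 1 ∧
    d • (QuotientGroup.mk u : G ⧸ H) = QuotientGroup.mk u := by
  rw [MulAction.Quotient.smul_mk, MulAction.Quotient.smul_mk, QuotientGroup.eq, QuotientGroup.eq,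
    smul_eq_mul, smul_eq_mul, ← inv_mem_iff (x := (d * 1)⁻¹ * 1), ← inv_mem_iff (x := (d * u)⁻¹ * u),
    Subgroup.mem_inf]
  refine and_congr (by simp) ⟨?_, ?_⟩
  · rintro ⟨h, hh, rfl⟩
    simpa [mul_assoc] using hh
  · intro hh
    exact ⟨_, hh, by simp [mul_assoc]⟩

/-- `H ∩ uHu` is transitive on the involutions of `H`. -/
theorem se_transitive (hH : Cfsg.IsStronglyEmbedded H) {u s t : G} (hu : orderOf u = 2) (huH : u ∉ H)
    (hs : orderOf s = 2) (hsH : s ∈ H) (ht : orderOf t = 2) (htH : t ∈ H) :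
    ∃ d ∈ H ⊓ H.map (MulAut.conj u).toMonoidHom, d * s * d⁻¹ = t := by
  set x : G ⧸ H := QuotientGroup.mk 1
  set y : G ⧸ H := QuotientGroup.mk u
  have hfix : ∀ w : G, w ∈ H → w • x = x := fun w hw => by
    rw [MulAction.Quotient.smul_mk, QuotientGroup.eq, smul_eq_mul]
    simpa using hw
  have hux : u • x = y := by rw [MulAction.Quotient.smul_mk, smul_eq_mul, mul_one]
  have hxy : y ≠ x := fun e => huH (by
    have := QuotientGroup.eq.mp e.symm
    simpa using this)
  obtain ⟨r, hr, hry, hre⟩ := se_exists_swap hH (s := u * s * u⁻¹) (u := t)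
    (by rw [orderOf_conj', hs]) ht hxy (by
      have := conj_smul_fixed (g := u) (hfix s hsH)
      rwa [hux] at this) (hfix t htH)
  refine ⟨r * u, (mem_pair_iff u _).mpr ⟨?_, ?_⟩, ?_⟩
  · show (r * u) • x = x
    rw [mul_smul, hux, hry]
  · show (r * u) • y = y
    rw [mul_smul, inv_smul_swap hu hux, inv_smul_swap hr hry]
  · rw [← hre]; group

end Cfsg.Agent.TwoGroups
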