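/-
TwoGroups library: Sylow 2-subgroups of intersections along a tightly embedded subgroup.
-/
import Cfsg.Agent.TwoGroups.ConjFunctor
import Cfsg.Prelude.Def_Local
import Cfsg.Agent.Core.ThompsonComplement
import Cfsg.Agent.Components.ExtendedLayer
import Mathlib.GroupTheory.QuotientGroup.Finite

set_option autoImplicit false
set_option linter.style.haveILetI false
set_option linter.unusedSectionVars false

namespace Cfsg.Agent.TwoGroups.TightSylow

open Subgroup Cfsg Cfsg.Agent Cfsg.Agent.Transfer ConjFunctor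

variable {G : Type*} [Group G] [Finite G]

/-- Intersections with the other conjugates have odd order. -/
def TE (R : Subgroup G) : Prop :=
  ∀ x : G, x ∉ normalizer (R : Set G) → Odd (Nat.card ↥(R ⊓ R.map (MulAut.conj x).toMonoidHom))

theorem eq_one_of_odd {T D : Subgroup G} (hT : IsPGroup 2 T) (hD : Odd (Nat.card D)) {x : G} (hxT : x ∈ T)
    (hxD : x ∈ D) : x = 1 :=
  Core.ThompsonComplement.eq_one_of_mem hT hxT
    (hD.coprime_two_right.coprime_dvd_left (orderOf_dvd_natCard D hxD))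

theorem half {Q R T S : Subgroup G} (hR : TE R) (hodd : Odd (Nat.card ↥(Q ⊓ R))) (hT1 : T ≠ ⊥)
    (hT : T ≤ R ⊓ normalizer (Q : Set G)) (hTp : IsPGroup 2 T) (hTS : T ≤ S) (hS : S ≤ Q ⊔ T)
    (hSp : IsPGroup 2 S) (hSi : ¬ 2 ∣ S.relIndex (Q ⊔ T)) :
    T ⊓ Q = ⊥ ∧ ⁅T, S ⊓ normalizer (T : Set G) ⊓ Q⁆ = ⊥ ∧
      T ⊔ (S ⊓ normalizer (T : Set G) ⊓ Q) = S ⊓ normalizer (T : Set G) ∧
      S ⊓ normalizer (T : Set G) ⊓ Q ≤ Q ⊓ normalizer (R : Set G) ∧
      ((S ≤ normalizer (T : Set G) ∧ ¬ 2 ∣ (S ⊓ normalizer (T : Set G) ⊓ Q).relIndex Q) ∨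
        ∃ f : T →* ↥(S ⊓ normalizer (T : Set G) ⊓ Q), Function.Injective f) := by
  obtain ⟨hTR, hTQ⟩ : T ≤ R ∧ T ≤ normalizer (Q : Set G) := ⟨hT.trans inf_le_left, hT.trans inf_le_right⟩
  set V := S ⊓ normalizer (T : Set G) with hV
  set U := V ⊓ Q with hU
  have hTV : T ≤ V := le_inf hTS le_normalizer
  have hUV : U ≤ V := inf_le_left
  have hTQb : T ⊓ Q = ⊥ := (Subgroup.eq_bot_iff_forall _).2 fun x hx =>
    eq_one_of_odd hTp hodd (mem_inf.1 hx).1 (mem_inf.2 ⟨(mem_inf.1 hx).2, hTR (mem_inf.1 hx).1⟩)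
  have hcom : ∀ t ∈ T, ∀ u ∈ U, t * u = u * t := by
    intro t ht u hu
    obtain ⟨huV, huQ⟩ := mem_inf.1 hu
    have h : t * u * t⁻¹ * u⁻¹ ∈ T ⊓ Q := mem_inf.2
      ⟨by
        rw [mul_assoc, mul_assoc, ← mul_assoc u]
        exact mul_mem ht ((mem_normalizer_iff.1 (mem_inf.1 huV).2 _).1 (inv_mem ht)),
      mul_mem ((mem_normalizer_iff.1 (hTQ ht) u).1 huQ) (inv_mem huQ)⟩
    rw [hTQb, mem_bot, mul_inv_eq_one, mul_inv_eq_iff_eq_mul] at h
    exact h
  have hfac : ∀ s ∈ S, ∃ t ∈ T, ∃ q ∈ S ⊓ Q, s = q * t := by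
    intro s hs
    have h : s ∈ ((Q ⊔ T : Subgroup G) : Set G) := hS hs
    rw [Subgroup.coe_mul_of_right_le_normalizer_left Q T hTQ] at h
    obtain ⟨q, hq, t, ht, rfl⟩ := h
    have hqS : q ∈ S := by
      have := mul_mem hs (inv_mem (hTS ht))
      rwa [mul_inv_cancel_right] at this
    exact ⟨t, ht, q, mem_inf.2 ⟨hqS, hq⟩, rfl⟩
  have hfacV : ∀ v ∈ V, ∃ t ∈ T, ∃ u ∈ U, v = u * t := by
    intro v hv
    obtain ⟨t, ht, q, hq, rfl⟩ := hfac v (mem_inf.1 hv).1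
    refine ⟨t, ht, q, mem_inf.2 ⟨?_, (mem_inf.1 hq).2⟩, rfl⟩
    have := mul_mem hv (inv_mem (hTV ht))
    rwa [mul_inv_cancel_right] at this
  have hsup : T ⊔ U = V := le_antisymm (sup_le hTV hUV) fun v hv => by
    obtain ⟨t, ht, u, hu, rfl⟩ := hfacV v hv
    exact mul_mem (mem_sup_right hu) (mem_sup_left ht)
  obtain ⟨t0, ht0, ht01⟩ := (Subgroup.ne_bot_iff_exists_ne_one.1 hT1 : ∃ t : T, t ≠ 1) |>
    fun ⟨t, ht⟩ => (⟨t, t.2, fun h => ht (Subtype.ext h)⟩ : ∃ t, t ∈ T ∧ t ≠ 1)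
  have hnormR : ∀ x : G, (∃ a ∈ T, a ≠ 1 ∧ x⁻¹ * a * x ∈ R) → x ∈ normalizer (R : Set G) := by
    rintro x ⟨a, ha, ha1, hax⟩
    by_contra hx
    exact ha1 (eq_one_of_odd hTp (hR x hx) ha (mem_inf.2 ⟨hTR ha, ⟨x⁻¹ * a * x, hax, by simp [mul_assoc]⟩⟩))
  have hUN : U ≤ Q ⊓ normalizer (R : Set G) := fun u hu =>
    mem_inf.2 ⟨(mem_inf.1 hu).2, hnormR u ⟨t0, ht0, ht01, by
      rw [mul_assoc, hcom t0 ht0 u hu, inv_mul_cancel_left]; exact hTR ht0⟩⟩
  refine ⟨hTQb, commutator_eq_bot_iff_le_centralizer.2 fun t ht u hu => (hcom t ht u hu).symm, hsup, hUN, ?_⟩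
  by_cases hSN : S ≤ normalizer (T : Set G)
  · left
    refine ⟨hSN, fun hd => hSi ?_⟩
    have hUe : U = S ⊓ Q := by rw [hU, hV, inf_eq_left.2 hSN]
    rw [hUe, inf_relIndex_right] at hd
    have h1 : S.relIndex Q ∣ S.relIndex (Q ⊔ T) := by
      haveI : (Q.subgroupOf (Q ⊔ T)).Normal :=
        normal_subgroupOf_of_le_normalizer (sup_le le_normalizer hTQ)
      have h2 := Components.not_dvd_relIndex_of_isSubnormal (p := 2) (IsPGroup.toSylow (P := S.subgroupOf (Q ⊔ T))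
        hSp.comap_subtype hSi) (IsSubnormal.step (Q.subgroupOf (Q ⊔ T)) ⊤ le_top IsSubnormal.top inferInstance)
      refine absurd ?_ h2
      show 2 ∣ (S.subgroupOf (Q ⊔ T)).relIndex (Q.subgroupOf (Q ⊔ T))
      rwa [relIndex_subgroupOf le_sup_left]
    exact hd.trans h1
  right
  have hVS : V < S := lt_of_le_of_ne inf_le_left fun e => hSN (inf_eq_left.1 e)
  obtain ⟨s, hs, hsV⟩ := SetLike.exists_of_lt (lt_inf_normalizer hSp hVS)
  obtain ⟨hsS, hsN⟩ := mem_inf.1 hs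
  have hconj : ∀ t ∈ T, s * t * s⁻¹ ∈ V := fun t ht => (mem_normalizer_iff.1 hsN t).1 (hTV ht)
  have hmeet : ∀ t ∈ T, s * t * s⁻¹ ∈ T → t = 1 := by
    intro t ht hst
    by_contra ht1
    have hsR : s ∈ normalizer (R : Set G) := hnormR s ⟨s * t * s⁻¹, hst, fun e => ht1 (conj_eq_one_iff.1 e), by
      rw [show s⁻¹ * (s * t * s⁻¹) * s = t by group]; exact hTR ht⟩
    refine hsV (mem_inf.2 ⟨hsS, mem_normalizer_fintype fun a ha => ?_⟩)
    obtain ⟨b, hb, u, hu, e⟩ := hfacV _ (hconj a ha)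
    have huR : u ∈ R := by
      have := mul_mem ((mem_normalizer_iff.1 hsR a).1 (hTR ha)) (inv_mem (hTR hb))
      rwa [e, mul_inv_cancel_right] at this
    have hu1 : u = 1 := eq_one_of_odd (hSp.to_le (hUV.trans inf_le_left)) hodd hu (mem_inf.2 ⟨(mem_inf.1 hu).2, huR⟩)
    show s * a * s⁻¹ ∈ T
    rw [e, hu1, one_mul]; exact hb
  choose b hb u hu e using fun t : T => hfacV _ (hconj t t.2)
  refine ⟨MonoidHom.mk' (fun t => (⟨u t, hu t⟩ : U)) fun t t' => Subtype.ext ?_, ?_⟩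
  · show u (t * t') = u t * u t'
    have h1 : u (t * t') * b (t * t') = (u t * b t) * (u t' * b t') := by
      rw [← e, ← e, ← e, Subgroup.coe_mul]; group
    have h2 : u (t * t') * b (t * t') = (u t * u t') * (b t * b t') := by
      rw [h1, mul_assoc, ← mul_assoc (b t), hcom _ (hb t) _ (hu t')]
      group
    have h3 : (u t * u t')⁻¹ * u (t * t') = (b t * b t') * (b (t * t'))⁻¹ := by
      rw [eq_mul_inv_iff_mul_eq, mul_assoc, h2, inv_mul_cancel_left]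
    have h4 : (u t * u t')⁻¹ * u (t * t') ∈ T ⊓ Q := mem_inf.2
      ⟨h3 ▸ mul_mem (mul_mem (hb t) (hb t')) (inv_mem (hb (t * t'))),
        mul_mem (inv_mem (mul_mem (mem_inf.1 (hu t)).2 (mem_inf.1 (hu t')).2)) (mem_inf.1 (hu _)).2⟩
    rw [hTQb, mem_bot, inv_mul_eq_one] at h4
    exact h4.symm
  · rw [injective_iff_map_eq_one]
    intro t ht
    have hu1 : u t = 1 := congrArg Subtype.val ht
    have h := e t
    rw [hu1, one_mul] at h
    exact Subtype.ext (hmeet t t.2 (h ▸ hb t))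

theorem te_conj {Q : Subgroup G} (hQ : TE Q) (g : G) : TE (Q.map (MulAut.conj g).toMonoidHom) := by
  intro x hx
  have hx' : g⁻¹ * x * g ∉ normalizer (Q : Set G) := fun h => hx (by
    refine mem_normalizer_iff_map_conj.2 ?_
    rw [map_conj_mul, show x * g = g * (g⁻¹ * x * g) by group, ← map_conj_mul,
      mem_normalizer_iff_map_conj.1 h])
  have h := hQ _ hx'
  rw [← card_map_conj g (Q ⊓ _), Subgroup.map_inf _ _ _ (MulAut.conj g).injective, map_conj_mul,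
    show g * (g⁻¹ * x * g) = x * g by group, ← map_conj_mul] at h
  exact h

/-- A subgroup of `H` of `2`-power order is no larger than a Sylow subgroup of `H`. -/
theorem card_le_sylow {H P T : Subgroup G} (hP : P ≤ H) (hPp : IsPGroup 2 P) (hT : T ≤ H) (hTp : IsPGroup 2 T)
    (hTi : ¬ 2 ∣ T.relIndex H) : Nat.card P ≤ Nat.card T := by
  obtain ⟨R, hR⟩ := (hPp.comap_subtype (K := H)).exists_le_sylow
  let T' : Sylow 2 H := IsPGroup.toSylow (P := T.subgroupOf H) hTp.comap_subtype hTi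
  have h := card_le_of_le hR
  rw [Sylow.card_eq_multiplicity, ← T'.card_eq_multiplicity] at h
  rw [← Nat.card_congr (subgroupOfEquivOfLe hP).toEquiv, ← Nat.card_congr (subgroupOfEquivOfLe hT).toEquiv]
  exact h

theorem main {Q : Subgroup G} (hQ : TE Q) {g : G} (hg : g ∉ normalizer (Q : Set G)) {T S : Subgroup G}
    (hT1 : T ≠ ⊥) (hT : T ≤ Q.map (MulAut.conj g).toMonoidHom ⊓ normalizer (Q : Set G))
    (hTp : IsPGroup 2 T) (hTi : ¬ 2 ∣ T.relIndex (Q.map (MulAut.conj g).toMonoidHom ⊓ normalizer (Q : Set G)))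
    (hTS : T ≤ S) (hS : S ≤ Q ⊔ T) (hSp : IsPGroup 2 S) (hSi : ¬ 2 ∣ S.relIndex (Q ⊔ T)) :
    Nonempty (↥(S ⊓ normalizer (T : Set G) ⊓ Q) ≃* T) := by
  set R := Q.map (MulAut.conj g).toMonoidHom with hRdef
  have hodd : Odd (Nat.card ↥(Q ⊓ R)) := hQ g hg
  obtain ⟨-, -, -, hUA, hcase⟩ := half (te_conj hQ g) hodd hT1 hT hTp hTS hS hSp hSi
  set U := S ⊓ normalizer (T : Set G) ⊓ Q with hU
  have hUp : IsPGroup 2 U := hSp.to_le (inf_le_left.trans inf_le_left)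
  have hle : Nat.card T ≤ Nat.card U := by
    rcases hcase with ⟨-, hUi⟩ | ⟨f, hf⟩
    · refine le_trans (card_map_conj g⁻¹ T).ge (card_le_sylow ?_ (hTp.map _) inf_le_right hUp hUi)
      refine map_conj_le fun t ht => ?_
      obtain ⟨q, hq, rfl⟩ := (hT ht).1
      show g⁻¹ * (g * q * g⁻¹) * g⁻¹⁻¹ ∈ Q
      rwa [show g⁻¹ * (g * q * g⁻¹) * g⁻¹⁻¹ = q by group]
    · exact Nat.card_le_card_of_injective f hf
  have hge : Nat.card U ≤ Nat.card T := by
    set A := Q ⊓ normalizer (R : Set G) with hA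
    obtain ⟨P', hP'⟩ := (hUp.comap_subtype (K := A)).exists_le_sylow
    set P := (P' : Subgroup A).map A.subtype with hP
    have hUP : U ≤ P := fun u hu => ⟨⟨u, hUA hu⟩, hP' (mem_subgroupOf.2 hu), rfl⟩
    have hP1 : P ≠ ⊥ := fun e => hT1 (eq_bot_of_card_le _ (hle.trans ((card_le_of_le hUP).trans (by rw [e, card_bot]))))
    have hPR : P ≤ normalizer (R : Set G) := (map_subtype_le _).trans inf_le_right
    obtain ⟨S', hS'⟩ := ((P'.2.map A.subtype).comap_subtype (K := R ⊔ P)).exists_le_sylow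
    set S₂ := (S' : Subgroup ↥(R ⊔ P)).map (R ⊔ P).subtype with hS₂
    have hS₂i : ¬ 2 ∣ S₂.relIndex (R ⊔ P) := by
      rw [relIndex, hS₂, show (((S' : Subgroup ↥(R ⊔ P))).map (R ⊔ P).subtype).subgroupOf (R ⊔ P) = S' from
        comap_map_eq_self_of_injective (R ⊔ P).subtype_injective _]
      exact S'.not_dvd_index
    have hPS₂ : P ≤ S₂ := fun x hx => ⟨⟨x, mem_sup_right hx⟩, hS' (mem_subgroupOf.2 hx), rfl⟩
    obtain ⟨-, -, -, hUB, hcase'⟩ := half (Q := R) (R := Q) (T := P) (S := S₂) hQ (by rwa [inf_comm]) hP1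
      (map_subtype_le _) (P'.2.map _) hPS₂ (map_subtype_le _) (S'.2.map _) hS₂i
    set U' := S₂ ⊓ normalizer (P : Set G) ⊓ R with hU'
    have hU'p : IsPGroup 2 U' := (S'.2.map _).to_le (inf_le_left.trans inf_le_left)
    have h1 : Nat.card P ≤ Nat.card U' := by
      rcases hcase' with ⟨-, hUi⟩ | ⟨f, hf⟩
      · refine le_trans (card_map_conj g P).ge (card_le_sylow ?_ ((P'.2.map _).map _) inf_le_right hU'p hUi)
        exact map_mono ((map_subtype_le _).trans inf_le_left)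
      · exact Nat.card_le_card_of_injective f hf
    exact (card_le_of_le hUP).trans (h1.trans (card_le_sylow hUB hU'p hT hTp hTi))
  rcases hcase with ⟨-, hUi⟩ | ⟨f, hf⟩
  · set T₀ := T.map (MulAut.conj g⁻¹).toMonoidHom with hT₀
    have hT₀Q : T₀ ≤ Q := map_conj_le fun t ht => by
      obtain ⟨q, hq, rfl⟩ := (hT ht).1
      show g⁻¹ * (g * q * g⁻¹) * g⁻¹⁻¹ ∈ Q
      rwa [show g⁻¹ * (g * q * g⁻¹) * g⁻¹⁻¹ = q by group]
    have hT₀i : ¬ 2 ∣ T₀.relIndex Q := by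
      intro hd
      refine hUi ?_
      have h1 := Core.card_mul_relIndex hT₀Q
      have h2 := Core.card_mul_relIndex (inf_le_right : U ≤ Q)
      rw [hT₀, card_map_conj, le_antisymm hle hge, ← h2] at h1
      rwa [← Nat.eq_of_mul_eq_mul_left Nat.card_pos h1]
    obtain ⟨q, -, e⟩ := exists_conj_sylow (p := 2) hT₀Q (hTp.map _) hT₀i inf_le_right hUp hUi
    rw [hT₀, map_conj_mul] at e
    exact ⟨((Subgroup.equivMapOfInjective T _ (MulAut.conj (q * g⁻¹)).injective).trans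
      (MulEquiv.subgroupCongr e)).symm⟩
  · exact ⟨(MulEquiv.ofBijective f ((Nat.bijective_iff_injective_and_card f).2 ⟨hf, le_antisymm hle hge⟩)).symm⟩

end Cfsg.Agent.TwoGroups.TightSylow
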