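/-
TwoGroups library: the triple factorization in constrained sections.
-/
import Cfsg.Agent.TwoGroups.FactorPair

set_option autoImplicit false
set_option linter.style.haveILetI false
set_option linter.unusedSectionVars false

namespace Cfsg.Agent.TwoGroups.TripleFactor

open Subgroup Cfsg Cfsg.Agent Cfsg.Agent.Transfer ConjFunctor
open scoped commutatorElement

universe u

variable {G : Type u} [Group G] [Finite G] {p : ℕ} [hp : Fact p.Prime]

/-- The subgroup generated by the conjugates of `Z` under `H`. -/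
def cl (Z H : Subgroup G) : Subgroup G := closure {x | ∃ h ∈ H, ∃ z ∈ Z, x = h * z * h⁻¹}

theorem conj_mem_cl {Z H : Subgroup G} {h z : G} (hh : h ∈ H) (hz : z ∈ Z) : h * z * h⁻¹ ∈ cl Z H :=
  subset_closure ⟨h, hh, z, hz, rfl⟩

theorem cl_mono {Z H H' : Subgroup G} (h : H ≤ H') : cl Z H ≤ cl Z H' :=
  (closure_le _).2 fun _ ⟨y, hy, z, hz, e⟩ => e ▸ conj_mem_cl (h hy) hz

theorem le_normalizer_cl (Z H : Subgroup G) : H ≤ normalizer (cl Z H : Set G) := by
  intro y hy
  have hle : cl Z H ≤ (cl Z H).comap (MulAut.conj y).toMonoidHom := (closure_le _).2 fun x ⟨h, hh, z, hz, e⟩ => by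
    show y * x * y⁻¹ ∈ cl Z H
    rw [e, show y * (h * z * h⁻¹) * y⁻¹ = (y * h) * z * (y * h)⁻¹ by group]
    exact conj_mem_cl (mul_mem hy hh) hz
  exact mem_normalizer_fintype fun a ha => hle ha

/-- Factorization `C(Z) N(W T)` in the constrained sections. -/
def FacCond (p : ℕ) (W : ∀ (Q : Type u) [Group Q], Subgroup Q) (G : Type u) [Group G] : Prop :=
  ∀ (K R : Subgroup G) [(R.subgroupOf K).Normal],
    centralizer ((pCore p (↥K ⧸ R.subgroupOf K) : Subgroup (↥K ⧸ R.subgroupOf K)) : Set (↥K ⧸ R.subgroupOf K)) ≤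
      pCore p (↥K ⧸ R.subgroupOf K) → ∀ T : Sylow p (↥K ⧸ R.subgroupOf K), ∀ x : (↥K ⧸ R.subgroupOf K),
      ∃ a ∈ centralizer ((omegaOne p ((T : Subgroup (↥K ⧸ R.subgroupOf K)) ⊓
          centralizer (((T : Subgroup (↥K ⧸ R.subgroupOf K)) : Subgroup (↥K ⧸ R.subgroupOf K)) :
            Set (↥K ⧸ R.subgroupOf K))) : Subgroup (↥K ⧸ R.subgroupOf K)) : Set (↥K ⧸ R.subgroupOf K)),
      ∃ b ∈ normalizer ((inducedFunctor (G := (↥K ⧸ R.subgroupOf K)) W (T : Subgroup (↥K ⧸ R.subgroupOf K)) :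
          Subgroup (↥K ⧸ R.subgroupOf K)) : Set (↥K ⧸ R.subgroupOf K)), x = a * b

variable {W₁ W₂ : ∀ (Q : Type u) [Group Q], Subgroup Q}

theorem pIndex {Y : Type u} [Group Y] [Finite Y] (S : Sylow p Y)
    (hU : (((S : Subgroup Y) ⊓ centralizer (pCore p Y : Set Y) : Subgroup Y)).Normal) :
    centralizer (pCore p Y : Set Y) ≤ pCore p Y ⊔ pPrimeCore p Y := by
  set Q := pCore p Y with hQ
  set C := centralizer (Q : Set Y) with hC
  have hSC : (S : Subgroup Y) ⊓ C ≤ Q := Core.le_pCore hU (S.2.to_le inf_le_left)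
  have hinQ : ∀ U : Subgroup Y, IsPGroup p U → U ≤ C → U ≤ Q := by
    intro U hUp hUC
    obtain ⟨R, hR⟩ := hUp.exists_le_sylow
    obtain ⟨g, hg⟩ := MulAction.exists_smul_eq Y S R
    intro x hx
    have hx' := hR hx
    rw [← hg, Sylow.coe_subgroup_smul] at hx'
    have h1 : g⁻¹ * x * g ∈ (S : Subgroup Y) ⊓ C :=
      mem_inf.2 ⟨ConjFunctor.mem_map_conj.1 hx', by simpa using (inferInstance : C.Normal).conj_mem x (hUC hx) g⁻¹⟩
    have := (inferInstance : Q.Normal).conj_mem _ (hSC h1) g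
    rwa [show g * (g⁻¹ * x * g) * g⁻¹ = x by group] at this
  have hnpc : HasNormalPComplement p C := by
    obtain ⟨P⟩ : Nonempty (Sylow p C) := inferInstance
    refine Transfer.hasNormalPComplement_of_frobenius P fun R hRP _ g _ _ => ?_
    rw [mem_centralizer_iff]
    intro q hq
    have hqR : (q : Y) ∈ Q := hinQ _ (P.2.map C.subtype) (map_subtype_le _) ⟨q, hRP hq, rfl⟩
    exact Subtype.ext (mem_centralizer_iff.mp g.2 (q : Y) hqR)
  obtain ⟨P⟩ : Nonempty (Sylow p C) := inferInstance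
  have hcop := Transfer.hasNormalPComplement_iff_coprime_pResidual.mp hnpc
  have hL : (pResidual p C).map C.subtype ≤ pPrimeCore p Y :=
    Core.le_pPrimeCore (Core.normal_map_subtype_of_characteristic _)
      (by rw [card_map_of_injective C.subtype_injective]; exact hcop)
  have hP : (P : Subgroup C).map C.subtype ≤ Q := hinQ _ (P.2.map _) (map_subtype_le _)
  have htop : (P : Subgroup C) ⊔ pResidual p C = ⊤ := Transfer.sylow_sup_pResidual P
  intro c hc
  have h1 : c ∈ ((P : Subgroup C) ⊔ pResidual p C).map C.subtype := by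
    rw [htop]; exact ⟨⟨c, hc⟩, mem_top _, rfl⟩
  rw [Subgroup.map_sup] at h1
  exact sup_le_sup hP hL h1

/-- The step from `H ≤ N(W₁ S)`. -/
theorem step (hW₁ : IsCharPFunctor.{u} p W₁) (hW₂ : IsCharPFunctor.{u} p W₂) (hf : FacCond p W₂ G)
    (S : Sylow p G) {H : Subgroup G} (hSH : (S : Subgroup G) ≤ H)
    (hH1 : H ≤ normalizer (inducedFunctor (G := G) W₁ (S : Subgroup G) : Set G)) {Z : Subgroup G}
    (hZ : Z = omegaOne p ((S : Subgroup G) ⊓ centralizer ((S : Subgroup G) : Set G)))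
    (hZ1 : Z ≤ inducedFunctor (G := G) W₁ (S : Subgroup G))
    (IH : ∀ L : Subgroup G, (S : Subgroup G) ≤ L → Nat.card L < Nat.card H →
      cl Z (L ⊓ normalizer (inducedFunctor (G := G) W₁ (S : Subgroup G) : Set G)) =
        cl Z (L ⊓ normalizer (inducedFunctor (G := G) W₂ (S : Subgroup G) : Set G))) :
    cl Z H ≤ cl Z (H ⊓ normalizer (inducedFunctor (G := G) W₂ (S : Subgroup G) : Set G)) := by
  set V := inducedFunctor (G := G) W₁ (S : Subgroup G) with hV
  set N2 := normalizer (inducedFunctor (G := G) W₂ (S : Subgroup G) : Set G) with hN2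
  have hVS : V ≤ (S : Subgroup G) := (PLocal.isPMap_induced hW₁).le _ S.2
  have hZH : Z ≤ H := hZ1.trans (hVS.trans hSH)
  set T : Sylow p H := S.subtype hSH
  have hTS : (T : Subgroup H).map H.subtype = (S : Subgroup G) := map_subgroupOf_eq_of_le hSH
  set Q := pCore p H with hQ
  haveI hVn : (V.subgroupOf H).Normal := normal_subgroupOf_of_le_normalizer hH1
  have hVQ : V.subgroupOf H ≤ Q := Core.le_pCore hVn ((S.2.to_le hVS).comap_subtype)
  have hZQ : ∀ z, ∀ hz : z ∈ Z, (⟨z, hZH hz⟩ : H) ∈ Q := fun z hz => hVQ (mem_subgroupOf.2 (hZ1 hz))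
  have hCZ : ∀ c : H, c ∈ centralizer (Q : Set H) → ∀ z ∈ Z, (c : G) * z * (c : G)⁻¹ = z := fun c hc z hz => by
    rw [show (c : G) * z = z * c from (congrArg Subtype.val (hc _ (hZQ z hz))).symm, mul_inv_cancel_right]
  refine (closure_le _).2 ?_
  rintro _ ⟨h, hh, z, hz, rfl⟩
  show h * z * h⁻¹ ∈ cl Z (H ⊓ N2)
  by_cases hU : (((T : Subgroup H) ⊓ centralizer (Q : Set H) : Subgroup H)).Normal
  swap
  · set U := (T : Subgroup H) ⊓ centralizer (Q : Set H) with hUdef
    set L := (normalizer (U : Set H)).map H.subtype with hL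
    have hTU : (T : Subgroup H) ≤ normalizer (U : Set H) := fun s hs => mem_normalizer_fintype fun a ha =>
      mem_inf.2 ⟨mul_mem (mul_mem hs (mem_inf.1 ha).1) (inv_mem hs),
        (inferInstance : (centralizer (Q : Set H)).Normal).conj_mem a (mem_inf.1 ha).2 s⟩
    obtain ⟨c, hc, hch⟩ : ∃ c ∈ centralizer (Q : Set H), c * ⟨h, hh⟩ ∈ normalizer (U : Set H) := by
      have hS0i : ¬ p ∣ U.relIndex (centralizer (Q : Set H)) := by
        rw [hUdef, inf_relIndex_right]
        exact SectionFunctors.not_dvd_relIndex_normal T _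
      obtain ⟨c, hc, hce⟩ := exists_conj_sylow (p := p) (H := centralizer (Q : Set H))
        (T₁ := U.map (MulAut.conj (⟨h, hh⟩ : H)).toMonoidHom)
        (map_conj_le fun a ha => (inferInstance : (centralizer (Q : Set H)).Normal).conj_mem a (mem_inf.1 ha).2 _)
        ((T.2.to_le inf_le_left).map _)
        (by
          have hCm : (centralizer (Q : Set H)).map (MulAut.conj (⟨h, hh⟩ : H)).toMonoidHom = centralizer (Q : Set H) :=
            mem_normalizer_iff_map_conj.1 (by rw [normalizer_eq_top]; exact mem_top _)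
          conv => enter [1, 2]; rw [← hCm]
          rwa [relIndex_map_conj]) inf_le_right (T.2.to_le inf_le_left) hS0i
      rw [map_conj_mul] at hce
      exact ⟨c, hc, mem_normalizer_iff_map_conj.2 hce⟩
    have hlt : Nat.card L < Nat.card H := by
      rw [hL, card_map_of_injective H.subtype_injective]
      exact SectionFunctors.card_lt_of_ne_top fun e => hU (normalizer_eq_top_iff.1 e)
    have hLH : L ≤ H := map_subtype_le _
    have hmem : ((c * ⟨h, hh⟩ : H) : G) * z * ((c * ⟨h, hh⟩ : H) : G)⁻¹ ∈ cl Z (H ⊓ N2) := by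
      have h1 := conj_mem_cl (Z := Z) (show ((c * ⟨h, hh⟩ : H) : G) ∈ L ⊓ normalizer (V : Set G) from
        mem_inf.2 ⟨mem_map_of_mem _ hch, hH1 (c * ⟨h, hh⟩ : H).2⟩) hz
      rw [IH L (hTS ▸ map_mono hTU) hlt] at h1
      exact cl_mono (inf_le_inf_right _ hLH) h1
    have hq : (⟨h, hh⟩ : H) * ⟨z, hZH hz⟩ * (⟨h, hh⟩ : H)⁻¹ ∈ Q :=
      (inferInstance : Q.Normal).conj_mem _ (hZQ z hz) _
    have e : c * ((⟨h, hh⟩ : H) * ⟨z, hZH hz⟩ * (⟨h, hh⟩ : H)⁻¹) * c⁻¹ =
        (⟨h, hh⟩ : H) * ⟨z, hZH hz⟩ * (⟨h, hh⟩ : H)⁻¹ := by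
      rw [← hc _ hq, mul_inv_cancel_right]
    have e' := congrArg Subtype.val e
    simp only [Subgroup.coe_mul, Subgroup.coe_inv] at e' hmem
    rw [← e', show (c : G) * (h * z * h⁻¹) * (c : G)⁻¹ = (c : G) * h * z * ((c : G) * h)⁻¹ by group]
    exact hmem
  · have hCle := pIndex T hU
    set K0 := pPrimeCore p H with hK0
    set R := K0.map H.subtype with hR
    have hRK : R.subgroupOf H = K0 := comap_map_eq_self_of_injective H.subtype_injective _
    haveI hRn : (R.subgroupOf H).Normal := by rw [hRK]; infer_instance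
    have hRc : (Nat.card (R.subgroupOf H)).Coprime p := by rw [hRK]; exact Core.card_pPrimeCore_coprime p H
    set π := QuotientGroup.mk' (R.subgroupOf H) with hπ
    have hπs : Function.Surjective π := QuotientGroup.mk'_surjective _
    have hmod : ∀ y q : H, q ∈ Q → ⁅y, q⁆ ∈ R.subgroupOf H → y * q = q * y := by
      intro y q hq h1
      have h2 : ⁅y, q⁆ ∈ Q := mul_mem ((inferInstance : Q.Normal).conj_mem q hq y) (inv_mem hq)
      rw [hRK] at h1
      have := mem_inf.2 ⟨h2, h1⟩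
      rw [Core.pCore_inf_pPrimeCore p H, mem_bot, commutatorElement_eq_one_iff_mul_comm] at this
      exact this
    have hQb : Q.map π ≤ pCore p (↥H ⧸ R.subgroupOf H) := Core.map_pCore_le hπs
    have hcon : centralizer ((pCore p (↥H ⧸ R.subgroupOf H) : Subgroup (↥H ⧸ R.subgroupOf H)) :
        Set (↥H ⧸ R.subgroupOf H)) ≤ pCore p (↥H ⧸ R.subgroupOf H) := by
      intro x hx
      obtain ⟨y, rfl⟩ := hπs x
      have hy : y ∈ centralizer (Q : Set H) := fun q hq => by
        refine (hmod y q hq ((QuotientGroup.eq_one_iff _).1 ?_)).symm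
        rw [← QuotientGroup.mk'_apply, ← hπ, map_commutatorElement, commutatorElement_eq_one_iff_mul_comm]
        exact (hx _ (hQb ⟨q, hq, rfl⟩)).symm
      have h2 := mem_map_of_mem π (hCle hy)
      rw [Subgroup.map_sup, show (pPrimeCore p H).map π = ⊥ from
        (Subgroup.map_eq_bot_iff _).2 (by rw [QuotientGroup.ker_mk', hRK]), sup_bot_eq] at h2
      exact hQb h2
    obtain ⟨a, ha, b, hb, e⟩ := hf H R hcon (T.mapSurjective hπs) (π (⟨h, hh⟩ : H)⁻¹)
    obtain ⟨a', rfl⟩ := hπs a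
    rw [show ((T.mapSurjective hπs : Sylow p _) : Subgroup _) = (T : Subgroup H).map π from rfl] at ha hb
    obtain ⟨b', hb', rfl⟩ := SectionFunctors.exists_lift_normalizer (𝓦 := {@W₂})
      (fun W hW => by rw [Set.mem_singleton_iff.1 hW]; exact hW₂) π hπs
      (by rwa [QuotientGroup.ker_mk']) T.2 (SectionFunctors.injOn_sylow T hRc) (Set.mem_singleton _) hb
    have ha' : ∀ w ∈ Z, (a' : G) * w = w * a' := by
      intro w hw
      refine congrArg Subtype.val (hmod a' ⟨w, hZH hw⟩ (hZQ w hw) ((QuotientGroup.eq_one_iff _).1 ?_))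
      rw [← QuotientGroup.mk'_apply, ← hπ, map_commutatorElement, commutatorElement_eq_one_iff_mul_comm]
      have hwΩ : w ∈ omegaOne p ((S : Subgroup G) ⊓ centralizer ((S : Subgroup G) : Set G)) := hZ ▸ hw
      have hle : omegaOne p ((S : Subgroup G) ⊓ centralizer ((S : Subgroup G) : Set G)) ≤
          ((omegaOne p (((T : Subgroup H).map π) ⊓ centralizer (((T : Subgroup H).map π) : Set _))).comap π).map
            H.subtype := by
        refine (closure_le _).2 ?_
        rintro x ⟨hxZ, hxp⟩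
        obtain ⟨hxS, hxC⟩ := mem_inf.1 hxZ
        refine ⟨⟨x, hSH hxS⟩, subset_closure ⟨mem_inf.2 ⟨⟨_, mem_subgroupOf.2 hxS, rfl⟩, ?_⟩, ?_⟩, rfl⟩
        · rintro _ ⟨t, ht, rfl⟩
          rw [← map_mul, ← map_mul]
          exact congrArg π (Subtype.ext (hxC t (mem_subgroupOf.1 ht)))
        · rw [← map_pow, show (⟨x, hSH hxS⟩ : H) ^ p = 1 from Subtype.ext hxp, map_one]
      obtain ⟨w', hw', ew⟩ := hle hwΩ
      rw [show (⟨w, hZH hw⟩ : H) = w' from Subtype.ext ew.symm]
      exact (ha _ hw').symm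
    -- `h⁻¹ = a' b' k`
    obtain ⟨k, hk, ek⟩ : ∃ k ∈ R.subgroupOf H, (⟨h, hh⟩ : H)⁻¹ = k * (a' * b') :=
      ⟨(⟨h, hh⟩ : H)⁻¹ * (a' * b')⁻¹, (QuotientGroup.eq_one_iff _).1 (by
        rw [← QuotientGroup.mk'_apply, ← hπ, map_mul, map_inv π (a' * b'), map_mul, e, mul_inv_cancel]),
        by group⟩
    have hkC : k ∈ centralizer (Q : Set H) := centralizer_le (le_refl _)
      (mem_centralizer_iff.2 fun q hq =>
        (hmod k q hq (by
          simpa [commutatorElement_def, mul_assoc] using mul_mem hk (hRn.conj_mem _ (inv_mem hk) q))).symm)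
    have hb2 : (b' : G) ∈ N2 := by
      have := le_normalizer_map H.subtype (mem_map_of_mem H.subtype hb')
      rwa [SectionFunctors.fam_map (𝓦 := {@W₂}) (fun W hW => by rw [Set.mem_singleton_iff.1 hW]; exact hW₂)
        H.subtype T.2 H.subtype_injective.injOn (Set.mem_singleton _), hTS] at this
    have eh : h = (b' : G)⁻¹ * ((a' : G)⁻¹ * (k : G)⁻¹) := by
      have := congrArg (fun y : H => ((y⁻¹ : H) : G)) ek
      simpa [mul_assoc] using this
    have h1 : (k : G)⁻¹ * z * (k : G) = z := by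
      simpa using hCZ k⁻¹ (inv_mem hkC) z hz
    have h2 : (a' : G)⁻¹ * z * (a' : G) = z := by
      rw [mul_assoc, ← ha' z hz, inv_mul_cancel_left]
    have e3 : h * z * h⁻¹ = (b' : G)⁻¹ * ((a' : G)⁻¹ * ((k : G)⁻¹ * z * k) * a') * ((b' : G)⁻¹)⁻¹ := by
      rw [eh]; group
    rw [e3, h1, h2]
    exact conj_mem_cl (mem_inf.2 ⟨inv_mem b'.2, inv_mem hb2⟩) hz

theorem cl_eq (hW₁ : IsCharPFunctor.{u} p W₁) (hW₂ : IsCharPFunctor.{u} p W₂)
    (hf₁ : FacCond p W₁ G) (hf₂ : FacCond p W₂ G) (S : Sylow p G) {Z : Subgroup G}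
    (hZ : Z = omegaOne p ((S : Subgroup G) ⊓ centralizer ((S : Subgroup G) : Set G)))
    (hZ1 : Z ≤ inducedFunctor (G := G) W₁ (S : Subgroup G))
    (hZ2 : Z ≤ inducedFunctor (G := G) W₂ (S : Subgroup G)) :
    ∀ (n : ℕ) (H : Subgroup G), Nat.card H = n → (S : Subgroup G) ≤ H →
      cl Z (H ⊓ normalizer (inducedFunctor (G := G) W₁ (S : Subgroup G) : Set G)) =
        cl Z (H ⊓ normalizer (inducedFunctor (G := G) W₂ (S : Subgroup G) : Set G)) := by
  intro n
  induction n using Nat.strong_induction_on with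
  | _ n IH =>
  intro H hn hSH
  set N1 := normalizer (inducedFunctor (G := G) W₁ (S : Subgroup G) : Set G) with hN1
  set N2 := normalizer (inducedFunctor (G := G) W₂ (S : Subgroup G) : Set G) with hN2
  have hlt : ∀ {L : Subgroup G}, L < H → Nat.card L < n := fun {L} hL => hn ▸ lt_of_le_of_ne
    (card_le_of_le hL.le) fun e => hL.ne (Subgroup.eq_of_le_of_card_ge hL.le e.ge)
  have hSN : ∀ W, IsCharPFunctor.{u} p W → (S : Subgroup G) ≤ normalizer (inducedFunctor (G := G) W (S : Subgroup G) : Set G) :=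
    fun W hW => le_normalizer.trans (le_normalizer_apply
      (SectionFunctors.fam_functor (𝓦 := {W}) (fun V hV => by rw [Set.mem_singleton_iff.1 hV]; exact hW) G _
        ⟨W, Set.mem_singleton _, rfl⟩) S.2)
  by_cases h1 : H ≤ N1
  · rw [inf_eq_left.2 h1]
    exact le_antisymm (step hW₁ hW₂ hf₂ S hSH h1 hZ hZ1 fun L hSL hL => IH _ (hn ▸ hL) L rfl hSL)
      (cl_mono inf_le_left)
  by_cases h2 : H ≤ N2
  · rw [inf_eq_left.2 h2]
    exact le_antisymm (cl_mono inf_le_left)
      (step hW₂ hW₁ hf₁ S hSH h2 hZ hZ2 fun L hSL hL => (IH _ (hn ▸ hL) L rfl hSL).symm)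
  have e1 := IH _ (hlt (inf_lt_left.2 h1)) (H ⊓ N1) rfl (le_inf hSH (hSN _ hW₁))
  have e2 := IH _ (hlt (inf_lt_left.2 h2)) (H ⊓ N2) rfl (le_inf hSH (hSN _ hW₂))
  simp only [inf_assoc, inf_idem] at e1 e2
  rw [e1, ← e2, inf_comm N2 N1]

end Cfsg.Agent.TwoGroups.TripleFactor
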