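import Mathlib
import Cfsg.Prelude.Def_Transfer

/-!
An element of prime order acting irreducibly on an elementary abelian group.
-/

set_option autoImplicit false

namespace Cfsg.Agent.TwoGroups

open Polynomial

/-- A finite domain of characteristic `q` generated by an element of prime order `p` has order
`q ^ orderOf (q : ZMod p)`. -/
theorem card_domain_eq_pow_orderOf {R : Type*} [CommRing R] [Finite R] [IsDomain R] {q p : ℕ}
    [hq : Fact q.Prime] [hp : Fact p.Prime] [CharP R q] (hqp : q ≠ p) (σ : R) (hσ1 : σ ≠ 1)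
    (hσ : σ ^ p = 1) (hgen : Subring.closure ({σ} : Set R) = ⊤) :
    Nat.card R = q ^ orderOf (q : ZMod p) := by
  classical
  let _ : Fintype R := Fintype.ofFinite R
  letI : Field R := Fintype.fieldOfDomain R
  have hq0 : (q : ZMod p) ≠ 0 := by
    rw [Ne, ZMod.natCast_eq_zero_iff]
    exact fun h => hqp ((Nat.prime_dvd_prime_iff_eq hp.out hq.out).mp h).symm
  obtain ⟨n, -, hn⟩ := FiniteField.card R q
  rw [Nat.card_eq_fintype_card, hn]
  congr 1
  set e := orderOf (q : ZMod p)
  have hord : orderOf σ = p := orderOf_eq_prime hσ hσ1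
  have hσ0 : σ ≠ 0 := fun h => by simp [h, zero_pow hp.out.ne_zero] at hσ
  -- lower bound
  have h1 : p ∣ q ^ (n : ℕ) - 1 := hn ▸ hord ▸ orderOf_dvd_of_pow_eq_one (FiniteField.pow_card_sub_one_eq_one σ hσ0)
  have hen : e ∣ (n : ℕ) := orderOf_dvd_of_pow_eq_one (by
    rw [← Nat.cast_pow, ← Nat.cast_one, ZMod.natCast_eq_natCast_iff]
    exact ((Nat.modEq_iff_dvd' (Nat.one_le_pow _ _ hq.out.pos)).mpr h1).symm)
  -- upper bound
  have hepos : 0 < e := Nat.pos_of_ne_zero fun h => by
    rw [h, zero_dvd_iff] at hen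
    exact n.pos.ne' hen
  have hpq : p ∣ q ^ e - 1 := by
    have := pow_orderOf_eq_one (q : ZMod p)
    rw [← Nat.cast_pow, ← Nat.cast_one, ZMod.natCast_eq_natCast_iff] at this
    exact (Nat.modEq_iff_dvd' (Nat.one_le_pow _ _ hq.out.pos)).mp this.symm
  have hfix : ∀ x : R, x ^ q ^ e = x := by
    intro x
    haveI : ExpChar R q := ExpChar.prime hq.out
    have hx : x ∈ Subring.closure ({σ} : Set R) := hgen ▸ Subring.mem_top x
    show iterateFrobenius R q e x = x
    induction hx using Subring.closure_induction with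
    | mem y hy =>
      rw [Set.mem_singleton_iff] at hy
      subst hy
      obtain ⟨k, hk⟩ := hpq
      rw [iterateFrobenius_def, ← Nat.sub_add_cancel (Nat.one_le_pow e q hq.out.pos), pow_succ, hk, pow_mul,
        hσ, one_pow, one_mul]
    | zero => exact map_zero _
    | one => exact map_one _
    | add a b _ _ ha hb => rw [map_add, ha, hb]
    | neg a _ ha => rw [map_neg, ha]
    | mul a b _ _ ha hb => rw [map_mul, ha, hb]
  have hqe : 1 < q ^ e := Nat.one_lt_pow hepos.ne' hq.out.one_lt
  have hcard : Fintype.card R ≤ q ^ e := by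
    have h2 : (Finset.univ : Finset R).val ⊆ (X ^ (q ^ e) - X : R[X]).roots := by
      intro x _
      rw [mem_roots (FiniteField.X_pow_card_sub_X_ne_zero R hqe), IsRoot, eval_sub, eval_pow, eval_X,
        hfix, sub_self]
    have h3 := card_le_degree_of_subset_roots (p := (X ^ (q ^ e) - X : R[X])) (Z := Finset.univ) h2
    rwa [FiniteField.X_pow_card_sub_X_natDegree_eq R hqe] at h3
  rw [hn] at hcard
  exact le_antisymm (Nat.le_of_dvd hepos (dvd_of_eq (le_antisymm
    ((Nat.pow_le_pow_iff_right hq.out.one_lt).mp hcard) (Nat.le_of_dvd n.pos hen)))) (Nat.le_of_dvd n.pos hen)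

variable {G : Type*} [Group G] [Finite G]

/-- An irreducible faithful operator of order `p` on an elementary abelian `q`-group. -/
theorem card_eq_pow_orderOf {q p : ℕ} [hq : Fact q.Prime] [hp : Fact p.Prime] (hqp : q ≠ p)
    {A : Subgroup G} (hA : Cfsg.IsElementaryAbelian q A) {g : G}
    (hgA : g ∈ Subgroup.normalizer (A : Set G)) (hgp : g ^ p = 1) (hnt : ∃ a ∈ A, g * a * g⁻¹ ≠ a)
    (hirr : ∀ B ≤ A, (∀ b ∈ B, g * b * g⁻¹ ∈ B) → B = ⊥ ∨ B = A) :
    Nat.card ↥A = q ^ orderOf (q : ZMod p) := by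
  classical
  letI : CommGroup ↥A := { (inferInstance : Group ↥A) with mul_comm := hA.1.is_comm.comm }
  have hinv : ∀ a ∈ A, g * a * g⁻¹ ∈ A := fun a ha => (Subgroup.mem_normalizer_iff.mp hgA a).mp ha
  let c : ↥A →* ↥A :=
    { toFun := fun a => ⟨g * a * g⁻¹, hinv a a.2⟩
      map_one' := Subtype.ext (by simp)
      map_mul' := fun a b => Subtype.ext (by simp [mul_assoc]) }
  let σ : AddMonoid.End (Additive ↥A) := MonoidHom.toAdditive c
  let R := Subring.closure ({σ} : Set (AddMonoid.End (Additive ↥A)))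
  letI : CommRing ↥R := Subring.closureCommRingOfComm (fun x hx y hy => by
    rw [Set.mem_singleton_iff] at hx hy; rw [hx, hy])
  obtain ⟨a₀, ha₀, hne₀⟩ := hnt
  have hσapp : ∀ a : Additive ↥A, ((σ a).toMul : G) = g * (a.toMul : G) * g⁻¹ := fun a => rfl
  have hA0 : A ≠ ⊥ := fun e => hne₀ (by rw [e, Subgroup.mem_bot] at ha₀; simp [ha₀])
  -- kernels and images are invariant
  have hker : ∀ r : ↥R, r ≠ 0 → Function.Injective (r.1 : Additive ↥A → Additive ↥A) := by
    intro r hr
    have hcomm : ∀ a, r.1 (σ a) = σ (r.1 a) := fun a =>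
      DFunLike.congr_fun (congrArg Subtype.val (mul_comm r ⟨σ, Subring.subset_closure rfl⟩)) a
    rcases hirr ((AddSubgroup.toSubgroup' (AddMonoidHom.ker r.1)).map A.subtype) (Subgroup.map_subtype_le _)
      (by
        rintro _ ⟨b, hb, rfl⟩
        refine ⟨(σ (Additive.ofMul b)).toMul, ?_, rfl⟩
        replace hb : r.1 (Additive.ofMul b) = 0 := hb
        show r.1 (σ (Additive.ofMul b)) = 0
        rw [hcomm, hb, map_zero]) with e | e
    · rw [Subgroup.map_eq_bot_iff_of_injective _ A.subtype_injective] at e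
      intro a b hab
      have h1 : (a - b).toMul ∈ AddSubgroup.toSubgroup' (AddMonoidHom.ker r.1) := by
        show r.1 (a - b) = 0
        rw [map_sub, hab, sub_self]
      rw [e, Subgroup.mem_bot] at h1
      exact sub_eq_zero.mp h1
    · refine absurd (Subtype.ext (AddMonoidHom.ext fun a => ?_)) hr
      obtain ⟨b, hb, hba⟩ := e.ge a.toMul.2
      obtain rfl : b = a.toMul := Subtype.ext hba
      exact hb
  set v : Additive ↥A := Additive.ofMul ⟨a₀, ha₀⟩
  have hv : v ≠ 0 := fun e => hne₀ (by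
    have : a₀ = 1 := congrArg (fun t : Additive ↥A => (t.toMul : G)) e
    rw [this]; group)
  have hbij : Function.Bijective fun r : ↥R => r.1 v := by
    constructor
    · intro r s hrs
      by_contra hne
      exact hv (hker (r - s) (sub_ne_zero.mpr hne) (show (r.1 - s.1) v = (r.1 - s.1) 0 by
        rw [map_zero]; exact sub_eq_zero.mpr hrs))
    · let B : AddSubgroup (Additive ↥A) :=
        { carrier := Set.range fun r : ↥R => r.1 v
          add_mem' := by rintro _ _ ⟨r, rfl⟩ ⟨s, rfl⟩; exact ⟨r + s, rfl⟩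
          zero_mem' := ⟨0, rfl⟩
          neg_mem' := by rintro _ ⟨r, rfl⟩; exact ⟨-r, rfl⟩ }
      rcases hirr ((AddSubgroup.toSubgroup' B).map A.subtype) (Subgroup.map_subtype_le _) (by
        rintro _ ⟨b, ⟨r, hr⟩, rfl⟩
        refine ⟨(σ (Additive.ofMul b)).toMul, ⟨⟨σ, Subring.subset_closure rfl⟩ * r, ?_⟩, rfl⟩
        show σ (r.1 v) = σ (Additive.ofMul b)
        exact congrArg σ hr) with e | e
      · rw [Subgroup.map_eq_bot_iff_of_injective _ A.subtype_injective] at e
        have h1 : v.toMul ∈ AddSubgroup.toSubgroup' B := ⟨1, rfl⟩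
        rw [e, Subgroup.mem_bot] at h1
        exact absurd h1 hv
      · intro a
        obtain ⟨b, hb, hba⟩ := e.ge a.toMul.2
        obtain rfl : b = a.toMul := Subtype.ext hba
        exact hb
  haveI : Finite ↥R := Finite.of_injective _ hbij.1
  haveI : Nontrivial ↥R := ⟨⟨0, 1, fun e => hv (DFunLike.congr_fun (congrArg Subtype.val e) v).symm⟩⟩
  haveI : NoZeroDivisors ↥R := ⟨fun {r s} h => by
    by_contra hne
    push Not at hne
    refine hne.2 (hbij.1 (hker r hne.1 ?_))
    show r.1 (s.1 v) = r.1 ((0 : ↥R).1 v)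
    rw [show ((0 : ↥R).1 v) = 0 from rfl, map_zero]
    exact DFunLike.congr_fun (congrArg Subtype.val h) v⟩
  haveI : IsDomain ↥R := NoZeroDivisors.to_isDomain _
  have hqR : (q : ↥R) = 0 := by
    apply hbij.1
    show ((q : ↥R) : AddMonoid.End (Additive ↥A)) v = 0
    rw [show ((q : ↥R) : AddMonoid.End (Additive ↥A)) = (q : AddMonoid.End (Additive ↥A)) from
      map_natCast R.subtype q, AddMonoid.End.natCast_apply]
    exact congrArg Additive.ofMul (Subtype.ext (by simpa using hA.2 a₀ ha₀) : (⟨a₀, ha₀⟩ : ↥A) ^ q = 1)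
  haveI : CharP ↥R q := (CharP.charP_iff_prime_eq_zero hq.out).mpr hqR
  rw [← Nat.card_eq_of_bijective _ hbij |>.trans (Nat.card_congr Additive.toMul)]
  refine card_domain_eq_pow_orderOf hqp ⟨σ, Subring.subset_closure rfl⟩ (fun e => hne₀ ?_) ?_ ?_
  · exact congrArg (fun t : AddMonoid.End (Additive ↥A) => ((t v).toMul : G)) (congrArg Subtype.val e)
  · apply Subtype.ext
    refine AddMonoidHom.ext fun a => ?_
    have key : ∀ k : ℕ, (((σ ^ k) a).toMul : G) = g ^ k * (a.toMul : G) * (g ^ k)⁻¹ := by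
      intro k
      induction k with
      | zero => simp
      | succ k ih =>
        rw [pow_succ' σ, show (σ * σ ^ k) a = σ ((σ ^ k) a) from rfl, hσapp, ih, pow_succ' g]
        group
    apply Additive.toMul.injective
    apply Subtype.ext
    show (((σ ^ p) a).toMul : G) = _
    rw [key, hgp]
    simp
    rfl
  · rw [eq_top_iff]
    rintro ⟨x, hx⟩ -
    induction hx using Subring.closure_induction with
    | mem y hy => exact Subring.subset_closure (Subtype.ext (Set.mem_singleton_iff.mp hy))
    | zero => exact zero_mem _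
    | one => exact one_mem _
    | add a b _ _ ha hb => exact add_mem ha hb
    | neg a _ ha => exact neg_mem ha
    | mul a b _ _ ha hb => exact mul_mem ha hb

end Cfsg.Agent.TwoGroups
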