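import Mathlib
import Cfsg.Agent.Core.MinimalNormal

/-! # Groups that are minimal not `p`-exponent closed -/

set_option autoImplicit false

namespace Cfsg.Agent.TwoGroups

open Subgroup

/-- The elements of order dividing `p` form a subgroup. -/
def ExpClosed (p : ℕ) (G : Type*) [Group G] : Prop :=
  ∃ H : Subgroup G, (H : Set G) = {g : G | g ^ p = 1}

variable {G : Type*} [Group G] {p : ℕ}

theorem ExpClosed.of_mul (h : ∀ a b : G, a ^ p = 1 → b ^ p = 1 → (a * b) ^ p = 1) : ExpClosed p G :=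
  ⟨{ carrier := {g | g ^ p = 1}
     mul_mem' := fun {a b} ha hb => h a b ha hb
     one_mem' := one_pow p
     inv_mem' := fun {a} ha => by simp only [Set.mem_setOf_eq, inv_pow] at ha ⊢; rw [ha, inv_one] }, rfl⟩

theorem ExpClosed.mul (h : ExpClosed p G) {a b : G} (ha : a ^ p = 1) (hb : b ^ p = 1) :
    (a * b) ^ p = 1 := by
  obtain ⟨H, hH⟩ := h
  have : a * b ∈ (H : Set G) := H.mul_mem (show a ∈ (H : Set G) by rw [hH]; exact ha)
    (show b ∈ (H : Set G) by rw [hH]; exact hb)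
  rwa [hH] at this

theorem exp_mul_of_proper (hsub : ∀ K : Subgroup G, K ≠ ⊤ → ExpClosed p K) {K : Subgroup G} (hK : K ≠ ⊤)
    {a b : G} (ha : a ∈ K) (hb : b ∈ K) (ha' : a ^ p = 1) (hb' : b ^ p = 1) : (a * b) ^ p = 1 :=
  congrArg Subtype.val ((hsub K hK).mul (a := ⟨a, ha⟩) (b := ⟨b, hb⟩) (Subtype.ext ha') (Subtype.ext hb'))

theorem closure_exp_eq_top (hnc : ¬ ExpClosed p G) (hsub : ∀ K : Subgroup G, K ≠ ⊤ → ExpClosed p K) :
    closure {g : G | g ^ p = 1} = ⊤ := by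
  by_contra hne
  exact hnc (ExpClosed.of_mul fun a b ha hb =>
    exp_mul_of_proper hsub hne (subset_closure ha) (subset_closure hb) ha hb)

theorem pow_mem_normal (hnc : ¬ ExpClosed p G) (hsub : ∀ K : Subgroup G, K ≠ ⊤ → ExpClosed p K)
    (hquo : ∀ (N : Subgroup G) [N.Normal], N ≠ ⊥ → ExpClosed p (G ⧸ N))
    (N : Subgroup G) [N.Normal] (hN : N ≠ ⊥) (g : G) : g ^ p ∈ N := by
  obtain ⟨H, hH⟩ := hquo N hN
  have htop : (⊤ : Subgroup G) ≤ H.comap (QuotientGroup.mk' N) := by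
    rw [← closure_exp_eq_top hnc hsub, closure_le]
    intro a ha
    show QuotientGroup.mk' N a ∈ (H : Set (G ⧸ N))
    rw [hH]
    show (QuotientGroup.mk' N a) ^ p = 1
    rw [← map_pow, show a ^ p = 1 from ha, map_one]
  have : QuotientGroup.mk' N g ∈ (H : Set (G ⧸ N)) := htop (mem_top g)
  rw [hH] at this
  exact (QuotientGroup.eq_one_iff _).1 (((map_pow (QuotientGroup.mk' N) g p).trans this))

theorem inf_ne_bot_of_normal (hnc : ¬ ExpClosed p G) (hsub : ∀ K : Subgroup G, K ≠ ⊤ → ExpClosed p K)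
    (hquo : ∀ (N : Subgroup G) [N.Normal], N ≠ ⊥ → ExpClosed p (G ⧸ N))
    (M N : Subgroup G) [M.Normal] [N.Normal] (hM : M ≠ ⊥) (hN : N ≠ ⊥) : M ⊓ N ≠ ⊥ := by
  intro e
  refine hnc (ExpClosed.of_mul fun a b _ _ => ?_)
  have h : (a * b) ^ p ∈ M ⊓ N :=
    ⟨pow_mem_normal hnc hsub hquo M hM _, pow_mem_normal hnc hsub hquo N hN _⟩
  rwa [e, mem_bot] at h

end Cfsg.Agent.TwoGroups
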