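/-
TwoGroups library: `p`-groups (`p` odd) with central elements of order `p`, and elements of order `p ^ 2` centralizer.
-/
import Cfsg.Agent.OddLocal.RankTwo.Huppert
import Cfsg.Agent.OddLocal.RankTwo.RankTwoCentral
import Cfsg.Agent.Transfer.PGroupNormal
import Cfsg.Agent.Components.RankTwoGraph
import Mathlib.NumberTheory.Multiplicity

set_option autoImplicit false
set_option linter.style.haveILetI false
set_option linter.unusedSectionVars false

namespace Cfsg.Agent.TwoGroups.OddRankTwo

open Cfsg Subgroup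
open scoped commutatorElement

universe u

/-- `(a b) ^ n` when the commutator of `b` and `a` commutes with both. -/
theorem mul_pow_choose {G : Type*} [Group G] {a b c : G} (hc : b * a = c * (a * b)) (hca : Commute c a)
    (hcb : Commute c b) (n : ℕ) : (a * b) ^ n = a ^ n * b ^ n * c ^ n.choose 2 := by
  have hmove : ∀ k : ℕ, b ^ k * a = c ^ k * a * b ^ k := by
    intro k
    induction k with
    | zero => simp
    | succ k ih =>
      calc b ^ (k + 1) * a = b * (c ^ k * a * b ^ k) := by rw [pow_succ', mul_assoc, ih]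
        _ = c ^ k * (b * a) * b ^ k := by rw [← mul_assoc, ← mul_assoc, ← (hcb.pow_left k).eq]; group
        _ = c ^ (k + 1) * a * b ^ (k + 1) := by rw [hc, pow_succ c, pow_succ' b]; group
  induction n with
  | zero => simp
  | succ n ih =>
    rw [Nat.choose_succ_succ', Nat.choose_one_right, pow_add c]
    calc (a * b) ^ (n + 1) = a ^ n * b ^ n * c ^ n.choose 2 * (a * b) := by rw [pow_succ, ih]
      _ = a ^ n * (b ^ n * a) * b * c ^ n.choose 2 := by
          rw [mul_assoc (a ^ n * b ^ n), ((hca.mul_right hcb).pow_left _).eq]; group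
      _ = a ^ n * (c ^ n * a) * b ^ n * b * c ^ n.choose 2 := by rw [hmove]; group
      _ = a ^ n * a * (c ^ n * (b ^ n * b)) * c ^ n.choose 2 := by rw [(hca.pow_left n).eq]; group
      _ = a ^ (n + 1) * b ^ (n + 1) * (c ^ n * c ^ n.choose 2) := by
          rw [← pow_succ b, (hcb.pow_pow n (n + 1)).eq, ← pow_succ a]; group

/-- `(a b) ^ p = a ^ p b ^ p` when the commutator is central of order dividing `p`, `p` odd. -/
theorem mul_pow_prime {G : Type*} [Group G] {p : ℕ} [hp : Fact p.Prime] (hp2 : p ≠ 2) {a b : G}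
    (hca : Commute ⁅b, a⁆ a) (hcb : Commute ⁅b, a⁆ b) (hc : ⁅b, a⁆ ^ p = 1) :
    (a * b) ^ p = a ^ p * b ^ p := by
  rw [mul_pow_choose (c := ⁅b, a⁆) (by rw [commutatorElement_def]; group) hca hcb p]
  obtain ⟨k, hk⟩ := hp.out.dvd_choose_self two_ne_zero (lt_of_le_of_ne hp.out.two_le hp2.symm)
  rw [hk, pow_mul, hc, one_pow, mul_one]

/-- The elements of order dividing `p` are central. -/
def OmegaCentral (p : ℕ) (C : Type*) [Group C] : Prop := ∀ x : C, x ^ p = 1 → x ∈ center C

variable {p : ℕ} [hp : Fact p.Prime]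

theorem OmegaCentral.subgroup {C : Type*} [Group C] (h : OmegaCentral p C) (H : Subgroup C) :
    OmegaCentral p H := by
  intro x hx
  refine mem_center_iff.2 fun y => Subtype.ext ?_
  exact mem_center_iff.1 (h x (by simpa using congrArg Subtype.val hx)) y

/-- In such a group commutators with elements of order dividing `p ^ 2` have order dividing `p`. -/
theorem comm_pow_aux (hp2 : p ≠ 2) : ∀ (n : ℕ) {C : Type u} [Group C] [Finite C], IsPGroup p C →
    OmegaCentral p C → Nat.card C ≤ n → ∀ x y : C, x ^ p ^ 2 = 1 → ⁅x, y⁆ ^ p = 1 := by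
  intro n
  induction n with
  | zero => intro C _ _ _ _ h; exact absurd h (by simp [Nat.card_pos.ne'])
  | succ n ih =>
    intro C _ _ hC hPC hn x y hx
    haveI := hC.isNilpotent
    by_cases hcomm : ∀ a b : C, a * b = b * a
    · rw [commutatorElement_eq_one_iff_mul_comm.2 (hcomm x y), one_pow]
    set N := normalClosure ({x} : Set C) with hN
    have hxN : x ∈ N := subset_normalClosure rfl
    have hlt : N ≠ ⊤ := by
      intro h
      apply hcomm
      have hle : N ≤ zpowers x ⊔ frattini C := by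
        haveI : (zpowers x ⊔ frattini C).Normal := by
          refine ⟨fun z hz g => ?_⟩
          have h1 : ⁅g, z⁆ ∈ frattini C := FGS3.commutator_le_frattini hC
            (commutator_mem_commutator (mem_top _) (mem_top _))
          have := mul_mem (mem_sup_right h1 : ⁅g, z⁆ ∈ zpowers x ⊔ frattini C) hz
          rwa [commutatorElement_def, inv_mul_cancel_right] at this
        exact normalClosure_le_normal (Set.singleton_subset_iff.2 (mem_sup_left (mem_zpowers x)))
      have htop := frattini_nongenerating (K := zpowers x) (top_le_iff.1 (h ▸ hle))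
      intro a b
      obtain ⟨i, rfl⟩ := htop.ge (mem_top a)
      obtain ⟨j, rfl⟩ := htop.ge (mem_top b)
      exact (Commute.zpow_zpow_self x i j).eq
    have hcard : Nat.card N ≤ n := by
      have := FGS3.Regular.card_lt_card (lt_top_iff_ne_top.2 hlt)
      rw [Subgroup.card_top] at this
      omega
    set x' := y * x * y⁻¹ with hx'
    have hx'N : x' ∈ N := normalClosure_normal.conj_mem x hxN y
    have hx'2 : x' ^ p ^ 2 = 1 := by rw [hx', conj_pow, hx, mul_one, mul_inv_cancel]
    have hIH := ih (hC.to_subgroup N) (hPC.subgroup N) hcard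
    have h1 : ⁅x', x⁻¹⁆ ^ p = 1 := by
      simpa [commutatorElement_def] using
        congrArg Subtype.val (hIH ⟨x', hx'N⟩ ⟨x⁻¹, N.inv_mem hxN⟩ (Subtype.ext (by simpa using hx'2)))
    have hcen := mem_center_iff.1 (hPC _ h1)
    have h1' : ⁅x⁻¹, x'⁆ ^ p = 1 := by rw [← commutatorElement_inv, inv_pow, h1, inv_one]
    have hcen' := mem_center_iff.1 (hPC _ h1')
    have hpow : (x * x'⁻¹) ^ p = 1 := by
      have h2 : (x' * x⁻¹) ^ p = 1 := by
        rw [mul_pow_prime hp2 (hcen' _).symm (hcen' _).symm h1', hx', conj_pow, inv_pow]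
        have hxp := mem_center_iff.1 (hPC (x ^ p) (by rw [← pow_mul, ← pow_two]; exact hx))
        rw [hxp y]; group
      rw [show x * x'⁻¹ = (x' * x⁻¹)⁻¹ by group, inv_pow, h2, inv_one]
    rwa [show ⁅x, y⁆ = x * x'⁻¹ by rw [hx', commutatorElement_def]; group]

variable {C : Type u} [Group C] [Finite C]

theorem comm_mem_center (hp2 : p ≠ 2) (hC : IsPGroup p C) (hPC : OmegaCentral p C) {x : C}
    (hx : x ^ p ^ 2 = 1) (y : C) : ⁅x, y⁆ ^ p = 1 ∧ ⁅x, y⁆ ∈ center C :=
  have h := comm_pow_aux hp2 _ hC hPC le_rfl x y hx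
  ⟨h, hPC _ h⟩

/-- `p`-th powers are multiplicative on the elements of order dividing `p ^ 2`. -/
theorem pow_mul_of_sq (hp2 : p ≠ 2) (hC : IsPGroup p C) (hPC : OmegaCentral p C) {x : C}
    (hx : x ^ p ^ 2 = 1) (y : C) : (y * x) ^ p = y ^ p * x ^ p ∧ (x * y) ^ p = x ^ p * y ^ p := by
  obtain ⟨h, hc⟩ := comm_mem_center hp2 hC hPC hx y
  have hc' : ⁅y, x⁆ ∈ center C := by rw [← commutatorElement_inv]; exact inv_mem hc
  refine ⟨mul_pow_prime hp2 (mem_center_iff.1 hc y).symm (mem_center_iff.1 hc x).symm h, ?_⟩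
  refine mul_pow_prime hp2 (mem_center_iff.1 hc' x).symm (mem_center_iff.1 hc' y).symm ?_
  rw [← commutatorElement_inv, inv_pow, h, inv_one]

/-- The subgroup of elements of order dividing `p`. -/
def omega (hPC : OmegaCentral p C) : Subgroup C where
  carrier := {x | x ^ p = 1}
  one_mem' := one_pow _
  mul_mem' := fun {a b} (ha : a ^ p = 1) (hb : b ^ p = 1) => by
    have hc : Commute a b := mem_center_iff.1 (hPC b hb) a
    show (a * b) ^ p = 1
    rw [hc.mul_pow, ha, hb, mul_one]
  inv_mem' := fun {a} (ha : a ^ p = 1) => by show a⁻¹ ^ p = 1; rw [inv_pow, ha, inv_one]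

theorem mem_omega (hPC : OmegaCentral p C) {x : C} : x ∈ omega hPC ↔ x ^ p = 1 := Iff.rfl

theorem omega_normal (hPC : OmegaCentral p C) : (omega hPC).Normal :=
  ⟨fun x (hx : x ^ p = 1) g => show (g * x * g⁻¹) ^ p = 1 by rw [conj_pow, hx, mul_one, mul_inv_cancel]⟩

/-- The quotient by the elements of order dividing `p` is again of this kind. -/
theorem omegaCentral_quotient (hp2 : p ≠ 2) (hC : IsPGroup p C) (hPC : OmegaCentral p C)
    [(omega hPC).Normal] : OmegaCentral p (C ⧸ omega hPC) := by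
  intro x hx
  obtain ⟨x, rfl⟩ := QuotientGroup.mk_surjective x
  refine mem_center_iff.2 fun y => ?_
  obtain ⟨y, rfl⟩ := QuotientGroup.mk_surjective y
  rw [← QuotientGroup.mk_pow, QuotientGroup.eq_one_iff, mem_omega, ← pow_mul, ← pow_two] at hx
  have h : ⁅QuotientGroup.mk' (omega hPC) x, QuotientGroup.mk' (omega hPC) y⁆ = 1 := by
    rw [← map_commutatorElement]
    exact (QuotientGroup.eq_one_iff _).2 (comm_mem_center hp2 hC hPC hx y).1
  exact (commutatorElement_eq_one_iff_mul_comm.1 h).symm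

/-- The quotient by the elements of order dividing `p` is cyclic, or all these elements are `p`-th powers. -/
theorem cyclic_or_powers (hp2 : p ≠ 2) (hC : IsPGroup p C) (hPC : OmegaCentral p C)
    (hle : Nat.card (omega hPC) ≤ p ^ 2) [(omega hPC).Normal] :
    IsCyclic (C ⧸ omega hPC) ∨ ∀ e : C, e ^ p = 1 → ∃ y : C, y ^ p = e := by
  by_cases hu : OddLocal.UniqueOrderP p (C ⧸ omega hPC)
  · exact Or.inl (OddLocal.isCyclic_of_uniqueOrderP _ (hC.to_quotient _) hu (Or.inl hp2) le_rfl)
  refine Or.inr fun e he => ?_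
  simp only [OddLocal.UniqueOrderP, not_forall] at hu
  obtain ⟨a, b, ha, hb, ha1, hab⟩ := hu
  obtain ⟨a, rfl⟩ := QuotientGroup.mk_surjective a
  obtain ⟨b, rfl⟩ := QuotientGroup.mk_surjective b
  rw [← QuotientGroup.mk_pow, QuotientGroup.eq_one_iff, mem_omega, ← pow_mul, ← pow_two] at ha hb
  rw [ne_eq, QuotientGroup.eq_one_iff, mem_omega] at ha1
  -- the image of the `p`-th power map on the elements of order dividing `p ^ 2`
  let W : Subgroup C :=
    { carrier := {w | ∃ y : C, y ^ p ^ 2 = 1 ∧ y ^ p = w}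
      one_mem' := ⟨1, one_pow _, one_pow _⟩
      mul_mem' := by
        rintro _ _ ⟨y, hy, rfl⟩ ⟨y', hy', rfl⟩
        refine ⟨y * y', ?_, (pow_mul_of_sq hp2 hC hPC hy y').2⟩
        rw [pow_two, pow_mul, (pow_mul_of_sq hp2 hC hPC hy y').2]
        have hc : Commute (y ^ p) (y' ^ p) :=
          (mem_center_iff.1 (hPC _ (by rw [← pow_mul, ← pow_two]; exact hy)) _).symm
        rw [hc.mul_pow, ← pow_mul, ← pow_mul, ← pow_two, hy, hy', mul_one]
      inv_mem' := by
        rintro _ ⟨y, hy, rfl⟩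
        exact ⟨y⁻¹, by rw [inv_pow, hy, inv_one], inv_pow _ _⟩ }
  have hW : W ≤ omega hPC := by
    rintro _ ⟨y, hy, rfl⟩
    rw [mem_omega, ← pow_mul, ← pow_two]; exact hy
  have haW : a ^ p ∈ W := ⟨a, ha, rfl⟩
  have hbW : b ^ p ∈ W := ⟨b, hb, rfl⟩
  have hlt : zpowers (a ^ p) < W := by
    refine lt_of_le_of_ne (zpowers_le.2 haW) fun h => hab ?_
    rw [← h] at hbW
    obtain ⟨i, hi⟩ := hbW
    refine mem_zpowers_iff.2 ⟨i, ?_⟩
    rw [← QuotientGroup.mk_zpow, QuotientGroup.eq, mem_omega]
    have hinv : ((a ^ i)⁻¹) ^ p ^ 2 = 1 := by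
      rw [inv_pow, ← zpow_natCast, ← zpow_mul, mul_comm, zpow_mul, zpow_natCast, ha, one_zpow, inv_one]
    rw [(pow_mul_of_sq hp2 hC hPC hinv b).2, inv_pow, ← zpow_natCast (a ^ i), ← zpow_mul, mul_comm, zpow_mul,
      zpow_natCast]
    exact inv_mul_eq_one.2 hi
  have hWc : W = omega hPC := by
    refine Subgroup.eq_of_le_of_card_ge hW (hle.trans ?_)
    obtain ⟨j, hj⟩ := IsPGroup.iff_card.1 (hC.to_subgroup W)
    have h1 := FGS3.Regular.card_lt_card hlt
    rw [Nat.card_zpowers, orderOf_eq_prime (by rw [← pow_mul, ← pow_two]; exact ha) ha1, hj] at h1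
    rw [hj]
    refine Nat.pow_le_pow_right hp.out.pos ?_
    by_contra hlt2
    have : p ^ j ≤ p ^ 1 := Nat.pow_le_pow_right hp.out.pos (by omega)
    rw [pow_one] at this
    omega
  obtain ⟨y, -, hy⟩ := hWc.ge (show e ∈ omega hPC from he)
  exact ⟨y, hy⟩

/-- `p`-th powers: two agree only inside a coset of `Ω`, and they form a subgroup. -/
theorem powers_aux (hp2 : p ≠ 2) : ∀ (n : ℕ) {C : Type u} [Group C] [Finite C], IsPGroup p C →
    ∀ hPC : OmegaCentral p C, Nat.card (omega hPC) ≤ p ^ 2 → Nat.card C ≤ n →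
    (∀ x y : C, x ^ p = y ^ p → (x⁻¹ * y) ^ p = 1) ∧ ∀ x y : C, ∃ z : C, x ^ p * y ^ p = z ^ p := by
  intro n
  induction n with
  | zero => intro C _ _ _ _ _ h; exact absurd h (by simp [Nat.card_pos.ne'])
  | succ n ih =>
    intro C _ _ hC hPC hle hn
    by_cases hbot : omega hPC = ⊥
    · haveI : Subsingleton C := by
        refine ⟨fun a b => ?_⟩
        suffices h : ∀ z : C, z = 1 by rw [h a, h b]
        intro z
        by_contra hz
        obtain ⟨k, hk⟩ := (hC z)
        have hex : ∀ k, z ^ p ^ k = 1 → False := by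
          intro k
          induction k with
          | zero => simpa using hz
          | succ k ihk =>
            intro h
            refine ihk ((mem_bot (G := C)).1 (hbot ▸ ?_))
            rw [mem_omega, ← pow_mul, ← pow_succ]; exact h
        exact hex k hk
      exact ⟨fun x y _ => by rw [Subsingleton.elim (x⁻¹ * y) 1, one_pow],
        fun x y => ⟨1, Subsingleton.elim _ _⟩⟩
    haveI := omega_normal hPC
    have hQ := omegaCentral_quotient hp2 hC hPC
    have hcardQ : Nat.card (C ⧸ omega hPC) ≤ n := by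
      have h1 := Subgroup.card_eq_card_quotient_mul_card_subgroup (omega hPC)
      have h2 : 2 ≤ Nat.card (omega hPC) := (one_lt_card_iff_ne_bot _).2 hbot
      have h3 : 2 * Nat.card (C ⧸ omega hPC) ≤ Nat.card C := by
        rw [h1, mul_comm]; exact Nat.mul_le_mul_left _ h2
      have : 0 < Nat.card (C ⧸ omega hPC) := Nat.card_pos
      omega
    have hleQ : Nat.card (omega hQ) ≤ p ^ 2 := by
      refine le_trans (Nat.card_le_card_of_injective
        (fun q => (⟨(Quotient.out q.1) ^ p, ?_⟩ : omega hPC)) ?_) hle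
      · have h := q.2
        rw [mem_omega, ← QuotientGroup.out_eq' q.1, ← QuotientGroup.mk_pow, QuotientGroup.eq_one_iff] at h
        exact h
      · rintro ⟨q, hq⟩ ⟨r, hr⟩ h
        have h' : (Quotient.out q) ^ p = (Quotient.out r) ^ p := congrArg Subtype.val h
        have hq2 : ∀ s : C ⧸ omega hPC, s ∈ omega hQ → (Quotient.out s) ^ p ^ 2 = 1 := by
          intro s hs
          rw [mem_omega, ← QuotientGroup.out_eq' s, ← QuotientGroup.mk_pow, QuotientGroup.eq_one_iff,
            mem_omega] at hs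
          rw [pow_two, pow_mul]; exact hs
        refine Subtype.ext ?_
        show q = r
        rw [← QuotientGroup.out_eq' q, ← QuotientGroup.out_eq' r, QuotientGroup.eq, mem_omega,
          (pow_mul_of_sq hp2 hC hPC (by rw [inv_pow, hq2 q hq, inv_one]) _).2, inv_pow, h', inv_mul_cancel]
    obtain ⟨ihE, ihM⟩ := ih (hC.to_quotient _) hQ hleQ hcardQ
    refine ⟨fun x y h => ?_, fun x y => ?_⟩
    · have hq := ihE (x : C ⧸ omega hPC) y (by rw [← QuotientGroup.mk_pow, ← QuotientGroup.mk_pow, h])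
      rw [← QuotientGroup.mk_inv, ← QuotientGroup.mk_mul, ← QuotientGroup.mk_pow, QuotientGroup.eq_one_iff,
        mem_omega, ← pow_mul, ← pow_two] at hq
      have := (pow_mul_of_sq hp2 hC hPC hq x).1
      rw [mul_inv_cancel_left] at this
      exact mul_left_cancel (a := x ^ p) (by rw [← this, mul_one, h])
    · rcases cyclic_or_powers hp2 hC hPC hle with hcyc | hall
      · haveI := hcyc
        have hab := commutative_of_cyclic_center_quotient (QuotientGroup.mk' (omega hPC))
          (by rw [QuotientGroup.ker_mk']; exact fun z hz => hPC z hz)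
        exact ⟨x * y, (Commute.mul_pow (hab x y) p).symm⟩
      · obtain ⟨z, hz⟩ := ihM (x : C ⧸ omega hPC) y
        obtain ⟨z, rfl⟩ := QuotientGroup.mk_surjective z
        rw [← QuotientGroup.mk_pow, ← QuotientGroup.mk_pow, ← QuotientGroup.mk_mul, ← QuotientGroup.mk_pow,
          eq_comm, QuotientGroup.eq, mem_omega] at hz
        obtain ⟨f, hf⟩ := hall _ hz
        have hf2 : f ^ p ^ 2 = 1 := by rw [pow_two, pow_mul, hf, hz]
        exact ⟨z * f, by rw [(pow_mul_of_sq hp2 hC hPC hf2 z).1, hf, mul_inv_cancel_left]⟩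

/-- The `p`-th powers generate a subgroup of index at most `p ^ 2` consisting of `p`-th powers. -/
theorem powers_index (hp2 : p ≠ 2) (hC : IsPGroup p C) (hPC : OmegaCentral p C)
    (hle : Nat.card (omega hPC) ≤ p ^ 2) :
    (∀ u ∈ powerClosure p 1 (⊤ : Subgroup C), ∃ y : C, y ^ p = u) ∧
      (powerClosure p 1 (⊤ : Subgroup C)).index ≤ p ^ 2 := by
  obtain ⟨hE, hM⟩ := powers_aux hp2 _ hC hPC hle le_rfl
  have hpow : ∀ u ∈ powerClosure p 1 (⊤ : Subgroup C), ∃ y : C, y ^ p = u := by
    intro u hu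
    induction hu using Subgroup.closure_induction with
    | mem x hx => obtain ⟨y, -, rfl⟩ := hx; exact ⟨y, by rw [pow_one]⟩
    | one => exact ⟨1, one_pow _⟩
    | mul a b _ _ ha hb =>
      obtain ⟨x, rfl⟩ := ha; obtain ⟨y, rfl⟩ := hb
      obtain ⟨z, hz⟩ := hM x y
      exact ⟨z, hz.symm⟩
    | inv a _ ha => obtain ⟨x, rfl⟩ := ha; exact ⟨x⁻¹, inv_pow _ _⟩
  refine ⟨hpow, ?_⟩
  haveI := omega_normal hPC
  set U := powerClosure p 1 (⊤ : Subgroup C)
  have hinj : Nat.card (C ⧸ omega hPC) ≤ Nat.card U := by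
    refine Nat.card_le_card_of_injective
      (fun q => (⟨(Quotient.out q) ^ p, OddLocal.RankTwo.pow_mem_powerClosure (mem_top _)⟩ : U)) ?_
    intro q r h
    have h' : (Quotient.out q) ^ p = (Quotient.out r) ^ p := congrArg Subtype.val h
    rw [← QuotientGroup.out_eq' q, ← QuotientGroup.out_eq' r, QuotientGroup.eq, mem_omega]
    exact hE _ _ h'
  have e1 := Subgroup.card_eq_card_quotient_mul_card_subgroup (omega hPC)
  have e2 := U.card_mul_index
  refine le_trans ?_ hle
  by_contra hlt
  push Not at hlt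
  have hpos : 0 < Nat.card (C ⧸ omega hPC) := Nat.card_pos
  have h3 := Nat.mul_lt_mul_of_le_of_lt hinj hlt Nat.card_pos
  rw [e2, ← e1] at h3
  exact lt_irrefl _ h3

end Cfsg.Agent.TwoGroups.OddRankTwo
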