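/-
TwoGroups library: `p`-groups of rank at most two (`p` odd).
-/
import Cfsg.Agent.TwoGroups.OddRankTwo
import Cfsg.Agent.S0112

set_option autoImplicit false
set_option linter.style.haveILetI false
set_option linter.unusedSectionVars false

namespace Cfsg.Agent.TwoGroups.RankTwoClassify

open Cfsg Subgroup OddRankTwo
open scoped commutatorElement

variable {G : Type*} [Group G] [Finite G] {p : ℕ} [hp : Fact p.Prime]

theorem mem_of_zpow_mem {H : Subgroup G} {g : G} (hgp : g ^ p ∈ H) {k : ℤ} (hk : ¬ (p : ℤ) ∣ k)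
    (hgk : g ^ k ∈ H) : g ∈ H := by
  obtain ⟨α, β, h⟩ := Int.isCoprime_iff_gcd_eq_one.2 (show Int.gcd (p : ℤ) k = 1 from by
    rw [Int.gcd, Int.natAbs_natCast]
    exact (hp.out.coprime_iff_not_dvd).2 fun h => hk (Int.natCast_dvd.2 h))
  rw [← zpow_one g, ← h, zpow_add, mul_comm α, mul_comm β, zpow_mul, zpow_mul, zpow_natCast]
  exact mul_mem (zpow_mem hgp α) (zpow_mem hgk β)

theorem exists_pow_mem (hP : IsPGroup p G) {K D : Subgroup G} (h : K < D) : ∃ c ∈ D, c ∉ K ∧ c ^ p ∈ K := by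
  obtain ⟨g, hgD, hgK⟩ := SetLike.exists_of_lt h
  obtain ⟨k, hk⟩ := hP g
  suffices H : ∀ k, ∀ g ∈ D, g ∉ K → g ^ p ^ k ∈ K → ∃ c ∈ D, c ∉ K ∧ c ^ p ∈ K from
    H k g hgD hgK (by rw [hk]; exact one_mem _)
  intro k
  induction k with
  | zero => intro g _ hg h; exact absurd (by simpa using h) hg
  | succ k ih =>
    intro g hgD hg hgk
    by_cases hgp : g ^ p ∈ K
    · exact ⟨g, hgD, hg, hgp⟩
    · exact ih (g ^ p) (pow_mem hgD p) hgp (by rwa [← pow_mul, ← pow_succ'])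

theorem eq_top_of_index_prime {C S : Subgroup G} (hCi : C.index = p) (hle : C ≤ S) {x : G} (hxS : x ∈ S)
    (hxC : x ∉ C) : S = ⊤ := by
  have hlt : C < S := lt_of_le_of_ne hle fun h => hxC (h ▸ hxS)
  rcases (Nat.dvd_prime hp.out).1 (hCi ▸ Subgroup.index_dvd_of_le hle) with h | h
  · exact Subgroup.index_eq_one.1 h
  · exact absurd (hCi.trans h.symm) (Subgroup.index_strictAnti hlt).ne'

/-- Maximal class from an element outside `C` with centralizer of order `p` in `C`. -/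
theorem class_of_small_fixed {n : ℕ} (hG : Nat.card G = p ^ n) {C : Subgroup G} [C.Normal]
    (hCi : C.index = p) {g : G} (hg : g ∉ C) (h : Nat.card ↥(C ⊓ centralizer ({g} : Set G)) = p) :
    2 ≤ n ∧ (⊤ : Subgroup G).lowerCentralSeries (n - 2) ≠ ⊥ := by
  set K := centralizer ({g} : Set G) with hK
  have hgK : g ∈ K := mem_centralizer_singleton_iff.2 rfl
  have hr : C.relIndex K = p := ((Nat.dvd_prime hp.out).1
    (hCi ▸ Subgroup.relIndex_dvd_index_of_normal C K)).resolve_left fun h1 => hg (relIndex_eq_one.1 h1 hgK)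
  have hcard : Nat.card K = p ^ 2 := by
    rw [← relIndex_bot_left, ← relIndex_mul_relIndex ⊥ (C ⊓ K) K bot_le inf_le_right, relIndex_bot_left,
      h, inf_relIndex_right, hr, pow_two]
  have hcc : centralizer (K : Set G) = K := le_antisymm
    (fun z hz => mem_centralizer_singleton_iff.2 ((mem_centralizer_iff.1 hz g hgK).symm)) fun z hz =>
      mem_centralizer_iff.2 fun w hw => congrArg Subtype.val
        (IsPGroup.commutative_of_card_eq_prime_sq (p := p) hcard ⟨w, hw⟩ ⟨z, hz⟩)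
  have hn : 2 ≤ n := by
    have h1 := Subgroup.card_subgroup_dvd_card K
    rw [hcard, hG] at h1
    exact (Nat.pow_dvd_pow_iff_le_right hp.out.one_lt).1 h1
  refine ⟨hn, fun hbot => ?_⟩
  haveI : Group.IsNilpotent G := (IsPGroup.of_card hG).isNilpotent
  have := S0112.result n hG K hcard hcc
  have := Subgroup.lowerCentralSeries_eq_bot_iff_nilpotencyClass_le.1 hbot
  omega

/-- Iterates of an automorphism on an element of depth three. -/
theorem iterate_formula (f : G →* G) {u v e₁ e₂ : G} (hu : f u = u * v) (hv : f v = v * e₁)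
    (h₁ : f e₁ = e₁ * e₂) (h₂ : f e₂ = e₂) (c₁u : Commute e₁ v) (c₂u : Commute e₂ v)
    (c₁₂ : Commute e₁ e₂) (i : ℕ) :
    f^[i] u = u * v ^ i * e₁ ^ i.choose 2 * e₂ ^ i.choose 3 := by
  induction i with
  | zero => simp
  | succ i ih =>
    rw [Function.iterate_succ_apply', ih, map_mul, map_mul, map_mul, map_pow, map_pow, map_pow, hu, hv,
      h₁, h₂, c₁u.symm.mul_pow, c₁₂.mul_pow, Nat.choose_succ_succ' i 2, Nat.choose_succ_succ' i 1,
      Nat.choose_one_right, pow_add, pow_add, pow_succ' v]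
    group

theorem conj_iterate (x c : G) (i : ℕ) :
    (MulAut.conj x⁻¹).toMonoidHom^[i] c = (x ^ i)⁻¹ * c * x ^ i := by
  induction i with
  | zero => simp
  | succ i ih => rw [Function.iterate_succ_apply', ih, MulEquiv.coe_toMonoidHom, MulAut.conj_apply, pow_succ]; group

theorem lte {a : ℤ} (hp2 : p ≠ 2) (ha : (p : ℤ) ∣ a - 1) {k : ℕ} (h : (p : ℤ) ^ k ∣ a ^ p - 1) :
    (p : ℤ) ^ (k - 1) ∣ a - 1 := by
  have hodd : Odd p := hp.out.odd_of_ne_two hp2
  have hna : ¬ (p : ℤ) ∣ a := fun h' => by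
    have := dvd_sub h' ha
    rw [sub_sub_cancel] at this
    exact hp.out.one_lt.ne' (Nat.dvd_one.1 (Int.natCast_dvd_natCast.1 (by simpa using this)))
  have e := Int.emultiplicity_pow_sub_pow hp.out hodd (x := a) (y := 1) ha hna p
  rw [one_pow, hp.out.emultiplicity_self] at e
  rw [pow_dvd_iff_le_emultiplicity] at h ⊢
  rw [e] at h
  cases k with
  | zero => simp
  | succ k =>
    rw [Nat.succ_sub_one]
    push_cast at h
    exact (ENat.add_le_add_iff_right ENat.one_ne_top).1 h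

/-- The ambient data: a normal `E` of type `(p, p)` and its centralizer `C` of index `p`. -/
structure Setup (p : ℕ) (G : Type*) [Group G] where
  E : Subgroup G
  C : Subgroup G
  normalE : E.Normal
  normalC : C.Normal
  index_C : C.index = p
  le : E ≤ C
  card_E : Nat.card E = p ^ 2
  pow_E : ∀ e ∈ E, e ^ p = 1
  cen : ∀ e ∈ E, ∀ c ∈ C, Commute e c
  self : ∀ g : G, (∀ e ∈ E, Commute e g) → g ∈ C
  omega_C : ∀ c ∈ C, c ^ p = 1 → c ∈ E

variable (S : Setup p G)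

include S

theorem omegaCentral_C : OmegaCentral p S.C := fun x hx => mem_center_iff.2 fun y => Subtype.ext
  (S.cen _ (S.omega_C _ x.2 (by simpa using congrArg Subtype.val hx)) _ y.2).symm

theorem omega_eq : omega (omegaCentral_C S) = S.E.subgroupOf S.C := by
  ext x
  rw [mem_omega, mem_subgroupOf]
  exact ⟨fun hx => S.omega_C _ x.2 (by simpa using congrArg Subtype.val hx),
    fun hx => Subtype.ext (by simpa using S.pow_E _ hx)⟩

theorem card_omega : Nat.card (omega (omegaCentral_C S)) = p ^ 2 := by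
  rw [omega_eq S, Nat.card_congr (subgroupOfEquivOfLe S.le).toEquiv, S.card_E]

theorem pow_mul_C (hp2 : p ≠ 2) (hP : IsPGroup p G) {a b : G} (ha : a ∈ S.C) (hb : b ∈ S.C)
    (h : a ^ p ^ 2 = 1) : (a * b) ^ p = a ^ p * b ^ p ∧ (b * a) ^ p = b ^ p * a ^ p := by
  have := pow_mul_of_sq hp2 (hP.to_subgroup S.C) (omegaCentral_C S) (x := ⟨a, ha⟩)
    (Subtype.ext (by simpa using h)) ⟨b, hb⟩
  exact ⟨by simpa using congrArg Subtype.val this.2, by simpa using congrArg Subtype.val this.1⟩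

theorem pow_eq_C (hp2 : p ≠ 2) (hP : IsPGroup p G) {a b : G} (ha : a ∈ S.C) (hb : b ∈ S.C)
    (h : a ^ p = b ^ p) : a⁻¹ * b ∈ S.E := by
  refine S.omega_C _ (mul_mem (inv_mem ha) hb) ?_
  simpa using congrArg Subtype.val ((powers_aux hp2 _ (hP.to_subgroup S.C) (omegaCentral_C S)
    (card_omega S).le le_rfl).1 ⟨a, ha⟩ ⟨b, hb⟩ (Subtype.ext (by simpa using h)))

theorem powers_C (hp2 : p ≠ 2) (hP : IsPGroup p G) :
    (∀ u ∈ powerClosure p 1 S.C, ∃ c ∈ S.C, c ^ p = u) ∧ (powerClosure p 1 S.C).index ≤ p ^ 2 * p := by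
  obtain ⟨h1, h2⟩ := powers_index hp2 (hP.to_subgroup S.C) (omegaCentral_C S) (card_omega S).le
  have hmap : powerClosure p 1 S.C = (powerClosure p 1 (⊤ : Subgroup S.C)).map S.C.subtype := by
    rw [powerClosure, powerClosure, MonoidHom.map_closure]
    congr 1
    ext y
    constructor
    · rintro ⟨x, hx, rfl⟩; exact ⟨⟨x, hx⟩ ^ p ^ 1, ⟨⟨x, hx⟩, mem_top _, rfl⟩, by simp⟩
    · rintro ⟨_, ⟨x, -, rfl⟩, rfl⟩; exact ⟨x, x.2, by simp⟩
  refine ⟨fun u hu => ?_, ?_⟩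
  · rw [hmap] at hu
    obtain ⟨v, hv, rfl⟩ := hu
    obtain ⟨y, rfl⟩ := h1 v hv
    exact ⟨y, y.2, by simp⟩
  · rw [hmap, index_map_subtype, S.index_C]
    exact Nat.mul_le_mul_right p h2

/-- `p = 3` and no element of order `p` outside `C`: metacyclic or maximal class. -/
theorem three_case {n : ℕ} (hG : Nat.card G = p ^ n) (hp3 : p = 3)
    (hno : ∀ g, g ∉ S.C → g ^ p ≠ 1) :
    IsMetacyclic G ∨ (2 ≤ n ∧ (⊤ : Subgroup G).lowerCentralSeries (n - 2) ≠ ⊥) := by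
  have hp2 : p ≠ 2 := by omega
  have hP : IsPGroup p G := IsPGroup.of_card hG
  haveI := S.normalC
  haveI := S.normalE
  by_cases hU : (powerClosure p 1 (⊤ : Subgroup G)).index ≤ p ^ 2
  · exact Or.inl (OddLocal.RankTwo.metacyclic_of_index_powers hp2 hP hU)
  refine Or.inr ?_
  obtain ⟨hpw, hidx⟩ := powers_C S hp2 hP
  have hle : powerClosure p 1 S.C ≤ powerClosure p 1 (⊤ : Subgroup G) :=
    FGS3.Regular.powerClosure_mono le_top
  have heq : powerClosure p 1 S.C = powerClosure p 1 (⊤ : Subgroup G) := by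
    by_contra hne
    refine hU ?_
    have hlt := Subgroup.index_strictAnti (lt_of_le_of_ne hle hne)
    obtain ⟨i, hi⟩ := hP.index (powerClosure p 1 (⊤ : Subgroup G))
    rw [hi] at hlt ⊢
    rw [← pow_succ] at hidx
    have := (Nat.pow_lt_pow_iff_right hp.out.one_lt).1 (lt_of_lt_of_le hlt hidx)
    exact Nat.pow_le_pow_right hp.out.pos (by omega)
  obtain ⟨g₀, hg₀⟩ : ∃ g, g ∉ S.C := by
    by_contra h
    push Not at h
    exact hp.out.ne_one (S.index_C.symm.trans (Subgroup.index_eq_one.2 (eq_top_iff.2 fun z _ => h z)))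
  obtain ⟨g, hg, hgE⟩ : ∃ g, g ∉ S.C ∧ g ^ p ∈ S.E := by
    obtain ⟨c, hc, hgc⟩ := hpw (g₀ ^ p) (heq.ge (OddLocal.RankTwo.pow_mem_powerClosure (mem_top g₀)))
    set t := c⁻¹ * (g₀ * c * g₀⁻¹) with ht
    have hcg : g₀ * c * g₀⁻¹ ∈ S.C := S.normalC.conj_mem c hc g₀
    have htE : t ∈ S.E := pow_eq_C S hp2 hP hc hcg (by rw [conj_pow, hgc]; group)
    refine ⟨g₀ * c⁻¹, fun h => hg₀ (by simpa using mul_mem h hc), ?_⟩
    have hsE : g₀ * t * g₀⁻¹ ∈ S.E := S.normalE.conj_mem t htE g₀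
    subst hp3
    have h1 : g₀ * c⁻¹ * g₀⁻¹ = t⁻¹ * c⁻¹ := by rw [ht]; group
    have h2 : g₀ ^ 2 * c⁻¹ * (g₀ ^ 2)⁻¹ = (g₀ * t * g₀⁻¹)⁻¹ * (t⁻¹ * c⁻¹) := by
      rw [← h1]
      calc g₀ ^ 2 * c⁻¹ * (g₀ ^ 2)⁻¹ = g₀ * (g₀ * c⁻¹ * g₀⁻¹) * g₀⁻¹ := by rw [pow_two]; group
        _ = g₀ * (t⁻¹ * c⁻¹) * g₀⁻¹ := by rw [h1]
        _ = (g₀ * t * g₀⁻¹)⁻¹ * (g₀ * c⁻¹ * g₀⁻¹) := by group
    have h3 : g₀ ^ 3 * c⁻¹ * (g₀ ^ 3)⁻¹ = c⁻¹ := by rw [← hgc]; group
    have h4 : (g₀ * c⁻¹) ^ 3 = (g₀ * c⁻¹ * g₀⁻¹) * (g₀ ^ 2 * c⁻¹ * (g₀ ^ 2)⁻¹) *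
        (g₀ ^ 3 * c⁻¹ * (g₀ ^ 3)⁻¹) * g₀ ^ 3 := by
      simp only [pow_succ, pow_zero, one_mul]; group
    have hct : Commute t⁻¹ c⁻¹ := (S.cen t htE c hc).inv_inv
    have hcs : Commute (g₀ * t * g₀⁻¹)⁻¹ c⁻¹ := (S.cen _ hsE c hc).inv_inv
    rw [h4, h1, h2, h3, ← hgc]
    have h5 : t⁻¹ * c⁻¹ * ((g₀ * t * g₀⁻¹)⁻¹ * (t⁻¹ * c⁻¹)) * c⁻¹ * c ^ 3 =
        t⁻¹ * (g₀ * t * g₀⁻¹)⁻¹ * t⁻¹ := by
      calc t⁻¹ * c⁻¹ * ((g₀ * t * g₀⁻¹)⁻¹ * (t⁻¹ * c⁻¹)) * c⁻¹ * c ^ 3
          = t⁻¹ * (c⁻¹ * (g₀ * t * g₀⁻¹)⁻¹) * (t⁻¹ * c⁻¹) * c⁻¹ * c ^ 3 := by group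
        _ = t⁻¹ * (g₀ * t * g₀⁻¹)⁻¹ * (c⁻¹ * t⁻¹) * c⁻¹ * c⁻¹ * c ^ 3 := by rw [← hcs.eq]; group
        _ = _ := by rw [← hct.eq]; group
    rw [h5]
    exact mul_mem (mul_mem (inv_mem htE) (inv_mem hsE)) (inv_mem htE)
  set z := g ^ p with hz
  refine class_of_small_fixed hG S.index_C hg ?_
  set D := S.C ⊓ centralizer ({g} : Set G) with hD
  have hzD : zpowers z ≤ D := zpowers_le.2 ⟨S.le hgE,
    mem_centralizer_singleton_iff.2 ((Commute.pow_self g p).eq)⟩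
  have hzc : Nat.card (zpowers z) = p := by
    rw [Nat.card_zpowers, orderOf_eq_prime (S.pow_E z hgE) (hno g hg)]
  rcases eq_or_lt_of_le hzD with h | h
  · rw [← h, hzc]
  exfalso
  obtain ⟨d, hdD, hdz, hdp⟩ := exists_pow_mem hP h
  obtain ⟨k, hk : z ^ k = d ^ p⟩ := hdp
  have hcomm : Commute d g := mem_centralizer_singleton_iff.1 hdD.2
  by_cases hkp : (p : ℤ) ∣ k
  · obtain ⟨j, rfl⟩ := hkp
    rw [zpow_mul, zpow_natCast, S.pow_E z hgE, one_zpow] at hk
    have hdE := S.omega_C d hdD.1 hk.symm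
    refine hg (S.self g fun e he => ?_)
    have hlt : zpowers z < S.E ⊓ centralizer ({g} : Set G) :=
      lt_of_le_of_ne (le_inf (zpowers_le.2 hgE) (hzD.trans inf_le_right)) fun h' =>
        hdz (h'.ge ⟨hdE, hdD.2⟩)
    have hEeq : S.E ⊓ centralizer ({g} : Set G) = S.E := by
      refine Subgroup.eq_of_le_of_card_ge inf_le_left ?_
      have h1 := FGS3.Regular.card_lt_card hlt
      obtain ⟨i, hi⟩ := IsPGroup.iff_card.1 (hP.to_subgroup (S.E ⊓ centralizer ({g} : Set G)))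
      rw [hzc, hi] at h1
      rw [hi, S.card_E]
      refine Nat.pow_le_pow_right hp.out.pos ?_
      have := (Nat.pow_lt_pow_iff_right hp.out.one_lt (n := 1)).1 (lt_of_eq_of_lt (pow_one p) h1)
      omega
    exact mem_centralizer_singleton_iff.1 (hEeq.ge he).2
  · have hnC : d⁻¹ * g ^ k ∉ S.C := fun h' => hg <| mem_of_zpow_mem (S.le hgE) hkp (by
      simpa using mul_mem hdD.1 h')
    refine hno _ hnC ?_
    rw [(hcomm.inv_left.zpow_right k).mul_pow, inv_pow, ← hk, hz, ← zpow_natCast (g ^ k), ← zpow_mul,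
      ← zpow_natCast g p, ← zpow_mul, mul_comm k, inv_mul_cancel]

/-- An element of order `p` outside `C` and its commutators with `E`. -/
theorem exists_frame (hP : IsPGroup p G) {x : G} (hx : x ∉ S.C) :
    ∃ y ∈ S.E, ∃ d ∈ S.E, d ≠ 1 ∧ x⁻¹ * y * x = y * d ∧ y ∉ zpowers d ∧ d ∈ center G ∧
      Nat.card (zpowers d) = p ∧ (∀ e ∈ S.E, Commute e x → e ∈ zpowers d) ∧
      (∀ e ∈ S.E, e⁻¹ * (x⁻¹ * e * x) ∈ zpowers d) ∧
      (∀ H : Subgroup G, y ∈ H → d ∈ H → S.E ≤ H) := by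
  haveI := hP.isNilpotent
  haveI := S.normalE
  obtain ⟨z, hzE, hz1, hzc⟩ := OddLocal.exists_ne_one_mem_center_of_normal S.E fun h => by
    have := S.card_E
    rw [h, Subgroup.card_bot] at this
    exact absurd this (ne_of_lt (Nat.one_lt_pow two_ne_zero hp.out.one_lt))
  obtain ⟨y, hy, hyx⟩ : ∃ y ∈ S.E, ¬ Commute y x := by
    by_contra h
    push Not at h
    exact hx (S.self x h)
  set Z := zpowers z with hZ
  have hZc : Nat.card Z = p := by rw [Nat.card_zpowers, orderOf_eq_prime (S.pow_E z hzE) hz1]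
  haveI hZn : Z.Normal := ⟨fun w hw g => by
    have : w ∈ center G := zpowers_le.2 hzc hw
    rwa [mem_center_iff.1 this g, mul_inv_cancel_right]⟩
  set π := QuotientGroup.mk' Z
  have hπ : Nat.card (S.E.map π) = p := by
    have := Subgroup.relIndex_ker π (K := S.E)
    rw [QuotientGroup.ker_mk'] at this
    have h2 := Subgroup.relIndex_mul_relIndex ⊥ Z S.E bot_le (zpowers_le.2 hzE)
    rw [relIndex_bot_left, relIndex_bot_left, hZc, S.card_E, pow_two, this] at h2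
    exact Nat.eq_of_mul_eq_mul_left hp.out.pos h2
  have hcomm : ∀ e ∈ S.E, e⁻¹ * (x⁻¹ * e * x) ∈ Z := by
    intro e he
    haveI := (hP.to_quotient Z).isNilpotent
    haveI : (S.E.map π).Normal := S.normalE.map π (QuotientGroup.mk'_surjective Z)
    obtain ⟨w, hw, hw1, hwc⟩ := OddLocal.exists_ne_one_mem_center_of_normal (S.E.map π) fun h => by
      rw [h, Subgroup.card_bot] at hπ
      exact hp.out.ne_one hπ.symm
    have hwp : Nat.card (zpowers w) = p :=
      ((Nat.dvd_prime hp.out).1 (hπ ▸ Subgroup.card_dvd_of_le (zpowers_le.2 hw))).resolve_left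
        fun h1 => hw1 (by rwa [Nat.card_zpowers, orderOf_eq_one_iff] at h1)
    have hecen : π e ∈ center (G ⧸ Z) := zpowers_le.2 hwc
      ((Subgroup.eq_of_le_of_card_ge (zpowers_le.2 hw) (by rw [hπ, hwp])).ge (mem_map_of_mem π he))
    rw [← QuotientGroup.eq_one_iff]
    show π (e⁻¹ * (x⁻¹ * e * x)) = 1
    rw [map_mul, map_mul, map_mul, map_inv, map_inv, mul_assoc (π x)⁻¹, ← mem_center_iff.1 hecen (π x)]
    group
  set d := y⁻¹ * (x⁻¹ * y * x) with hd
  have hd1 : d ≠ 1 := fun h => hyx (by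
    have h' : x⁻¹ * y * x = y := by rw [hd, inv_mul_eq_one] at h; exact h.symm
    show y * x = x * y
    calc y * x = x * (x⁻¹ * y * x) := by group
      _ = x * y := by rw [h'])
  have hdZ : d ∈ Z := hcomm y hy
  have hdE : d ∈ S.E := zpowers_le.2 hzE hdZ
  have hdp : Nat.card (zpowers d) = p := by rw [Nat.card_zpowers, orderOf_eq_prime (S.pow_E d hdE) hd1]
  have hdeq : zpowers d = Z := Subgroup.eq_of_le_of_card_ge (zpowers_le.2 hdZ) (by rw [hdp, hZc])
  have hdcen : d ∈ center G := zpowers_le.2 hzc hdZ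
  have hyd : y ∉ zpowers d := fun h => hyx (mem_center_iff.1 (zpowers_le.2 hdcen h) x).symm
  have hgen : ∀ H : Subgroup G, H ≤ S.E → y ∈ H → d ∈ H → H = S.E := by
    intro H hH hyH hdH
    refine Subgroup.eq_of_le_of_card_ge hH ?_
    have hlt : zpowers d < H := lt_of_le_of_ne (zpowers_le.2 hdH) fun h => hyd (h ▸ hyH)
    have h1 := FGS3.Regular.card_lt_card hlt
    obtain ⟨i, hi⟩ := IsPGroup.iff_card.1 (hP.to_subgroup H)
    rw [hdp, hi] at h1
    rw [hi, S.card_E]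
    refine Nat.pow_le_pow_right hp.out.pos ?_
    have := (Nat.pow_lt_pow_iff_right hp.out.one_lt (n := 1)).1 (lt_of_eq_of_lt (pow_one p) h1)
    omega
  refine ⟨y, hy, d, hdE, hd1, by rw [hd]; group, hyd, hdcen, hdp, ?_, ?_, ?_⟩
  · intro e he hex
    by_contra hne
    set F := S.E ⊓ centralizer ({x} : Set G) with hF
    have hdF : zpowers d < F := lt_of_le_of_ne
      (zpowers_le.2 ⟨hdE, mem_centralizer_singleton_iff.2 ((mem_center_iff.1 hdcen x).symm)⟩)
      fun h => hne (h.ge ⟨he, mem_centralizer_singleton_iff.2 hex⟩)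
    have h1 := FGS3.Regular.card_lt_card hdF
    obtain ⟨i, hi⟩ := IsPGroup.iff_card.1 (hP.to_subgroup F)
    rw [hdp, hi] at h1
    have hFE : F = S.E := by
      refine Subgroup.eq_of_le_of_card_ge inf_le_left ?_
      rw [hi, S.card_E]
      refine Nat.pow_le_pow_right hp.out.pos ?_
      have := (Nat.pow_lt_pow_iff_right hp.out.one_lt (n := 1)).1 (lt_of_eq_of_lt (pow_one p) h1)
      omega
    exact hyx (mem_centralizer_singleton_iff.1 (hFE.ge hy).2)
  · rw [hdeq]; exact hcomm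
  · intro H hyH hdH
    rw [← hgen (S.E ⊓ H) inf_le_left ⟨hy, hyH⟩ ⟨hdE, hdH⟩]
    exact inf_le_right

/-- Not all of `E` is `p`-th powers in `C`, unless `p = 3` and the class is maximal. -/
theorem powers_case {n : ℕ} (hp2 : p ≠ 2) (hG : Nat.card G = p ^ n) {x : G} (hx : x ∉ S.C) (hxp : x ^ p = 1)
    (hall : ∀ e ∈ S.E, ∃ u ∈ S.C, u ^ p = e) :
    p = 3 ∧ 2 ≤ n ∧ (⊤ : Subgroup G).lowerCentralSeries (n - 2) ≠ ⊥ := by
  have hP : IsPGroup p G := IsPGroup.of_card hG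
  haveI := S.normalC
  haveI := S.normalE
  obtain ⟨y, hy, d, hdE, hd1, hyd, -, hdcen, hdp, hfix, hcomm, -⟩ := exists_frame S hP hx
  obtain ⟨u, huC, hu⟩ := hall y hy
  set f : G →* G := (MulAut.conj x⁻¹).toMonoidHom with hf
  have hfa : ∀ c, f c = x⁻¹ * c * x := fun c => by simp [hf]
  have hfC : ∀ c ∈ S.C, f c ∈ S.C := fun c hc => by
    rw [hfa]; simpa using S.normalC.conj_mem c hc x⁻¹
  set v := u⁻¹ * f u with hv
  have hvC : v ∈ S.C := mul_mem (inv_mem huC) (hfC u huC)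
  have hu2 : u ^ p ^ 2 = 1 := by rw [pow_two, pow_mul, hu, S.pow_E y hy]
  have hvp : v ^ p = d := by
    rw [hv, (pow_mul_C S hp2 hP (inv_mem huC) (hfC u huC) (by rw [inv_pow, hu2, inv_one])).1, inv_pow,
      ← map_pow, hu, hfa, hyd]
    group
  have hv2 : v ^ p ^ 2 = 1 := by rw [pow_two, pow_mul, hvp, S.pow_E d hdE]
  set e₁ := v⁻¹ * f v with he₁
  have hfd : f d = d := by rw [hfa, mul_assoc, ← mem_center_iff.1 hdcen x, inv_mul_cancel_left]
  have he₁E : e₁ ∈ S.E := S.omega_C _ (mul_mem (inv_mem hvC) (hfC v hvC)) (by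
    rw [(pow_mul_C S hp2 hP (inv_mem hvC) (hfC v hvC) (by rw [inv_pow, hv2, inv_one])).1, inv_pow,
      ← map_pow, hvp, hfd, inv_mul_cancel])
  set e₂ := e₁⁻¹ * f e₁ with he₂
  have he₂d : e₂ ∈ zpowers d := by rw [he₂, hfa]; exact hcomm _ he₁E
  have he₂c : e₂ ∈ center G := zpowers_le.2 hdcen he₂d
  have hfe₂ : f e₂ = e₂ := by rw [hfa, mul_assoc, ← mem_center_iff.1 he₂c x, inv_mul_cancel_left]
  have he₂p : e₂ ^ p = 1 := S.pow_E _ (zpowers_le.2 hdE he₂d)
  have hit := iterate_formula f (u := u) (v := v) (e₁ := e₁) (e₂ := e₂) (by rw [hv]; group)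
    (by rw [he₁]; group) (by rw [he₂]; group) hfe₂ (S.cen _ he₁E v hvC)
    (mem_center_iff.1 he₂c v).symm (mem_center_iff.1 he₂c e₁) p
  rw [hf, conj_iterate, hxp, inv_one, one_mul, mul_one, mul_assoc, mul_assoc, hvp, left_eq_mul] at hit
  have hp3 : p = 3 := by
    by_contra hne
    have hp5 : 3 < p := by have := hp.out.two_le; omega
    obtain ⟨k, hk⟩ := hp.out.dvd_choose_self two_ne_zero (by omega)
    obtain ⟨l, hl⟩ := hp.out.dvd_choose_self (k := 3) (by omega) hp5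
    rw [hk, hl, pow_mul, pow_mul, S.pow_E _ he₁E, he₂p, one_pow, one_pow, mul_one, mul_one] at hit
    exact hd1 hit
  refine ⟨hp3, ?_⟩
  refine class_of_small_fixed hG S.index_C hx ?_
  have hdD : zpowers d ≤ S.C ⊓ centralizer ({x} : Set G) :=
    zpowers_le.2 ⟨S.le hdE, mem_centralizer_singleton_iff.2 (mem_center_iff.1 hdcen x).symm⟩
  rcases eq_or_lt_of_le hdD with h | h
  · rw [← h, hdp]
  exfalso
  obtain ⟨c, hcD, hcd, hcp⟩ := exists_pow_mem hP h
  obtain ⟨k, hk : d ^ k = c ^ p⟩ := hcp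
  have hcx : Commute c x := mem_centralizer_singleton_iff.1 hcD.2
  by_cases hkp : (p : ℤ) ∣ k
  · obtain ⟨j, rfl⟩ := hkp
    rw [zpow_mul, zpow_natCast, S.pow_E d hdE, one_zpow] at hk
    exact hcd (hfix c (S.omega_C c hcD.1 hk.symm) hcx)
  obtain ⟨α, β, hab⟩ := Int.isCoprime_iff_gcd_eq_one.2 (show Int.gcd (p : ℤ) k = 1 from by
    rw [Int.gcd, Int.natAbs_natCast]
    exact (hp.out.coprime_iff_not_dvd).2 fun h => hkp (Int.natCast_dvd.2 h))
  -- `c ^ β` has the same `p`-th power as `v`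
  have hcb : (c ^ β) ^ p = v ^ p := by
    rw [← zpow_natCast, ← zpow_mul, mul_comm β, zpow_mul, zpow_natCast, ← hk, ← zpow_mul, hvp]
    calc d ^ (k * β) = d ^ (1 - α * p : ℤ) := by rw [← hab]; ring_nf
      _ = d := by rw [zpow_sub, mul_comm α, zpow_mul, zpow_natCast, S.pow_E d hdE, one_zpow, inv_one,
          mul_one, zpow_one]
  set e := (c ^ β)⁻¹ * v with he
  have heE : e ∈ S.E := pow_eq_C S hp2 hP (zpow_mem (show c ∈ S.C from hcD.1) β) hvC hcb
  have he₁d : e₁ ∈ zpowers d := by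
    have : e₁ = e⁻¹ * (x⁻¹ * e * x) := by
      rw [he₁, hfa, he]
      calc v⁻¹ * (x⁻¹ * v * x) = v⁻¹ * ((x⁻¹ * c ^ β * x) * (x⁻¹ * ((c ^ β)⁻¹ * v) * x)) := by group
        _ = v⁻¹ * (c ^ β * (x⁻¹ * ((c ^ β)⁻¹ * v) * x)) := by
            rw [show x⁻¹ * c ^ β * x = c ^ β by
              rw [mul_assoc, (hcx.zpow_left β).eq, inv_mul_cancel_left]]
        _ = _ := by group
    rw [this]
    exact hcomm e heE
  have he₂1 : e₂ = 1 := by
    rw [he₂, hfa, mul_assoc x⁻¹, ← mem_center_iff.1 (zpowers_le.2 hdcen he₁d) x]; group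
  subst hp3
  rw [he₂1, one_pow, mul_one, show Nat.choose 3 2 = 3 from rfl, S.pow_E _ he₁E, mul_one] at hit
  exact hd1 hit

/-- The types 2 and 3, when `C / E` is cyclic. -/
theorem cyclic_case {n : ℕ} (hp2 : p ≠ 2) (hG : Nat.card G = p ^ n) {x : G} (hx : x ∉ S.C) (hxp : x ^ p = 1)
    {z₀ : G} (hzC : z₀ ∈ S.C) (hgen : ∀ c ∈ S.C, ∃ i : ℤ, (z₀ ^ i)⁻¹ * c ∈ S.E)
    (hzE : z₀ ^ p ^ (n - 3) ∈ S.E) (hzne : 4 ≤ n → z₀ ^ p ^ (n - 4) ∉ S.E) (hn3 : 3 ≤ n)
    (hn3' : n = 3 → z₀ = 1) :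
    (3 ≤ n ∧ ∃ x y z : G, Subgroup.closure ({x, y, z} : Set G) = ⊤ ∧ x ^ p = 1 ∧ y ^ p = 1 ∧ z ^ p ^ (n - 2) = 1 ∧
        x * z = z * x ∧ y * z = z * y ∧ x⁻¹ * y * x = y * z ^ p ^ (n - 3)) ∨
    (4 ≤ n ∧ ∃ (s : ℕ) (x y z : G), (s = 1 ∨ ¬ IsSquare (s : ZMod p)) ∧ Subgroup.closure ({x, y, z} : Set G) = ⊤ ∧
        x ^ p = 1 ∧ y ^ p = 1 ∧ z ^ p ^ (n - 2) = 1 ∧ y * z = z * y ∧ x⁻¹ * y * x = y * z ^ (s * p ^ (n - 3)) ∧
        x⁻¹ * z * x = y * z) := by
  have hP : IsPGroup p G := IsPGroup.of_card hG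
  haveI := S.normalC
  haveI := S.normalE
  obtain ⟨y, hy, d, hdE, hd1, hyd, hydn, hdcen, hdp, hfix, hcomm, hEgen⟩ := exists_frame S hP hx
  -- generation
  have hclos : ∀ (H : Subgroup G), x ∈ H → y ∈ H → d ∈ H → z₀ ∈ H → H = ⊤ := fun H hxH hyH hdH hzH => by
    refine eq_top_of_index_prime S.index_C (fun c hc => ?_) hxH hx
    obtain ⟨i, hi⟩ := hgen c hc
    have := mul_mem (zpow_mem hzH i) (hEgen H hyH hdH hi)
    rwa [mul_inv_cancel_left] at this
  rcases eq_or_lt_of_le hn3 with hn | hn4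
  · refine Or.inl ⟨hn3, x, y, d, hclos _ (subset_closure (by simp)) (subset_closure (by simp))
      (subset_closure (by simp)) ?_, hxp, S.pow_E y hy, ?_, mem_center_iff.1 hdcen x,
      mem_center_iff.1 hdcen y, ?_⟩
    · rw [hn3' hn.symm]; exact one_mem _
    · rw [← hn, show 3 - 2 = 1 from rfl, pow_one]; exact S.pow_E d hdE
    · rw [← hn, Nat.sub_self, pow_zero, pow_one, hyd]
  have hn4 : 4 ≤ n := hn4
  set f : G →* G := (MulAut.conj x⁻¹).toMonoidHom with hf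
  have hfa : ∀ c, f c = x⁻¹ * c * x := fun c => by simp [hf]
  have hfC : ∀ c ∈ S.C, f c ∈ S.C := fun c hc => by
    rw [hfa]; simpa using S.normalC.conj_mem c hc x⁻¹
  have hf_cen : ∀ c ∈ center G, f c = c := fun c hc => by
    rw [hfa, mul_assoc, ← mem_center_iff.1 hc x, inv_mul_cancel_left]
  obtain ⟨a, ha⟩ := hgen (f z₀) (hfC z₀ hzC)
  set e := (z₀ ^ a)⁻¹ * f z₀ with he
  have hfz : f z₀ = z₀ ^ a * e := by rw [he]; group
  have hez : ∀ m : ℤ, Commute (z₀ ^ m) e := fun m => (S.cen e ha _ (zpow_mem hzC m)).symm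
  set q := p ^ (n - 3) with hq
  set e₀ := z₀ ^ q with he₀
  have hq' : n - 3 = (n - 4) + 1 := by omega
  have he₀1 : e₀ ≠ 1 := fun h => hzne hn4 (S.omega_C _ (pow_mem hzC _) (by
    rw [← pow_mul, ← pow_succ, ← hq', ← hq]; exact h))
  have he₀p : Nat.card (zpowers e₀) = p := by
    rw [Nat.card_zpowers, orderOf_eq_prime (S.pow_E _ hzE) he₀1]
  have hfe₀ : f e₀ = e₀ ^ a := by
    rw [he₀, map_pow, hfz, (hez a).mul_pow, ← zpow_natCast z₀ q, ← zpow_natCast (z₀ ^ a), ← zpow_mul,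
      ← zpow_mul, mul_comm a]
    rw [show e ^ q = 1 by rw [hq, hq', pow_succ', pow_mul, S.pow_E e ha, one_pow], mul_one]
  have he₀d : e₀ ∈ zpowers d := by
    by_contra hne
    have h1 := hcomm e₀ hzE
    rw [← hfa, hfe₀, ← zpow_neg_one, ← zpow_add] at h1
    by_cases hpa : (p : ℤ) ∣ -1 + a
    · obtain ⟨j, hj⟩ := hpa
      have h2 : e₀ ^ a = e₀ := by
        rw [show a = 1 + (-1 + a) by ring, zpow_add, zpow_one, hj, zpow_mul, zpow_natCast,
          S.pow_E _ hzE, one_zpow, mul_one]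
      refine hne (hfix e₀ hzE ?_)
      have h3 := hfa e₀
      rw [hfe₀, h2] at h3
      show e₀ * x = x * e₀
      calc e₀ * x = (x * (x⁻¹ * e₀ * x)) := by group
        _ = x * e₀ := by rw [← h3]
    · exact hne (mem_of_zpow_mem (by rw [S.pow_E _ hzE]; exact one_mem _) hpa h1)
  have he₀eq : zpowers e₀ = zpowers d :=
    Subgroup.eq_of_le_of_card_ge (zpowers_le.2 he₀d) (by rw [hdp, he₀p])
  have hpa : (p : ℤ) ∣ a - 1 := by
    have h2 : e₀ ^ a = e₀ := hfe₀.symm.trans (hf_cen e₀ (zpowers_le.2 hdcen he₀d))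
    have h3 : e₀ ^ (a - 1) = 1 := by rw [zpow_sub, h2, zpow_one, mul_inv_cancel]
    have := orderOf_dvd_iff_zpow_eq_one.2 h3
    rwa [orderOf_eq_prime (S.pow_E _ hzE) he₀1] at this
  have hord : orderOf z₀ = p ^ (n - 2) := by
    have h := orderOf_eq_prime_pow (x := z₀) (p := p) (n := n - 3) (by rw [← hq]; exact he₀1) (by
      rw [pow_succ, pow_mul]; exact S.pow_E _ hzE)
    rwa [show n - 3 + 1 = n - 2 by omega] at h
  have hzn2 : z₀ ^ p ^ (n - 2) = 1 := hord ▸ pow_orderOf_eq_one z₀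
  -- `f` is trivial on `C / E`
  have hzp : ∀ i : ℕ, f^[i] (z₀ ^ (p : ℤ)) = z₀ ^ ((p : ℤ) * a ^ i) := by
    intro i
    induction i with
    | zero => simp
    | succ i ih =>
      rw [Function.iterate_succ_apply', ih, map_zpow, hfz, (hez a).mul_zpow, ← zpow_mul, zpow_mul e,
        zpow_natCast e p, S.pow_E e ha, one_zpow, mul_one]
      congr 1
      ring
  have hap : (p : ℤ) ^ (n - 3) ∣ a ^ p - 1 := by
    have h1 := hzp p
    rw [hf, conj_iterate, hxp, inv_one, one_mul, mul_one] at h1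
    have h2 : z₀ ^ ((p : ℤ) * a ^ p - p) = 1 := by rw [zpow_sub, ← h1, mul_inv_cancel]
    have h3 := orderOf_dvd_iff_zpow_eq_one.2 h2
    rw [hord, show n - 2 = n - 3 + 1 by omega, pow_succ', Nat.cast_mul, Nat.cast_pow,
      show (p : ℤ) * a ^ p - p = p * (a ^ p - 1) by ring] at h3
    exact Int.dvd_of_mul_dvd_mul_left (by exact_mod_cast hp.out.ne_zero) h3
  obtain ⟨j, hj⟩ := lte hp2 hpa hap
  set w := z₀⁻¹ * f z₀ with hw
  have hwC : w ∈ S.C := mul_mem (inv_mem hzC) (hfC _ hzC)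
  have hweq : w = z₀ ^ (a - 1) * e := by rw [hw, hfz]; group
  have hwp : w ^ (p : ℤ) = z₀ ^ ((a - 1) * p) := by
    rw [hweq, (hez (a - 1)).mul_zpow, ← zpow_mul, zpow_natCast e p, S.pow_E e ha, mul_one]
  obtain ⟨b, hb⟩ := hpa
  have hwa : w ^ (a - 1) ∈ zpowers d := by
    rw [← he₀eq]
    refine ⟨j * b * p ^ 0, ?_⟩
    show e₀ ^ (j * b * (p : ℤ) ^ 0) = w ^ (a - 1)
    rw [hb, zpow_mul w, hwp, ← zpow_mul, he₀, ← zpow_natCast, ← zpow_mul]
    congr 1
    rw [hq, hj, show n - 3 = (n - 3 - 1) + 1 by omega]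
    push_cast
    ring_nf
  set e₁ := w⁻¹ * f w with he₁
  have he₁d : e₁ ∈ zpowers d := by
    have : e₁ = w ^ (a - 1) * (e⁻¹ * (x⁻¹ * e * x)) := by
      rw [he₁, ← hfa]
      conv_lhs => rw [hweq, map_mul, map_zpow, hfz]
      have hze : z₀ ^ a * e = z₀ * w := by rw [← hfz, hw]; group
      rw [hze, (show Commute z₀ w by
        rw [hweq]; exact ((Commute.refl z₀).zpow_right _).mul_right (by simpa using hez 1)).mul_zpow]
      calc (z₀ ^ (a - 1) * e)⁻¹ * (z₀ ^ (a - 1) * w ^ (a - 1) * f e)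
          = e⁻¹ * w ^ (a - 1) * f e := by group
        _ = w ^ (a - 1) * e⁻¹ * f e := by
            rw [((S.cen e ha _ (zpow_mem hwC (a - 1))).inv_left).eq]
        _ = _ := by group
    rw [this]
    exact mul_mem hwa (hcomm e ha)
  have he₁E : e₁ ∈ S.E := zpowers_le.2 hdE he₁d
  have hit := iterate_formula f (u := z₀) (v := w) (e₁ := e₁) (e₂ := 1) (by rw [hw]; group)
    (by rw [he₁]; group) (by rw [mul_one]; exact hf_cen _ (zpowers_le.2 hdcen he₁d)) (map_one f)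
    (S.cen _ he₁E w hwC) (Commute.one_left _) (Commute.one_right _) p
  obtain ⟨k, hk⟩ := hp.out.dvd_choose_self two_ne_zero (lt_of_le_of_ne hp.out.two_le hp2.symm)
  rw [hf, conj_iterate, hxp, inv_one, one_mul, mul_one, one_pow, mul_one, hk, pow_mul, S.pow_E _ he₁E,
    one_pow, mul_one, left_eq_mul] at hit
  have hwE : w ∈ S.E := S.omega_C w hwC hit
  have hxz : x⁻¹ * z₀ * x = z₀ * w := by rw [← hfa, hw]; group
  by_cases hwd : w ∈ zpowers d
  · -- type 2
    obtain ⟨t, ht : d ^ t = w⟩ := hwd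
    set z := z₀ * (y ^ t)⁻¹ with hz
    have hyz₀ : Commute y z₀ := S.cen y hy z₀ hzC
    have hdy : Commute y d := (mem_center_iff.1 hdcen y)
    have hzx : x⁻¹ * z * x = z := by
      calc x⁻¹ * z * x = (x⁻¹ * z₀ * x) * ((x⁻¹ * y * x) ^ t)⁻¹ := by
            rw [hz, ← hfa, ← hfa, ← hfa, map_mul, map_inv, map_zpow]
        _ = z₀ * d ^ t * (y ^ t * d ^ t)⁻¹ := by rw [hxz, ← ht, hyd, hdy.mul_zpow]
        _ = _ := by rw [hz]; group
    have hcz : Commute z₀ (y ^ t)⁻¹ := ((hyz₀.zpow_left t).inv_left).symm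
    have hzq : z ^ q = e₀ := by
      rw [hz, hcz.mul_pow, inv_pow, ← zpow_natCast (y ^ t), ← zpow_mul, mul_comm t, zpow_mul, zpow_natCast,
        show y ^ q = 1 by rw [hq, hq', pow_succ', pow_mul, S.pow_E y hy, one_pow], one_zpow, inv_one,
        mul_one]
    obtain ⟨r, hr : e₀ ^ r = d⟩ := he₀eq.ge (mem_zpowers d)
    have hrp : ¬ (p : ℤ) ∣ r := fun ⟨i, hi⟩ => hd1 (by
      rw [← hr, hi, zpow_mul, zpow_natCast, S.pow_E _ hzE, one_zpow])
    obtain ⟨α, β, hab⟩ := Int.isCoprime_iff_gcd_eq_one.2 (show Int.gcd (p : ℤ) r = 1 from by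
      rw [Int.gcd, Int.natAbs_natCast]
      exact (hp.out.coprime_iff_not_dvd).2 fun h => hrp (Int.natCast_dvd.2 h))
    have hdb : d ^ β = e₀ := by
      rw [← hr, ← zpow_mul, show r * β = 1 + (p : ℤ) * (-α) by linear_combination hab, zpow_add, zpow_one,
        zpow_mul, zpow_natCast, S.pow_E _ hzE, one_zpow, mul_one]
    set y' := y ^ β with hy'
    refine Or.inl ⟨hn3, x, y', z, ?_, hxp, S.pow_E _ (zpow_mem hy β), ?_, ?_, ?_, ?_⟩
    · set H := Subgroup.closure ({x, y', z} : Set G)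
      have hzH : z ∈ H := subset_closure (by simp)
      have hdH : d ∈ H := hr ▸ zpow_mem (hzq ▸ pow_mem hzH q) r
      have hyH : y ∈ H := by
        have h1 : y' ^ r ∈ H := zpow_mem (subset_closure (by simp)) r
        rw [hy', ← zpow_mul, show β * r = 1 + (p : ℤ) * (-α) by linear_combination hab, zpow_add, zpow_one,
          zpow_mul, zpow_natCast, S.pow_E y hy, one_zpow, mul_one] at h1
        exact h1
      refine hclos H (subset_closure (by simp)) hyH hdH ?_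
      have := mul_mem hzH (zpow_mem hyH t)
      rwa [hz, inv_mul_cancel_right] at this
    · rw [show n - 2 = (n - 3) + 1 by omega, pow_succ, pow_mul, ← hq, hzq, S.pow_E _ hzE]
    · calc x * z = x * (x⁻¹ * z * x) := by rw [hzx]
        _ = z * x := by group
    · exact ((S.cen _ (zpow_mem hy β) z (mul_mem hzC (inv_mem (zpow_mem (S.le hy) t))))).eq
    · rw [hy', ← hfa, map_zpow, hfa, hyd, hdy.mul_zpow, hdb, hzq]
  · -- type 3
    obtain ⟨l, hl : d ^ l = w⁻¹ * (x⁻¹ * w * x)⟩ := hcomm w hwE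
    have hl1 : d ^ l ∈ zpowers d := ⟨l, rfl⟩
    obtain ⟨s, hs : e₀ ^ s = d ^ l⟩ := mem_powers_iff_mem_zpowers.2 (he₀eq.ge hl1)
    have hwx : x⁻¹ * w * x = w * e₀ ^ s := by rw [hs, hl]; group
    have he₀c : e₀ ∈ center G := zpowers_le.2 hdcen he₀d
    have hsp : (s : ZMod p) ≠ 0 := by
      intro h0
      obtain ⟨i, rfl⟩ := (ZMod.natCast_eq_zero_iff s p).1 h0
      rw [pow_mul, S.pow_E _ hzE, one_pow, mul_one] at hwx
      refine hwd (hfix w hwE ?_)
      show w * x = x * w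
      calc w * x = x * (x⁻¹ * w * x) := by group
        _ = x * w := by rw [hwx]
    have hgen3 : ∀ (H : Subgroup G), x ∈ H → w ∈ H → z₀ ∈ H → H = ⊤ := fun H hxH hwH hzH => by
      have hdH : d ∈ H := by
        have : zpowers e₀ ≤ H := zpowers_le.2 (pow_mem hzH q)
        exact this (he₀eq.ge (mem_zpowers d))
      refine eq_top_of_index_prime S.index_C (fun c hc => ?_) hxH hx
      obtain ⟨i, hi⟩ := hgen c hc
      have hEH : S.E ≤ H := by
        have hlt : zpowers d < S.E ⊓ H := lt_of_le_of_ne (zpowers_le.2 ⟨hdE, hdH⟩) fun h =>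
          hwd (h.ge ⟨hwE, hwH⟩)
        have h1 := FGS3.Regular.card_lt_card hlt
        obtain ⟨m, hm⟩ := IsPGroup.iff_card.1 (hP.to_subgroup (S.E ⊓ H))
        rw [hdp, hm] at h1
        have h2 := Subgroup.eq_of_le_of_card_ge (inf_le_left : S.E ⊓ H ≤ S.E) (by
          rw [hm, S.card_E]
          refine Nat.pow_le_pow_right hp.out.pos ?_
          have := (Nat.pow_lt_pow_iff_right hp.out.one_lt (n := 1)).1 (lt_of_eq_of_lt (pow_one p) h1)
          omega)
        exact h2.ge.trans inf_le_right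
      have := mul_mem (zpow_mem hzH i) (hEH hi)
      rwa [mul_inv_cancel_left] at this
    have hcwz : Commute w z₀ := S.cen w hwE z₀ hzC
    by_cases hsq : IsSquare (s : ZMod p)
    · obtain ⟨r, hr⟩ := hsq
      have hr0 : r ≠ 0 := fun h => hsp (by rw [hr, h, mul_zero])
      set m := (r⁻¹).val with hm
      have hmr : (m : ZMod p) = r⁻¹ := ZMod.natCast_zmod_val _
      have hxm : ∀ c, (x ^ m)⁻¹ * c * x ^ m = f^[m] c := fun c => by rw [hf, conj_iterate]
      have hfm := iterate_formula f (u := z₀) (v := w) (e₁ := e₀ ^ s) (e₂ := 1) (by rw [hw]; group)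
        (by rw [hfa, hwx]) (by rw [mul_one]; exact hf_cen _ (pow_mem he₀c s)) (map_one f)
        (mem_center_iff.1 (pow_mem he₀c s) w).symm (Commute.one_left _) (Commute.one_right _) m
      have hfw := iterate_formula f (u := w) (v := e₀ ^ s) (e₁ := 1) (e₂ := 1) (by rw [hfa, hwx])
        (by rw [mul_one]; exact hf_cen _ (pow_mem he₀c s)) (by rw [mul_one, map_one]) (map_one f)
        (Commute.one_left _) (Commute.one_left _) (Commute.one_right _) m
      simp only [one_pow, mul_one] at hfm hfw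
      set y' := w ^ m * (e₀ ^ s) ^ m.choose 2 with hy'
      have hy'E : y' ∈ S.E := mul_mem (pow_mem hwE m) (pow_mem (pow_mem hzE s) _)
      refine Or.inr ⟨hn4, 1, x ^ m, y', z₀, Or.inl rfl, ?_, ?_, S.pow_E _ hy'E, hzn2, ?_, ?_, ?_⟩
      · set H := Subgroup.closure ({x ^ m, y', z₀} : Set G)
        have hzH : z₀ ∈ H := subset_closure (by simp)
        have hxH : x ∈ H := by
          refine mem_of_zpow_mem (k := (m : ℤ)) (by rw [hxp]; exact one_mem _) (fun h => ?_)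
            (by rw [zpow_natCast]; exact subset_closure (by simp))
          have h0 : ((m : ℤ) : ZMod p) = 0 := (ZMod.intCast_zmod_eq_zero_iff_dvd _ p).2 h
          rw [Int.cast_natCast, hmr] at h0
          exact inv_ne_zero hr0 h0
        refine hgen3 H hxH ?_ hzH
        have h1 : z₀⁻¹ * (x⁻¹ * z₀ * x) ∈ H :=
          mul_mem (inv_mem hzH) (mul_mem (mul_mem (inv_mem hxH) hzH) hxH)
        rwa [hxz, inv_mul_cancel_left] at h1
      · rw [← pow_mul, mul_comm, pow_mul, hxp, one_pow]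
      · exact (S.cen _ hy'E z₀ hzC).eq
      · have hfix' : f^[m] ((e₀ ^ s) ^ m.choose 2) = (e₀ ^ s) ^ m.choose 2 :=
          Function.iterate_fixed (hf_cen _ (pow_mem (pow_mem he₀c s) (m.choose 2))) m
        have hse : e₀ ^ (s * m * m) = z₀ ^ q := by
          refine (pow_eq_pow_iff_modEq (n := s * m * m) (m := 1)).2 ?_ |>.trans (by rw [pow_one])
          rw [orderOf_eq_prime (S.pow_E _ hzE) he₀1, ← ZMod.natCast_eq_natCast_iff]
          push_cast
          rw [hmr, hr]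
          field_simp
        rw [one_mul, hxm, hy', iterate_map_mul, iterate_map_pow, hfw, hfix',
          Commute.mul_pow (mem_center_iff.1 (pow_mem (pow_mem he₀c s) m) w), ← pow_mul, ← pow_mul (e₀), ← mul_assoc,
          hse, mul_assoc, mul_assoc, ← mem_center_iff.1 (pow_mem (pow_mem he₀c s) (m.choose 2)) (z₀ ^ q)]
      · rw [hxm, hfm, hy', mul_assoc, (S.cen _ hy'E z₀ hzC).eq]
    · refine Or.inr ⟨hn4, s, x, w, z₀, Or.inr hsq, hgen3 _ (subset_closure (by simp))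
        (subset_closure (by simp)) (subset_closure (by simp)), hxp, hit, hzn2, hcwz.eq, ?_, ?_⟩
      · rw [hwx, he₀, ← pow_mul, mul_comm s, hq]
      · rw [hxz, hcwz.eq]

end Cfsg.Agent.TwoGroups.RankTwoClassify
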