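import Cfsg.Agent.OddLocal.CN
import Cfsg.Prelude.Def_Transfer

/-! Nilpotent minimal covers: an abelian Sylow subgroup that is cyclic or not elementary. -/

set_option autoImplicit false

namespace Cfsg.Agent.TwoGroups.NilCover

open Cfsg
open scoped Pointwise

variable {G : Type*} [Group G]

theorem mem_sylow_of_normalizes [Finite G] {p : ℕ} [Fact p.Prime] (P : Sylow p G) {y : G}
    (hy : ∃ k : ℕ, y ^ p ^ k = 1)
    (hn : y ∈ Subgroup.normalizer ((P : Subgroup G) : Set G)) : y ∈ (P : Subgroup G) := by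
  have hz : IsPGroup p (Subgroup.zpowers y) := by
    rintro ⟨a, ha⟩
    obtain ⟨n, rfl⟩ := Subgroup.mem_zpowers_iff.mp ha
    obtain ⟨k, hk⟩ := hy
    refine ⟨k, Subtype.ext ?_⟩
    show (y ^ n) ^ p ^ k = 1
    rw [← zpow_natCast, ← zpow_mul, mul_comm, zpow_mul, zpow_natCast, hk, one_zpow]
  have h := P.is_maximal' (hz.to_sup_of_normal_right' P.isPGroup'
    (Subgroup.zpowers_le.mpr hn)) le_sup_right
  rw [← h]
  exact Subgroup.mem_sup_left (Subgroup.mem_zpowers y)

/-- A nilpotent subgroup centralizes each of its `p`-elements if the Sylow `p`-subgroups are abelian. -/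
theorem le_centralizer_of_mem [Finite G] {p : ℕ} [Fact p.Prime] (P : Sylow p G)
    (hab : IsMulCommutative ↥(P : Subgroup G)) {A : Subgroup G} (hA : Group.IsNilpotent A)
    {x : G} (hxA : x ∈ A) (hx : ∃ k : ℕ, x ^ p ^ k = 1) :
    A ≤ Subgroup.centralizer ({x} : Set G) := by
  refine Cfsg.Agent.OddLocal.CN.le_of_prime_pow_elements fun g hg t k ht hgk => ?_
  rw [Subgroup.mem_centralizer_singleton_iff]
  obtain ⟨j, hj⟩ := hx
  by_cases htp : t = p
  · subst htp
    obtain ⟨Q⟩ : Nonempty (Sylow t A) := inferInstance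
    have hQn : (Q : Subgroup A).Normal :=
      Cfsg.Agent.Core.isNilpotent_iff_forall_sylow_normal.mp hA t inferInstance Q
    have hmem : ∀ a : A, (∃ n : ℕ, a ^ t ^ n = 1) → a ∈ (Q : Subgroup A) := fun a ha =>
      mem_sylow_of_normalizes Q ha (by rw [Subgroup.normalizer_eq_top_iff.mpr hQn]; trivial)
    obtain ⟨R, hR⟩ := (Q.isPGroup'.map A.subtype).exists_le_sylow
    have h1 : g ∈ (R : Subgroup G) :=
      hR ⟨⟨g, hg⟩, hmem _ ⟨k, Subtype.ext hgk⟩, rfl⟩
    have h2 : x ∈ (R : Subgroup G) :=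
      hR ⟨⟨x, hxA⟩, hmem _ ⟨j, Subtype.ext hj⟩, rfl⟩
    obtain ⟨c, hc⟩ := MulAction.exists_smul_eq G P R
    rw [← hc] at h1 h2
    rw [Sylow.coe_subgroup_smul, Subgroup.mem_pointwise_smul_iff_inv_smul_mem] at h1 h2
    have h3 := congrArg Subtype.val (mul_comm' (⟨_, h1⟩ : (P : Subgroup G)) ⟨_, h2⟩)
    simp only [Subgroup.coe_mul, MulAut.smul_def] at h3
    rw [← map_mul, ← map_mul] at h3
    exact (MulAut.conj c)⁻¹.injective h3
  · refine Cfsg.Agent.OddLocal.CN.commute_of_coprime hA hg hxA ?_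
    exact Nat.Coprime.of_dvd (orderOf_dvd_of_pow_eq_one hgk) (orderOf_dvd_of_pow_eq_one hj)
      (Nat.coprime_pow_primes k j ht Fact.out htp)

variable (𝓐 : Finset (Subgroup G))
  (hcov : (∀ A ∈ 𝓐, A ≠ ⊤) ∧ (∀ g : G, ∃ A ∈ 𝓐, g ∈ A))
  (hmin : ∀ 𝓑 : Finset (Subgroup G), (∀ A ∈ 𝓑, A ≠ ⊤) ∧ (∀ g : G, ∃ A ∈ 𝓑, g ∈ A) →
    𝓐.card ≤ 𝓑.card)

include hcov hmin in
/-- Two members of a minimal cover lying in one proper subgroup are equal. -/
theorem eq_of_le {A B M : Subgroup G} (hA : A ∈ 𝓐) (hB : B ∈ 𝓐) (hM : M ≠ ⊤) (hAM : A ≤ M)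
    (hBM : B ≤ M) : A = B := by
  classical
  by_contra hne
  have hc : (∀ C ∈ insert M ((𝓐.erase A).erase B), C ≠ ⊤) ∧
      (∀ g : G, ∃ C ∈ insert M ((𝓐.erase A).erase B), g ∈ C) := by
    refine ⟨fun C hC => ?_, fun g => ?_⟩
    · rcases Finset.mem_insert.mp hC with rfl | h
      · exact hM
      · exact hcov.1 C (Finset.mem_of_mem_erase (Finset.mem_of_mem_erase h))
    · obtain ⟨C, hC, hg⟩ := hcov.2 g
      by_cases h : C = A ∨ C = B
      · refine ⟨M, Finset.mem_insert_self _ _, ?_⟩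
        rcases h with rfl | rfl
        · exact hAM hg
        · exact hBM hg
      · push Not at h
        exact ⟨C, Finset.mem_insert_of_mem (by simp [h.1, h.2, hC]), hg⟩
  have h1 := hmin _ hc
  have h2 := Finset.card_insert_le M ((𝓐.erase A).erase B)
  rw [Finset.card_erase_of_mem (by simp [Ne.symm hne, hB]), Finset.card_erase_of_mem hA] at h2
  have h3 : 1 < 𝓐.card := Finset.one_lt_card.mpr ⟨A, hA, B, hB, hne⟩
  omega

include hcov hmin in
theorem eq_of_le_centralizer (hZ : Subgroup.center G = ⊥) {A B : Subgroup G} {z : G} (hz : z ≠ 1)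
    (hA : A ∈ 𝓐) (hB : B ∈ 𝓐) (hAz : A ≤ Subgroup.centralizer ({z} : Set G))
    (hBz : B ≤ Subgroup.centralizer ({z} : Set G)) : A = B := by
  refine eq_of_le 𝓐 hcov hmin hA hB (fun h => hz ?_) hAz hBz
  rw [← Subgroup.mem_bot, ← hZ, Subgroup.mem_center_iff]
  intro g
  exact Subgroup.mem_centralizer_singleton_iff.mp (by rw [h]; trivial)

include hcov hmin in
/-- A nontrivial abelian Sylow subgroup that is not elementary of order greater than `p` has its
centralizer as a member of the cover. -/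
theorem centralizer_mem [Finite G] (hZ : Subgroup.center G = ⊥)
    (hnil : ∀ A ∈ 𝓐, Group.IsNilpotent ↥A) {p : ℕ} [hp : Fact p.Prime] (P : Sylow p G)
    (hab : IsMulCommutative ↥(P : Subgroup G)) (hP1 : (P : Subgroup G) ≠ ⊥)
    (hne : ¬ (IsElementaryAbelian p (P : Subgroup G) ∧ p < Nat.card ↥(P : Subgroup G))) :
    Subgroup.centralizer ((P : Subgroup G) : Set G) ∈ 𝓐 := by
  classical
  have hpel : ∀ x ∈ (P : Subgroup G), ∃ k : ℕ, x ^ p ^ k = 1 := fun x hx => by
    obtain ⟨k, hk⟩ := P.isPGroup' ⟨x, hx⟩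
    exact ⟨k, by simpa [Subtype.ext_iff] using hk⟩
  have hcent : ∀ x ∈ (P : Subgroup G), ∀ A ∈ 𝓐, x ∈ A →
      A ≤ Subgroup.centralizer ({x} : Set G) := fun x hx A hA hxA =>
    le_centralizer_of_mem P hab (hnil A hA) hxA (hpel x hx)
  have hsame : ∀ x ∈ (P : Subgroup G), x ≠ 1 → ∀ A ∈ 𝓐, ∀ B ∈ 𝓐, x ∈ A → x ∈ B → A = B :=
    fun x hx hx1 A hA B hB h1 h2 => eq_of_le_centralizer 𝓐 hcov hmin hZ hx1 hA hB
      (hcent x hx A hA h1) (hcent x hx B hB h2)
  -- some member contains `P`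
  obtain ⟨A, hA, hPA⟩ : ∃ A ∈ 𝓐, (P : Subgroup G) ≤ A := by
    by_cases hex : ∀ a ∈ (P : Subgroup G), a ^ p = 1
    · have hc : Nat.card ↥(P : Subgroup G) ≤ p := by
        by_contra h; exact hne ⟨⟨hab, hex⟩, by omega⟩
      obtain ⟨x, hx, hx1⟩ := (P : Subgroup G).bot_or_exists_ne_one.resolve_left hP1
      obtain ⟨A, hA, hxA⟩ := hcov.2 x
      refine ⟨A, hA, ?_⟩
      have : Subgroup.zpowers x = (P : Subgroup G) := by
        refine Subgroup.eq_of_le_of_card_ge (Subgroup.zpowers_le.mpr hx) ?_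
        rw [Nat.card_zpowers, orderOf_eq_prime (hex x hx) hx1]
        exact hc
      exact this ▸ Subgroup.zpowers_le.mpr hxA
    · push Not at hex
      obtain ⟨x, hx, hxp⟩ := hex
      obtain ⟨A, hA, hxA⟩ := hcov.2 x
      refine ⟨A, hA, fun y hy => ?_⟩
      have key : ∀ u ∈ (P : Subgroup G), u ^ p ≠ 1 → ∀ B ∈ 𝓐, u ∈ B →
          ∀ w ∈ (P : Subgroup G), w ^ p = 1 → w ∈ B := by
        intro u hu hup B hB huB w hw hwp
        obtain ⟨C, hC, huw⟩ := hcov.2 (u * w)
        have hcomm : Commute u w :=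
          congrArg Subtype.val (mul_comm' (⟨u, hu⟩ : (P : Subgroup G)) ⟨w, hw⟩)
        have h1 : u ^ p ∈ C := by
          have := pow_mem huw p
          rwa [hcomm.mul_pow, hwp, mul_one] at this
        have := hsame _ (pow_mem hu p) hup C hC B hB h1 (pow_mem huB p)
        subst this
        exact (mul_mem_cancel_left huB).mp huw
      by_cases hyp : y ^ p = 1
      · exact key x hx hxp A hA hxA y hy hyp
      · obtain ⟨B, hB, hyB⟩ := hcov.2 y
        obtain ⟨w, hw⟩ := exists_prime_orderOf_dvd_card' (G := ↥(P : Subgroup G)) p (by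
          obtain ⟨k, hk⟩ := IsPGroup.iff_card.mp P.isPGroup'
          refine hk ▸ dvd_pow_self p ?_
          rintro rfl
          exact hP1 (Subgroup.eq_bot_of_card_eq _ (by simpa using hk)))
        have hw1 : (w : G) ≠ 1 := by
          intro h
          have : w = 1 := Subtype.ext h
          rw [this, orderOf_one] at hw
          exact hp.out.ne_one hw.symm
        have hwp : (w : G) ^ p = 1 := by
          have := pow_orderOf_eq_one w
          rw [hw] at this
          exact congrArg Subtype.val this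
        have h1 := key x hx hxp A hA hxA w w.2 hwp
        have h2 := key y hy hyp B hB hyB w w.2 hwp
        rw [hsame _ w.2 hw1 A hA B hB h1 h2]
        exact hyB
  suffices Subgroup.centralizer ((P : Subgroup G) : Set G) = A by rwa [this]
  have hAC : A ≤ Subgroup.centralizer ((P : Subgroup G) : Set G) := fun a ha =>
    Subgroup.mem_centralizer_iff.mpr fun x hx =>
      (Subgroup.mem_centralizer_singleton_iff.mp (hcent x hx A hA (hPA hx) ha)).symm
  refine le_antisymm (Cfsg.Agent.OddLocal.CN.le_of_prime_pow_elements fun u hu t k ht huk => ?_) hAC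
  by_cases htp : t = p
  · subst htp
    exact hPA (mem_sylow_of_normalizes P ⟨k, huk⟩ (Subgroup.centralizer_le_normalizer _ hu))
  · obtain ⟨x, hx, hx1⟩ := (P : Subgroup G).bot_or_exists_ne_one.resolve_left hP1
    obtain ⟨B, hB, hB'⟩ := hcov.2 (u * x)
    have hcomm : Commute u x := (Subgroup.mem_centralizer_iff.mp hu x hx).symm
    obtain ⟨j, hj⟩ := hpel x hx
    have hxB : x ∈ B := by
      have h1 : x ^ t ^ k ∈ B := by
        have := pow_mem hB' (t ^ k)
        rwa [hcomm.mul_pow, huk, one_mul] at this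
      have hco : (t ^ k).Coprime (orderOf x) :=
        Nat.Coprime.of_dvd_right (orderOf_dvd_of_pow_eq_one hj)
          (Nat.coprime_pow_primes k j ht hp.out htp)
      obtain ⟨m, hm⟩ := exists_pow_eq_self_of_coprime hco
      exact hm ▸ pow_mem h1 m
    have := hsame x hx hx1 B hB A hA hxB (hPA hx)
    subst this
    exact (mul_mem_cancel_right hxB).mp hB'

include hcov hmin in
/-- The normalizer of such a Sylow subgroup is maximal and `p`-disjoint from its other conjugates. -/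
theorem normalizer_data [Finite G] (hZ : Subgroup.center G = ⊥)
    (hnil : ∀ A ∈ 𝓐, Group.IsNilpotent ↥A) {p : ℕ} [hp : Fact p.Prime] (P : Sylow p G)
    (hab : IsMulCommutative ↥(P : Subgroup G)) (hnn : ¬ (P : Subgroup G).Normal)
    (hne : ¬ (IsElementaryAbelian p (P : Subgroup G) ∧ p < Nat.card ↥(P : Subgroup G))) :
    Subgroup.centralizer ((P : Subgroup G) : Set G) ∈ 𝓐 ∧
      (∀ M : Subgroup G, IsCoatom M → Subgroup.centralizer ((P : Subgroup G) : Set G) ≤ M →
        M ≤ Subgroup.normalizer ((P : Subgroup G) : Set G)) ∧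
      IsCoatom (Subgroup.normalizer ((P : Subgroup G) : Set G)) ∧
      ∀ g : G, g ∉ Subgroup.normalizer ((P : Subgroup G) : Set G) →
        ¬ p ∣ Nat.card ↥(Subgroup.normalizer ((P : Subgroup G) : Set G) ⊓
          (Subgroup.normalizer ((P : Subgroup G) : Set G)).map (MulAut.conj g).toMonoidHom) := by
  have hP1 : (P : Subgroup G) ≠ ⊥ := fun h => hnn (by rw [h]; infer_instance)
  set N := Subgroup.normalizer ((P : Subgroup G) : Set G) with hN
  have hA := centralizer_mem 𝓐 hcov hmin hZ hnil P hab hP1 hne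
  have hAN : Subgroup.centralizer ((P : Subgroup G) : Set G) ≤ N :=
    Subgroup.centralizer_le_normalizer _
  have hconj : ∀ g : G, Subgroup.centralizer (((g • P : Sylow p G) : Subgroup G) : Set G) ∈ 𝓐 ∧
      IsMulCommutative ↥((g • P : Sylow p G) : Subgroup G) := by
    intro g
    have e : ↥(P : Subgroup G) ≃* ↥((g • P : Sylow p G) : Subgroup G) :=
      (Subgroup.equivSMul (MulAut.conj g) (P : Subgroup G)).trans
        (MulEquiv.subgroupCongr Sylow.coe_subgroup_smul.symm)
    have hab' : IsMulCommutative ↥((g • P : Sylow p G) : Subgroup G) :=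
      ⟨⟨fun a b => e.symm.injective (by rw [map_mul, map_mul]; exact mul_comm' _ _)⟩⟩
    refine ⟨centralizer_mem 𝓐 hcov hmin hZ hnil _ hab' ?_ ?_, hab'⟩
    · intro h
      refine hP1 (Subgroup.eq_bot_of_card_eq _ ?_)
      rw [Nat.card_congr e.toEquiv, h, Subgroup.card_bot]
    · rintro ⟨⟨_, h⟩, hc⟩
      refine hne ⟨⟨hab, fun a ha => ?_⟩, by rwa [Nat.card_congr e.toEquiv]⟩
      have h1 := h _ (e ⟨a, ha⟩).2
      have h2 : e (⟨a, ha⟩ ^ p) = e 1 := by
        rw [map_pow, map_one]; exact Subtype.ext (by simpa using h1)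
      exact congrArg Subtype.val (e.injective h2)
  have hback : ∀ g : G, Subgroup.centralizer (((g • P : Sylow p G) : Subgroup G) : Set G) =
      Subgroup.centralizer ((P : Subgroup G) : Set G) → g ∈ N := by
    intro g h
    refine Sylow.smul_eq_iff_mem_normalizer.mp ?_
    haveI := (hconj g).2
    have h1 : ((g • P : Sylow p G) : Subgroup G) ≤ N :=
      ((Subgroup.le_centralizer _).trans h.le).trans hAN
    have h2 : ((g • P : Sylow p G) : Subgroup G) ≤ (P : Subgroup G) := fun y hy => by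
      obtain ⟨k, hk⟩ := (g • P : Sylow p G).isPGroup' ⟨y, hy⟩
      exact mem_sylow_of_normalizes P ⟨k, by simpa [Subtype.ext_iff] using hk⟩ (h1 hy)
    exact Sylow.ext ((g • P : Sylow p G).is_maximal' P.isPGroup' h2).symm
  have hcoA : ∀ M : Subgroup G, M ≠ ⊤ → Subgroup.centralizer ((P : Subgroup G) : Set G) ≤ M →
      M ≤ N := by
    intro M hM hAM m hm
    refine hback m (eq_of_le 𝓐 hcov hmin (hconj m).1 hA hM (fun c hc => ?_) hAM)
    have h1 : m⁻¹ * c * m ∈ Subgroup.centralizer ((P : Subgroup G) : Set G) := by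
      refine Subgroup.mem_centralizer_iff.mpr fun x hx => ?_
      have h2 := Subgroup.mem_centralizer_iff.mp hc (m * x * m⁻¹) (by
        show m * x * m⁻¹ ∈ ((m • P : Sylow p G) : Subgroup G)
        rw [Sylow.coe_subgroup_smul, Subgroup.mem_pointwise_smul_iff_inv_smul_mem]
        simp [MulAut.smul_def, mul_assoc]; exact hx)
      calc x * (m⁻¹ * c * m) = m⁻¹ * ((m * x * m⁻¹) * c) * m := by group
        _ = m⁻¹ * (c * (m * x * m⁻¹)) * m := by rw [h2]
        _ = (m⁻¹ * c * m) * x := by group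
    have := mul_mem (mul_mem hm (hAM h1)) (inv_mem hm)
    rwa [show m * (m⁻¹ * c * m) * m⁻¹ = c by group] at this
  refine ⟨hA, fun M hM h => hcoA M hM.1 h, ⟨fun h => hnn (Subgroup.normalizer_eq_top_iff.mp h),
    fun M hM => ?_⟩, fun g hg hdvd => ?_⟩
  · by_contra hne'
    exact hM.not_ge (hcoA M hne' (hAN.trans hM.le))
  · obtain ⟨⟨y, hy⟩, hyo⟩ := exists_prime_orderOf_dvd_card' p hdvd
    have hyo' : orderOf y = p := by rw [← hyo, ← Subgroup.orderOf_coe]
    have hy1 : y ≠ 1 := fun h => hp.out.ne_one (by rw [← hyo', h, orderOf_one])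
    have hyp : ∃ k : ℕ, y ^ p ^ k = 1 := ⟨1, by rw [pow_one, ← hyo', pow_orderOf_eq_one]⟩
    obtain ⟨hy1', n, hn, hny⟩ := hy
    have hyP := mem_sylow_of_normalizes P hyp hy1'
    have hny' : g * n * g⁻¹ = y := by simpa using hny
    have hyn : ∃ k : ℕ, n ^ p ^ k = 1 := by
      obtain ⟨k, hk⟩ := hyp
      refine ⟨k, ?_⟩
      rw [← hny', conj_pow, mul_inv_eq_one] at hk
      exact mul_left_cancel (hk.trans (mul_one g).symm)
    have hyP' : y ∈ ((g • P : Sylow p G) : Subgroup G) := by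
      rw [Sylow.coe_subgroup_smul, Subgroup.mem_pointwise_smul_iff_inv_smul_mem]
      have := mem_sylow_of_normalizes P hyn hn
      simpa [MulAut.smul_def, ← hny', mul_assoc] using this
    refine hg (hback g (eq_of_le_centralizer 𝓐 hcov hmin hZ hy1 (hconj g).1 hA ?_ ?_))
    · exact Subgroup.centralizer_le (Set.singleton_subset_iff.mpr hyP')
    · exact Subgroup.centralizer_le (Set.singleton_subset_iff.mpr hyP)

end Cfsg.Agent.TwoGroups.NilCover
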