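import Mathlib
import Cfsg.Prelude.Def_Transfer

/-! Minimal covers of symmetric and alternating groups are not nilpotent. -/

set_option autoImplicit false
set_option linter.style.haveILetI false

namespace Cfsg.Agent.TwoGroups.CycleCover

open Equiv

variable {G : Type*} [Group G]

/-- Several members of a nilpotent cover inside one proper subgroup: the cover is not minimal. -/
theorem no_cover (H : Subgroup G) (hH : H ≠ ⊤) (X : Set G) (hne : X.Nonempty)
    (hN : ∀ N : Subgroup G, Group.IsNilpotent N → ∀ x ∈ X, x ∈ N → N ≤ H)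
    (hall : ∀ N : Subgroup G, Group.IsNilpotent N → ¬ X ⊆ N) :
    ¬ ∃ 𝓐 : Finset (Subgroup G), ((∀ A ∈ 𝓐, A ≠ ⊤) ∧ (∀ g : G, ∃ A ∈ 𝓐, g ∈ A)) ∧
      (∀ 𝓑 : Finset (Subgroup G), (∀ A ∈ 𝓑, A ≠ ⊤) ∧ (∀ g : G, ∃ A ∈ 𝓑, g ∈ A) → 𝓐.card ≤ 𝓑.card) ∧
      (∀ A ∈ 𝓐, Group.IsNilpotent ↥A) := by
  classical
  rintro ⟨𝓐, ⟨hprop, hcov⟩, hmin, hnil⟩
  set B := 𝓐.filter fun A => ∃ x ∈ X, x ∈ A with hB
  have hBH : ∀ A ∈ B, A ≤ H := fun A hA => by
    obtain ⟨hA, x, hx, hxA⟩ := Finset.mem_filter.1 hA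
    exact hN A (hnil A hA) x hx hxA
  have h2 : 2 ≤ B.card := by
    by_contra hlt
    obtain ⟨x, hx⟩ := hne
    obtain ⟨A, hA, hxA⟩ := hcov x
    refine hall A (hnil A hA) fun y hy => ?_
    obtain ⟨A', hA', hyA'⟩ := hcov y
    have : A = A' := Finset.card_le_one.1 (by omega : B.card ≤ 1) A
      (Finset.mem_filter.2 ⟨hA, x, hx, hxA⟩) A' (Finset.mem_filter.2 ⟨hA', y, hy, hyA'⟩)
    exact this ▸ hyA'
  have h3 := hmin (insert H (𝓐 \ B)) ⟨fun A hA => ?_, fun g => ?_⟩
  · have h4 := Finset.card_insert_le H (𝓐 \ B)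
    have hs : B ⊆ 𝓐 := Finset.filter_subset _ _
    rw [Finset.card_sdiff_of_subset hs] at h4
    have := Finset.card_le_card hs
    omega
  · rcases Finset.mem_insert.1 hA with rfl | h
    · exact hH
    · exact hprop A (Finset.mem_sdiff.1 h).1
  · obtain ⟨A, hA, hg⟩ := hcov g
    by_cases hAB : A ∈ B
    · exact ⟨H, Finset.mem_insert_self _ _, hBH A hAB hg⟩
    · exact ⟨A, Finset.mem_insert_of_mem (Finset.mem_sdiff.2 ⟨hA, hAB⟩), hg⟩

/-- A nilpotent subgroup has, inside a self-centralising cyclic subgroup, a central element. -/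
theorem exists_central_power {σ : G} (hcent : ∀ g : G, Commute g σ → g ∈ Subgroup.zpowers σ)
    (hσ : σ ≠ 1) {N : Subgroup G} (hN : Group.IsNilpotent N) (hσN : σ ∈ N) :
    ∃ k : ℤ, σ ^ k ≠ 1 ∧ ∀ g ∈ N, Commute g (σ ^ k) := by
  haveI := hN
  haveI : Nontrivial N := ⟨⟨σ, hσN⟩, 1, fun h => hσ (congrArg Subtype.val h)⟩
  obtain ⟨⟨z, hz⟩, hz0⟩ := Subgroup.ne_bot_iff_exists_ne_one.1 (Group.IsNilpotent.center_ne_bot (G := N))
  have hz1 : z ≠ 1 := fun h => hz0 (Subtype.ext h)
  have hc : ∀ g ∈ N, Commute g (z : G) := fun g hg =>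
    congrArg Subtype.val (Subgroup.mem_center_iff.1 hz ⟨g, hg⟩)
  obtain ⟨k, hk⟩ := Subgroup.mem_zpowers_iff.1 (hcent _ (hc σ hσN).symm)
  exact ⟨k, fun h => hz1 (Subtype.ext (hk.symm.trans h)), fun g hg => hk ▸ hc g hg⟩

/-- In a cyclic group elements of equal order are powers of one another. -/
theorem mem_zpowers_of_orderOf_eq {G : Type*} [Group G] [Finite G] {g y z : G} (hz : z ∈ Subgroup.zpowers g)
    (hy : y ∈ Subgroup.zpowers g) (h : orderOf y = orderOf z) : y ∈ Subgroup.zpowers z := by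
  classical
  haveI : Fintype (Subgroup.zpowers g) := Fintype.ofFinite _
  set z' : Subgroup.zpowers g := ⟨z, hz⟩ with hz'
  have ho : orderOf z' = orderOf z := (Subgroup.orderOf_coe z').symm
  have hsub : (Finset.univ.filter fun a : Subgroup.zpowers g => a ∈ Subgroup.zpowers z') ⊆
      Finset.univ.filter fun a => a ^ orderOf z = 1 := fun a ha => by
    obtain ⟨i, rfl⟩ := (Finset.mem_filter.1 ha).2
    refine Finset.mem_filter.2 ⟨Finset.mem_univ _, ?_⟩
    show (z' ^ i) ^ orderOf z = 1
    rw [← zpow_natCast, ← zpow_mul, mul_comm, zpow_mul, zpow_natCast, ← ho, pow_orderOf_eq_one, one_zpow]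
  have hle : (Finset.univ.filter fun a : Subgroup.zpowers g => a ^ orderOf z = 1).card ≤
      (Finset.univ.filter fun a : Subgroup.zpowers g => a ∈ Subgroup.zpowers z').card := by
    rw [← Fintype.card_subtype (fun a => a ∈ Subgroup.zpowers z'), ← Nat.card_eq_fintype_card]
    refine (IsCyclic.card_pow_eq_one_le (orderOf_pos z)).trans ?_
    exact le_of_eq ((ho.symm.trans (Nat.card_zpowers z').symm))
  have he := Finset.eq_of_subset_of_card_le hsub hle
  have : (⟨y, hy⟩ : Subgroup.zpowers g) ∈ Finset.univ.filter fun a => a ^ orderOf z = 1 :=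
    Finset.mem_filter.2 ⟨Finset.mem_univ _, Subtype.ext (by simp [← h, pow_orderOf_eq_one])⟩
  rw [← he] at this
  obtain ⟨i, hi⟩ := (Finset.mem_filter.1 this).2
  exact ⟨i, by simpa [hz'] using congrArg Subtype.val hi⟩

variable {n : ℕ} (ι : G →* Perm (Fin n)) (hι : Function.Injective ι)

theorem zpow_fixed_iff {f : Perm (Fin n)} (hf : f.IsCycle) {k : ℤ} (hk : f ^ k ≠ 1) (x : Fin n) :
    (f ^ k) x = x ↔ f x = x := by
  refine ⟨fun h => ?_, fun h => Equiv.Perm.zpow_apply_eq_self_of_apply_eq_self h k⟩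
  by_contra hx
  obtain ⟨m, rfl | rfl⟩ := k.eq_nat_or_neg
  · rw [zpow_natCast] at hk h
    exact hk ((hf.pow_eq_one_iff' hx).2 h)
  · rw [zpow_neg, zpow_natCast] at hk h
    refine hk (inv_eq_one.2 ((hf.pow_eq_one_iff' hx).2 ?_))
    rw [Equiv.Perm.inv_eq_iff_eq] at h
    exact h.symm

include hι in
/-- The centraliser of a cycle leaving at most one point, or two points and everything even. -/
theorem centralizer_cycle {σ : G} (hσ : (ι σ).IsCycle)
    (hfix : n ≤ (ι σ).support.card + 1 ∨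
      (n ≤ (ι σ).support.card + 2 ∧ ∀ g, Equiv.Perm.sign (ι g) = 1)) {g : G} (hg : Commute g σ) :
    g ∈ Subgroup.zpowers σ := by
  obtain ⟨a, ha, -⟩ := id hσ
  have hc : ∀ x, ι g (ι σ x) = ι σ (ι g x) := fun x => by
    have := congrArg (fun f : G => ι f x) hg.eq
    simpa using this
  have hga : ι σ (ι g a) ≠ ι g a := fun h => ha ((ι g).injective (by rw [hc, h]))
  obtain ⟨i, hi⟩ := hσ.exists_zpow_eq ha hga
  set h := (σ ^ i)⁻¹ * g with hh
  have hhc : ∀ j : ℤ, Commute (ι h) (ι σ ^ j) := fun j => by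
    rw [← map_zpow]
    refine Commute.map (Commute.zpow_right ?_ j) ι
    exact (((Commute.refl σ).zpow_left i).inv_left).mul_left hg
  have hsupp : (ι h).support ⊆ (ι σ).supportᶜ := by
    intro x hx
    rw [Equiv.Perm.mem_support] at hx
    rw [Finset.mem_compl, Equiv.Perm.mem_support, not_not]
    by_contra hxs
    obtain ⟨j, rfl⟩ := hσ.exists_zpow_eq ha hxs
    refine hx ?_
    have h1 := congrArg (fun f : Perm (Fin n) => f a) (hhc j).eq
    simp only [Equiv.Perm.mul_apply] at h1
    rw [h1]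
    congr 1
    rw [hh, map_mul, map_inv, map_zpow, Equiv.Perm.mul_apply, Equiv.Perm.inv_eq_iff_eq]
    exact hi.symm
  have hcard := Finset.card_le_card hsupp
  rw [Finset.card_compl, Fintype.card_fin] at hcard
  have h1 : ι h = 1 := by
    rcases hfix with hf | ⟨hf, hev⟩
    · exact Equiv.Perm.card_support_le_one.1 (by omega)
    · by_contra hne
      have h2 := Equiv.Perm.two_le_card_support_of_ne_one hne
      have := (Equiv.Perm.card_support_eq_two.1 (show (ι h).support.card = 2 by omega)).sign_eq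
      rw [hev h] at this
      exact absurd this (by decide)
  exact Subgroup.mem_zpowers_iff.2 ⟨i, inv_mul_eq_one.1 (hι (h1.trans (map_one ι).symm))⟩

/-- The subgroup preserving the fixed points of a permutation. -/
def fixStab (f : Perm (Fin n)) : Subgroup G where
  carrier := {g | ∀ x, f (ι g x) = ι g x ↔ f x = x}
  one_mem' := fun x => by simp
  mul_mem' := fun {a b} ha hb x => by
    rw [map_mul, Equiv.Perm.mul_apply, ha, hb]
  inv_mem' := fun {a} ha x => by
    rw [map_inv, ← ha, Equiv.Perm.coe_inv, Equiv.apply_symm_apply]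

include hι in
/-- No nilpotent minimal cover, by cycles of length at least four. -/
theorem no_cover_long (h3 : ∀ τ : Perm (Fin n), τ.IsThreeCycle → τ ∈ ι.range) {σ : G}
    (hσ : (ι σ).IsCycle) (hL : 4 ≤ (ι σ).support.card) (hlt : (ι σ).support.card < n)
    (hfix : n ≤ (ι σ).support.card + 1 ∨
      (n ≤ (ι σ).support.card + 2 ∧ ∀ g, Equiv.Perm.sign (ι g) = 1)) :
    ¬ ∃ 𝓐 : Finset (Subgroup G), ((∀ A ∈ 𝓐, A ≠ ⊤) ∧ (∀ g : G, ∃ A ∈ 𝓐, g ∈ A)) ∧
      (∀ 𝓑 : Finset (Subgroup G), (∀ A ∈ 𝓑, A ≠ ⊤) ∧ (∀ g : G, ∃ A ∈ 𝓑, g ∈ A) → 𝓐.card ≤ 𝓑.card) ∧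
      (∀ A ∈ 𝓐, Group.IsNilpotent ↥A) := by
  classical
  set f := ι σ with hf
  set H := fixStab ι f with hH
  set X : Set G := {x | ∃ t ∈ H, x = t * σ * t⁻¹} with hX
  have hσX : σ ∈ X := ⟨1, H.one_mem, by group⟩
  -- a member of `X` has the same fixed points
  have hXfix : ∀ x ∈ X, (ι x).IsCycle ∧ (ι x).support.card = f.support.card ∧
      ∀ y, ι x y = y ↔ f y = y := by
    rintro x ⟨t, ht, rfl⟩
    refine ⟨by rw [map_mul, map_mul, map_inv]; exact hσ.conj, by
      rw [map_mul, map_mul, map_inv, Equiv.Perm.card_support_conj], fun y => ?_⟩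
    rw [map_mul, map_mul, map_inv, Equiv.Perm.mul_apply, Equiv.Perm.mul_apply, ← Equiv.Perm.eq_inv_iff_eq]
    have := ht ((ι t)⁻¹ y)
    rw [show ι t ((ι t)⁻¹ y) = y by simp] at this
    exact this.symm
  have hN : ∀ N : Subgroup G, Group.IsNilpotent N → ∀ x ∈ X, x ∈ N → N ≤ H := by
    intro N hNn x hx hxN g hg y
    obtain ⟨hxc, hxs, hxf⟩ := hXfix x hx
    obtain ⟨k, hk1, hk⟩ := exists_central_power (fun g hg => centralizer_cycle ι hι hxc (by rwa [hxs]) hg)
      (fun h => hxc.ne_one (by rw [h, map_one])) hNn hxN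
    have hk1' : ι x ^ k ≠ 1 := fun h => hk1 (hι (by rw [map_zpow, h, map_one]))
    have hc := congrArg (fun f : Perm (Fin n) => f y) ((hk g hg).map ι).eq
    simp only [Equiv.Perm.mul_apply, map_zpow] at hc
    rw [← hxf, ← hxf, ← zpow_fixed_iff hxc hk1', ← zpow_fixed_iff hxc hk1', ← hc]
    exact (ι g).injective.eq_iff
  obtain ⟨a, ha, -⟩ := id hσ
  obtain ⟨fx, hfx⟩ : ∃ x, f x = x := by
    by_contra h
    push Not at h
    have : f.support = Finset.univ := Finset.eq_univ_of_forall fun x => Equiv.Perm.mem_support.2 (h x)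
    rw [this, Finset.card_univ, Fintype.card_fin] at hlt
    exact lt_irrefl _ hlt
  refine no_cover H ?_ X ⟨σ, hσX⟩ hN fun N hNn hXN => ?_
  · intro htop
    have hfa : f (f a) ≠ f a := fun h => ha (f.injective h)
    obtain ⟨t, ht⟩ := h3 _ (Equiv.Perm.isThreeCycle_swap_mul_swap_same (a := a) (b := fx) (c := f a)
      (fun h => ha (h ▸ hfx)) (fun h => ha h.symm) (fun h => hfa (h ▸ hfx)))
    have h1 : t ∈ H := htop ▸ Subgroup.mem_top t
    have h2 := h1 (f a)
    rw [ht] at h2
    have h4 : (swap a fx * swap a (f a)) (f a) = fx := by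
      rw [Equiv.Perm.mul_apply, swap_apply_right, swap_apply_left]
    rw [h4] at h2
    exact hfa (h2.1 hfx)
  · obtain ⟨k, hk1, hk⟩ := exists_central_power (fun g hg => centralizer_cycle ι hι hσ hfix hg)
      (fun h => hσ.ne_one (by rw [hf, h, map_one])) hNn (hXN hσX)
    set z := f ^ k with hz
    have hz1 : z ≠ 1 := fun h => hk1 (hι (by rw [map_zpow, map_one]; exact h))
    -- every conjugate of `σ` under `H` contains `z`
    have hpow : ∀ t ∈ H, ∃ i : ℤ, ι t * z * (ι t)⁻¹ = z ^ i := by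
      intro t ht
      have hx : t * σ * t⁻¹ ∈ N := hXN ⟨t, ht, rfl⟩
      obtain ⟨hxc, hxs, -⟩ := hXfix _ ⟨t, ht, rfl⟩
      obtain ⟨j, hj⟩ := Subgroup.mem_zpowers_iff.1
        (centralizer_cycle ι hι hxc (by rwa [hxs]) (hk _ hx).symm)
      have h1 : z = (ι t * f * (ι t)⁻¹) ^ j := by
        rw [hz, hf, ← map_inv, ← map_mul, ← map_mul, ← map_zpow, ← map_zpow, hj]
      set g := ι t * f * (ι t)⁻¹
      have hzg : z ∈ Subgroup.zpowers g := ⟨j, h1.symm⟩
      have hcg : ι t * z * (ι t)⁻¹ ∈ Subgroup.zpowers g := ⟨k, (conj_zpow).trans (by rw [hz])⟩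
      have hmem := mem_zpowers_of_orderOf_eq hzg hcg ((MulAut.conj (ι t)).orderOf_eq z)
      obtain ⟨i, hi⟩ := hmem
      exact ⟨i, hi.symm⟩
    -- contradiction with a three-cycle fixing `a`
    have hza : z a ≠ a := fun h => ha ((zpow_fixed_iff hσ hz1 a).1 h)
    have hmv : ∀ y, z y ≠ y ↔ f y ≠ y := fun y => not_congr (zpow_fixed_iff hσ hz1 y)
    -- a three-cycle on three moved points preserves the fixed points
    have key : ∀ b c d : Fin n, f b ≠ b → f c ≠ c → f d ≠ d → b ≠ c → b ≠ d → c ≠ d → a ≠ b → a ≠ c → a ≠ d →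
        ∃ i : ℤ, (z ^ i) a = (swap b c * swap b d) (z a) := by
      intro b c d hb hc hd hbc hbd hcd hab hac had
      obtain ⟨t, ht⟩ := h3 _ (Equiv.Perm.isThreeCycle_swap_mul_swap_same hbc hbd hcd)
      have hfixed : ∀ y, y ≠ b → y ≠ c → y ≠ d → ι t y = y := fun y h1 h2 h3 => by
        rw [ht, Equiv.Perm.mul_apply, swap_apply_of_ne_of_ne h1 h3, swap_apply_of_ne_of_ne h1 h2]
      have htH : t ∈ H := by
        intro y
        by_cases hy : y = b ∨ y = c ∨ y = d
        · have hm : f y ≠ y := by rcases hy with rfl | rfl | rfl <;> assumption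
          refine iff_of_false (fun h => ?_) hm
          have h1 : ι t (ι t y) ≠ ι t y := fun e => by
            have e' := (ι t).injective e
            rw [ht, Equiv.Perm.mul_apply] at e'
            rcases hy with rfl | rfl | rfl
            · rw [swap_apply_left, swap_apply_of_ne_of_ne hbd.symm hcd.symm] at e'; exact hbd e'.symm
            · rw [swap_apply_of_ne_of_ne hbc.symm hcd, swap_apply_right] at e'; exact hbc e'
            · rw [swap_apply_right, swap_apply_left] at e'; exact hcd e'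
          by_cases h4 : ι t y = b ∨ ι t y = c ∨ ι t y = d
          · rcases h4 with h4 | h4 | h4 <;> rw [h4] at h
            exacts [hb h, hc h, hd h]
          · simp only [not_or] at h4
            exact h1 (hfixed _ h4.1 h4.2.1 h4.2.2)
        · simp only [not_or] at hy
          rw [hfixed y hy.1 hy.2.1 hy.2.2]
      obtain ⟨i, hi⟩ := hpow t htH
      refine ⟨i, ?_⟩
      rw [← hi, Equiv.Perm.mul_apply, Equiv.Perm.mul_apply]
      have h5 : (ι t)⁻¹ a = a := by
        rw [Equiv.Perm.inv_eq_iff_eq, hfixed a hab hac had]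
      rw [h5, ht, Equiv.Perm.mul_apply]
    -- the orbit of `a` under `z`
    set O : Finset (Fin n) := Finset.univ.filter fun y => ∃ i : ℤ, (z ^ i) a = y with hO
    have hOs : O ⊆ f.support := fun y hy => by
      obtain ⟨i, rfl⟩ := (Finset.mem_filter.1 hy).2
      rw [Equiv.Perm.mem_support]
      intro h
      have : f a = a := by
        have e1 : ((f ^ (k * i))⁻¹) ((f ^ (k * i)) a) = a := by simp
        rw [hz, ← zpow_mul] at h
        rw [← e1, ← zpow_neg, Equiv.Perm.zpow_apply_eq_self_of_apply_eq_self h, h]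
      exact ha this
    by_cases hbig : ∃ c ∈ f.support, c ∉ O
    · obtain ⟨c, hc, hcO⟩ := hbig
      obtain ⟨d, hd⟩ : ∃ d ∈ f.support, d ≠ a ∧ d ≠ z a ∧ d ≠ c := by
        by_contra hh
        push Not at hh
        have hsub : f.support ⊆ {a, z a, c} := fun d hd => by
          simp only [Finset.mem_insert, Finset.mem_singleton]
          by_cases h1 : d = a
          · exact Or.inl h1
          by_cases h2 : d = z a
          · exact Or.inr (Or.inl h2)
          exact Or.inr (Or.inr (hh d hd h1 h2))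
        have := (Finset.card_le_card hsub).trans Finset.card_le_three
        omega
      have hac : a ≠ c := fun h => hcO (Finset.mem_filter.2 ⟨Finset.mem_univ _, 0, by simp [h]⟩)
      have hzc : z a ≠ c := fun h => hcO (Finset.mem_filter.2 ⟨Finset.mem_univ _, 1, by simp [h]⟩)
      obtain ⟨i, hi⟩ := key (z a) d c ((hmv _).1 fun h => hza (z.injective h))
        (Equiv.Perm.mem_support.1 hd.1) (Equiv.Perm.mem_support.1 hc) hd.2.2.1.symm hzc hd.2.2.2
        hza.symm hd.2.1.symm hac
      rw [Equiv.Perm.mul_apply, swap_apply_left, swap_apply_of_ne_of_ne hzc.symm hd.2.2.2.symm] at hi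
      exact hcO (Finset.mem_filter.2 ⟨Finset.mem_univ _, i, hi⟩)
    · push Not at hbig
      have hord : 4 ≤ orderOf z := by
        by_contra hlt4
        have hfin : O ⊆ (Finset.range (orderOf z)).image fun i : ℕ => (z ^ i) a := fun y hy => by
          obtain ⟨i, rfl⟩ := (Finset.mem_filter.1 hy).2
          refine Finset.mem_image.2 ⟨(i % orderOf z).toNat, Finset.mem_range.2 ?_, ?_⟩
          · have := Int.emod_lt_of_pos i (Int.natCast_pos.2 (orderOf_pos z))
            have := Int.emod_nonneg i (Int.natCast_ne_zero.2 (orderOf_pos z).ne')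
            omega
          · rw [← zpow_natCast, Int.toNat_of_nonneg (Int.emod_nonneg i (Int.natCast_ne_zero.2 (orderOf_pos z).ne')),
              zpow_mod_orderOf]
        have := (Finset.card_le_card (fun y hy => hfin (hbig y hy) : f.support ⊆ _)).trans Finset.card_image_le
        rw [Finset.card_range] at this
        omega
      have hzc' : ∀ i j : ℕ, i < orderOf z → j < orderOf z → (z ^ i) a = (z ^ j) a → i = j := by
        intro i j hi hj he
        wlog hij : i ≤ j generalizing i j with H'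
        · exact (H' j i hj hi he.symm (by omega)).symm
        by_contra hne
        have h1 : (z ^ (j - i)) a = a := by
          have h2 : (z ^ j) a = (z ^ i) ((z ^ (j - i)) a) := by
            rw [← Equiv.Perm.mul_apply, ← pow_add, Nat.add_sub_cancel' hij]
          exact (z ^ i).injective (h2.symm.trans he.symm)
        refine pow_ne_one_of_lt_orderOf (x := z) (show j - i ≠ 0 by omega) (by omega) ?_
        rw [hz, ← zpow_natCast, ← zpow_mul] at h1 ⊢
        by_contra hne'
        exact ha ((zpow_fixed_iff hσ hne' a).1 h1)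
      have hmem : ∀ i : ℕ, f ((z ^ i) a) ≠ (z ^ i) a := fun i => Equiv.Perm.mem_support.1
        (hOs (Finset.mem_filter.2 ⟨Finset.mem_univ _, i, by rw [zpow_natCast]⟩))
      have hne' : ∀ i j : ℕ, i < 4 → j < 4 → i ≠ j → (z ^ i) a ≠ (z ^ j) a := fun i j hi hj hij he =>
        hij (hzc' i j (by omega) (by omega) he)
      -- a cycle fixing `a` and moving `z a` to `z² a` must send `z² a` to `z⁴ a`
      obtain ⟨t, ht⟩ := h3 _ (Equiv.Perm.isThreeCycle_swap_mul_swap_same (a := (z ^ 1) a) (b := (z ^ 3) a)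
        (c := (z ^ 2) a) (hne' 1 3 (by omega) (by omega) (by omega)) (hne' 1 2 (by omega) (by omega) (by omega))
        (hne' 3 2 (by omega) (by omega) (by omega)))
      obtain ⟨i, hi⟩ := key ((z ^ 1) a) ((z ^ 3) a) ((z ^ 2) a) (hmem 1) (hmem 3) (hmem 2)
        (hne' 1 3 (by omega) (by omega) (by omega)) (hne' 1 2 (by omega) (by omega) (by omega))
        (hne' 3 2 (by omega) (by omega) (by omega))
        (by simpa using hne' 0 1 (by omega) (by omega) (by omega))
        (by simpa using hne' 0 3 (by omega) (by omega) (by omega))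
        (by simpa using hne' 0 2 (by omega) (by omega) (by omega))
      have htH : t ∈ H := by
        intro y
        by_cases hy : y = (z ^ 1) a ∨ y = (z ^ 3) a ∨ y = (z ^ 2) a
        · refine iff_of_false (fun h => ?_) (by rcases hy with rfl | rfl | rfl <;> exact hmem _)
          have : ι t y = (z ^ 1) a ∨ ι t y = (z ^ 3) a ∨ ι t y = (z ^ 2) a := by
            rw [ht, Equiv.Perm.mul_apply]
            rcases hy with rfl | rfl | rfl
            · rw [swap_apply_left, swap_apply_of_ne_of_ne (hne' 2 1 (by omega) (by omega) (by omega))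
                (hne' 2 3 (by omega) (by omega) (by omega))]
              exact Or.inr (Or.inr rfl)
            · rw [swap_apply_of_ne_of_ne (hne' 3 1 (by omega) (by omega) (by omega))
                (hne' 3 2 (by omega) (by omega) (by omega)), swap_apply_right]
              exact Or.inl rfl
            · rw [swap_apply_right, swap_apply_left]
              exact Or.inr (Or.inl rfl)
          rcases this with h4 | h4 | h4 <;> rw [h4] at h <;> exact hmem _ h
        · simp only [not_or] at hy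
          rw [ht, Equiv.Perm.mul_apply, swap_apply_of_ne_of_ne hy.1 hy.2.2, swap_apply_of_ne_of_ne hy.1 hy.2.1]
      obtain ⟨i, hi⟩ := hpow t htH
      have hconj : ∀ y, ι t (z y) = (z ^ i) (ι t y) := fun y => by
        rw [← hi]; simp
      have e0 : ι t a = a := by
        have h01 := hne' 0 1 (by omega) (by omega) (by omega)
        have h02 := hne' 0 2 (by omega) (by omega) (by omega)
        have h03 := hne' 0 3 (by omega) (by omega) (by omega)
        simp only [pow_zero, Equiv.Perm.one_apply] at h01 h02 h03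
        rw [ht, Equiv.Perm.mul_apply, swap_apply_of_ne_of_ne h01 h02, swap_apply_of_ne_of_ne h01 h03]
      have e1 : (z ^ i) a = (z ^ 2) a := by
        have := hconj a
        rw [e0, show z a = (z ^ 1) a by rw [pow_one], ht, Equiv.Perm.mul_apply, swap_apply_left,
          swap_apply_of_ne_of_ne (hne' 2 1 (by omega) (by omega) (by omega))
          (hne' 2 3 (by omega) (by omega) (by omega))] at this
        exact this.symm
      have e2 : (z ^ i) ((z ^ 2) a) = (z ^ 3) a := by
        have := hconj ((z ^ 1) a)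
        rw [← Equiv.Perm.mul_apply z, ← pow_succ', ht, Equiv.Perm.mul_apply, Equiv.Perm.mul_apply,
          swap_apply_right, swap_apply_left, swap_apply_left,
          swap_apply_of_ne_of_ne (hne' 2 1 (by omega) (by omega) (by omega))
            (hne' 2 3 (by omega) (by omega) (by omega))] at this
        exact this.symm
      have e3 : (z ^ i) ((z ^ 2) a) = (z ^ 4) a := by
        rw [← zpow_natCast z 2, ← Equiv.Perm.mul_apply, ← zpow_add, add_comm, zpow_add, Equiv.Perm.mul_apply, e1,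
          ← Equiv.Perm.mul_apply, zpow_natCast, ← pow_add]
      rw [e3] at e2
      exact hza (((z ^ 3)).injective (by rw [← Equiv.Perm.mul_apply, ← pow_succ]; exact e2))

include hι in
/-- No nilpotent minimal cover, by three-cycles. -/
theorem no_cover_three (H : Subgroup G) (hH : H ≠ ⊤) {x y : G} (hx : (ι x).IsThreeCycle)
    (hy : (ι y).IsThreeCycle) (hxH : x ∈ H) (hyH : y ∈ H) (hne : y ∉ Subgroup.zpowers x)
    (hfix : n ≤ 4 ∨ (n ≤ 5 ∧ ∀ g, Equiv.Perm.sign (ι g) = 1)) :
    ¬ ∃ 𝓐 : Finset (Subgroup G), ((∀ A ∈ 𝓐, A ≠ ⊤) ∧ (∀ g : G, ∃ A ∈ 𝓐, g ∈ A)) ∧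
      (∀ 𝓑 : Finset (Subgroup G), (∀ A ∈ 𝓑, A ≠ ⊤) ∧ (∀ g : G, ∃ A ∈ 𝓑, g ∈ A) → 𝓐.card ≤ 𝓑.card) ∧
      (∀ A ∈ 𝓐, Group.IsNilpotent ↥A) := by
  have key : ∀ w : G, (ι w).IsThreeCycle → ∀ N : Subgroup G, Group.IsNilpotent N → w ∈ N →
      N ≤ Subgroup.zpowers w := by
    intro w hw N hNn hwN g hg
    have hcard := hw.card_support
    have hfix' : n ≤ (ι w).support.card + 1 ∨
        (n ≤ (ι w).support.card + 2 ∧ ∀ g, Equiv.Perm.sign (ι g) = 1) := by rwa [hcard]
    have hcent := fun g hg => centralizer_cycle ι hι hw.isCycle hfix' (g := g) hg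
    obtain ⟨k, hk1, hk⟩ := exists_central_power hcent (fun h => hw.isCycle.ne_one (by rw [h, map_one])) hNn hwN
    refine hcent g ?_
    have ho : orderOf w = 3 := by rw [← orderOf_injective ι hι, hw.orderOf]
    have h3 : ¬ (3 : ℤ) ∣ k := fun ⟨l, hl⟩ => hk1 (by
      rw [hl, zpow_mul, show (3 : ℤ) = ((3 : ℕ) : ℤ) from rfl, zpow_natCast, ← ho, pow_orderOf_eq_one, one_zpow])
    have hc := hk g hg
    obtain ⟨α, hα⟩ : ∃ α : ℤ, w = (w ^ k) ^ α := by
      rcases (show k % 3 = 1 ∨ k % 3 = 2 by omega) with h | h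
      · exact ⟨1, by rw [zpow_one, ← zpow_mod_orderOf w k, ho, show k % (3 : ℕ) = 1 by exact_mod_cast h, zpow_one]⟩
      · refine ⟨2, ?_⟩
        rw [← zpow_mul, ← zpow_mod_orderOf w (k * 2), ho, show k * 2 % (3 : ℕ) = 1 by push_cast; omega, zpow_one]
    rw [hα]
    exact hc.zpow_right α
  refine no_cover H hH {x, y} ⟨x, Or.inl rfl⟩ ?_ fun N hNn hXN =>
    hne (key x hx N hNn (hXN (Or.inl rfl)) (hXN (Or.inr rfl)))
  rintro N hNn w (rfl | rfl) hwN
  · exact (key w hx N hNn hwN).trans (Subgroup.zpowers_le.2 hxH)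
  · exact (key w hy N hNn hwN).trans (Subgroup.zpowers_le.2 hyH)

end Cfsg.Agent.TwoGroups.CycleCover
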