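import Cfsg.Agent.TwoGroups.StrEmb
import Cfsg.Agent.Core.SchurZassenhaus

/-!
Groups all whose involution centralizers are elementary abelian 2-groups.
-/

set_option autoImplicit false

namespace Cfsg.Agent.TwoGroups

open Subgroup

variable {G : Type*} [Group G]

/-- The standing hypotheses: `T` is a noncyclic non-normal Sylow 2-subgroup, involution centralizers
are elementary abelian. -/
structure CHyp (T : Sylow 2 G) : Prop where
  nc : ¬ IsCyclic (T : Subgroup G)
  nn : ¬ (T : Subgroup G).Normal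
  cen : ∀ t : G, orderOf t = 2 → IsMulCommutative (centralizer ({t} : Set G)) ∧
    ∀ c ∈ centralizer ({t} : Set G), c ^ 2 = 1

namespace CHyp

variable [Finite G] {T : Sylow 2 G} (h : CHyp T)

local notation "H₀" => Subgroup.normalizer ((T : Subgroup G) : Set G)

include h

theorem ne_bot : (T : Subgroup G) ≠ ⊥ := fun e => h.nn (by rw [e]; infer_instance)

theorem centralizer_eq {r : G} (hr : orderOf r = 2) (hrT : r ∈ (T : Subgroup G)) :
    centralizer ({r} : Set G) = T := by
  obtain ⟨hcomm, hexp⟩ := h.cen r hr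
  have hpC : IsPGroup 2 (centralizer ({r} : Set G)) := fun c =>
    ⟨1, Subtype.ext (by simpa using hexp c.1 c.2)⟩
  haveI : Nontrivial (T : Subgroup G) := (Subgroup.nontrivial_iff_ne_bot _).mpr h.ne_bot
  haveI := T.2.center_nontrivial
  obtain ⟨⟨z, hz⟩, hzo⟩ := exists_prime_orderOf_dvd_card' (G := Subgroup.center (T : Subgroup G)) 2 (by
    obtain ⟨m, hm⟩ := IsPGroup.iff_card.mp (T.2.to_subgroup (Subgroup.center (T : Subgroup G)))
    have : m ≠ 0 := fun e => by
      have := Finite.one_lt_card (α := Subgroup.center (T : Subgroup G))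
      rw [hm, e, pow_zero] at this
      exact lt_irrefl 1 this
    rw [hm]; exact dvd_pow_self 2 this)
  rw [Subgroup.orderOf_mk, ← Subgroup.orderOf_coe] at hzo
  have hmem : ∀ c ∈ (T : Subgroup G), c ∈ centralizer ({(z : G)} : Set G) := fun c hc => by
    rw [mem_centralizer_singleton_iff]
    exact congrArg Subtype.val (Subgroup.mem_center_iff.mp hz ⟨c, hc⟩)
  refine T.3 hpC fun c hc => ?_
  rw [mem_centralizer_singleton_iff]
  exact congrArg Subtype.val ((h.cen z hzo).1.is_comm.comm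
    (⟨c, hmem c hc⟩ : centralizer ({(z : G)} : Set G)) ⟨r, hmem r hrT⟩)

theorem sq_eq_one {a : G} (ha : a ∈ (T : Subgroup G)) : a * a = 1 := by
  haveI : Nontrivial (T : Subgroup G) := (Subgroup.nontrivial_iff_ne_bot _).mpr h.ne_bot
  obtain ⟨r, hr⟩ := exists_prime_orderOf_dvd_card' (G := (T : Subgroup G)) 2
    (T.2.card_eq_or_dvd.resolve_left Finite.one_lt_card.ne')
  rw [← Subgroup.orderOf_coe] at hr
  have := (h.cen r hr).2 a ((h.centralizer_eq hr r.2).ge ha)
  rwa [pow_two] at this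

theorem comm {a b : G} (ha : a ∈ (T : Subgroup G)) (hb : b ∈ (T : Subgroup G)) : a * b = b * a := by
  have h1 := h.sq_eq_one (mul_mem ha hb)
  rw [mul_eq_one_iff_eq_inv, mul_inv_rev, inv_eq_of_mul_eq_one_right (h.sq_eq_one ha),
    inv_eq_of_mul_eq_one_right (h.sq_eq_one hb)] at h1
  exact h1

theorem orderOf_eq_two {a : G} (ha : a ∈ (T : Subgroup G)) (ha1 : a ≠ 1) : orderOf a = 2 :=
  orderOf_eq_prime (by rw [pow_two]; exact h.sq_eq_one ha) ha1

theorem mem_sylow {r : G} (hr : orderOf r = 2) (hrH : r ∈ H₀) : r ∈ (T : Subgroup G) := by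
  have hp : IsPGroup 2 (zpowers r) := IsPGroup.of_card (n := 1) (by rw [Nat.card_zpowers, hr, pow_one])
  exact (T.3 (hp.to_sup_of_normal_right' T.2 (zpowers_le.2 hrH)) le_sup_right).le
    (mem_sup_left (mem_zpowers r))

theorem se : Cfsg.IsStronglyEmbedded H₀ := by
  refine ⟨fun e => h.nn (normalizer_eq_top_iff.mp e), ?_, fun g hg => ?_⟩
  · haveI : Nontrivial (T : Subgroup G) := (Subgroup.nontrivial_iff_ne_bot _).mpr h.ne_bot
    exact even_iff_two_dvd.mpr ((T.2.card_eq_or_dvd.resolve_left Finite.one_lt_card.ne').trans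
      (card_dvd_of_le le_normalizer))
  by_contra he
  rw [Nat.not_odd_iff_even, even_iff_two_dvd] at he
  obtain ⟨⟨s, hs⟩, hso⟩ := exists_prime_orderOf_dvd_card' 2 he
  rw [Subgroup.orderOf_mk] at hso
  obtain ⟨hs1, s', hs', hse⟩ := Subgroup.mem_inf.mp hs
  have hs'o : orderOf s' = 2 := by rw [← hso, ← hse]; exact ((MulAut.conj g).orderOf_eq s').symm
  have e1 := h.centralizer_eq hso (h.mem_sylow hso hs1)
  have e2 := h.centralizer_eq hs'o (h.mem_sylow hs'o hs')
  apply hg
  have key : ∀ a, a ∈ centralizer ({s'} : Set G) ↔ g * a * g⁻¹ ∈ centralizer ({s} : Set G) := by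
    intro a
    rw [mem_centralizer_singleton_iff, mem_centralizer_singleton_iff, ← hse]
    show _ ↔ g * a * g⁻¹ * (g * s' * g⁻¹) = g * s' * g⁻¹ * (g * a * g⁻¹)
    rw [show g * a * g⁻¹ * (g * s' * g⁻¹) = g * (a * s') * g⁻¹ by group,
      show g * s' * g⁻¹ * (g * a * g⁻¹) = g * (s' * a) * g⁻¹ by group, mul_left_inj, mul_right_inj]
  rw [e1, e2] at key
  rw [mem_normalizer_iff]
  exact key

/-- The points fixed by `T`: `T` fixes only the coset `H`. -/
theorem card_involutions :
    Nat.card {t : G // orderOf t = 2 ∧ t ∈ H₀} + 1 = Nat.card (T : Subgroup G) := by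
  classical
  let _ : Fintype (T : Subgroup G) := Fintype.ofFinite _
  have e : Nat.card {t : G // orderOf t = 2 ∧ t ∈ H₀} = Nat.card {a : (T : Subgroup G) // a ≠ 1} :=
    Nat.card_congr ⟨fun t => ⟨⟨t.1, h.mem_sylow t.2.1 t.2.2⟩, fun e => by
        have h1 : (t : G) = 1 := congrArg Subtype.val e
        have h2 := t.2.1
        rw [h1, orderOf_one] at h2
        omega⟩,
      fun a => ⟨a.1.1, h.orderOf_eq_two a.1.2 (fun e => a.2 (Subtype.ext e)), le_normalizer a.1.2⟩,
      fun t => rfl, fun a => rfl⟩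
  rw [e, Nat.card_eq_fintype_card, Fintype.card_subtype_compl, Fintype.card_subtype_eq,
    Nat.card_eq_fintype_card]
  have := Fintype.card_pos (α := (T : Subgroup G))
  omega

theorem four_le : 4 ≤ Nat.card (T : Subgroup G) := by
  obtain ⟨k, hk⟩ := IsPGroup.iff_card.mp T.2
  by_contra hlt
  apply h.nc
  have hk2 : k ≤ 1 := by
    by_contra h2
    exact hlt (hk ▸ le_trans (by norm_num : 4 ≤ 2 ^ 2) (Nat.pow_le_pow_right two_pos (by omega)))
  rcases Nat.le_one_iff_eq_zero_or_eq_one.mp hk2 with rfl | rfl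
  · exact absurd (Subgroup.card_eq_one.mp (by rw [hk, pow_zero])) h.ne_bot
  · exact isCyclic_of_prime_card (p := 2) (by rw [hk, pow_one])

variable {u : G} (hu : orderOf u = 2)
  (huH : u ∉ Subgroup.normalizer ((T : Subgroup G) : Set G))

set_option quotPrecheck false in
local notation "D₀" => (Subgroup.normalizer ((T : Subgroup G) : Set G) ⊓
  Subgroup.map (MulEquiv.toMonoidHom (MulAut.conj u)) (Subgroup.normalizer ((T : Subgroup G) : Set G)) : Subgroup G)
local notation "m₀" => Nat.card {t : G // orderOf t = 2 ∧ t ∈ H₀}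

omit h in
theorem ux (u : G) : u • (QuotientGroup.mk 1 : G ⧸ H₀) = QuotientGroup.mk u := by
  rw [MulAction.Quotient.smul_mk, smul_eq_mul, mul_one]

omit h in
include huH in
theorem xy : (QuotientGroup.mk 1 : G ⧸ H₀) ≠ QuotientGroup.mk u := fun e => huH (by
  simpa using QuotientGroup.eq.mp e)

include huH in
theorem odd_D : Odd (Nat.card ↥D₀) := h.se.2.2 u huH

include huH in
theorem inf_D {a : G} (ha : a ∈ (T : Subgroup G)) (haD : a ∈ D₀) : a = 1 := by
  by_contra h1
  have h2 := orderOf_dvd_natCard (⟨a, haD⟩ : ↥D₀)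
  rw [Subgroup.orderOf_mk, h.orderOf_eq_two ha h1] at h2
  exact Nat.not_even_iff_odd.mpr (h.odd_D huH) (even_iff_two_dvd.mpr h2)

include huH in
theorem eq_of_conj_eq {d d' s : G} (hd : d ∈ D₀) (hd' : d' ∈ D₀) (hs : orderOf s = 2)
    (hsT : s ∈ (T : Subgroup G)) (he : d * s * d⁻¹ = d' * s * d'⁻¹) : d = d' := by
  have h1 : d⁻¹ * d' ∈ centralizer ({s} : Set G) := by
    rw [mem_centralizer_singleton_iff]
    calc d⁻¹ * d' * s = d⁻¹ * (d' * s * d'⁻¹) * d' := by group
      _ = d⁻¹ * (d * s * d⁻¹) * d' := by rw [he]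
      _ = s * (d⁻¹ * d') := by group
  rw [h.centralizer_eq hs hsT] at h1
  exact inv_mul_eq_one.mp (h.inf_D huH h1 (mul_mem (inv_mem hd) hd'))

include hu huH in
theorem card_D : Nat.card ↥D₀ = m₀ := by
  obtain ⟨s, hsH, hs⟩ := se_exists_mem h.se
  refine Nat.card_eq_of_bijective (fun d : ↥D₀ => (⟨d.1 * s * d.1⁻¹, by rw [orderOf_conj', hs],
    mul_mem (mul_mem (inf_le_left (a := H₀) d.2) hsH) (inv_mem (inf_le_left (a := H₀) d.2))⟩ :
      {t : G // orderOf t = 2 ∧ t ∈ H₀})) ⟨fun d d' e => ?_, fun t => ?_⟩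
  · exact Subtype.ext (h.eq_of_conj_eq huH d.2 d'.2 hs (h.mem_sylow hs hsH) (congrArg Subtype.val e))
  · obtain ⟨d, hd, e⟩ := se_transitive h.se hu huH hs hsH t.2.1 t.2.2
    exact ⟨⟨d, hd⟩, Subtype.ext e⟩

include hu huH in
theorem inverts : ∀ d ∈ D₀, u * d * u⁻¹ = d⁻¹ := by
  have hux := ux (T := T) u
  let f : {i : G // orderOf i = 2 ∧ i • (QuotientGroup.mk 1 : G ⧸ H₀) = QuotientGroup.mk u} → ↥D₀ :=
    fun i => ⟨u * i.1, (mem_pair_iff u _).mpr
      ⟨by rw [mul_smul, i.2.2, inv_smul_swap hu hux],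
       by rw [mul_smul, inv_smul_swap i.2.1 i.2.2, hux]⟩⟩
  have hf : Function.Injective f := fun a b e =>
    Subtype.ext (mul_left_cancel (congrArg Subtype.val e :))
  have hb : Function.Bijective f := (Nat.bijective_iff_injective_and_card _).mpr ⟨hf, by
    rw [(se_count h.se (xy huH)).1, h.card_D hu huH]⟩
  intro d hd
  obtain ⟨i, hi⟩ := hb.2 ⟨d, hd⟩
  rw [← show u * i.1 = d from congrArg Subtype.val hi, mul_inv_rev,
    inv_eq_of_sq_one (sq_one_of_order_two hu), inv_eq_of_sq_one (sq_one_of_order_two i.2.1),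
    ← mul_assoc, sq_one_of_order_two hu, one_mul]

include hu huH in
theorem D_comm {a b : G} (ha : a ∈ D₀) (hb : b ∈ D₀) : a * b = b * a := by
  have h1 := h.inverts hu huH _ (mul_mem ha hb)
  rw [show u * (a * b) * u⁻¹ = (u * a * u⁻¹) * (u * b * u⁻¹) by group, h.inverts hu huH a ha,
    h.inverts hu huH b hb, mul_inv_rev] at h1
  have h2 := congrArg (·⁻¹) h1
  simp only [mul_inv_rev, inv_inv] at h2
  exact h2.symm

include hu huH in
theorem three_le : 3 ≤ Nat.card ↥D₀ := by
  rw [h.card_D hu huH]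
  have := h.card_involutions
  have := h.four_le
  omega

omit h [Finite G] in
/-- A subgroup of order at least two has a nontrivial element. -/
theorem exists_ne_one_of_card' (K : Subgroup G) (hK : 1 < Nat.card K) : ∃ d ∈ K, d ≠ 1 := by
  by_contra hcon
  push Not at hcon
  have : K = ⊥ := (Subgroup.eq_bot_iff_forall _).mpr hcon
  rw [this, Subgroup.card_bot] at hK
  omega

include hu huH in
/-- An element centralizing `D` has odd order and is inverted by `u`. -/
theorem cent_D_inverted {a : G} (ha : a ∈ centralizer (D₀ : Set G)) :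
    Odd (orderOf a) ∧ u * a * u⁻¹ = a⁻¹ := by
  have hnoinv : ∀ t : G, orderOf t = 2 → t ∈ centralizer (D₀ : Set G) → False := by
    intro t ht htC
    obtain ⟨d, hd, hd1⟩ := exists_ne_one_of_card' D₀ (by have := h.three_le hu huH; omega)
    have h1 := (h.cen t ht).2 d (mem_centralizer_singleton_iff.mpr (mem_centralizer_iff.mp htC d hd))
    have h2 := Nat.le_of_dvd two_pos (orderOf_dvd_of_pow_eq_one h1)
    have h3 : Odd (orderOf d) := (h.odd_D huH).of_dvd_nat (by
      rw [← Subgroup.orderOf_mk (a := d) (ha := hd)]; exact orderOf_dvd_natCard _)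
    obtain ⟨k, hk⟩ := h3
    exact hd1 (orderOf_eq_one_iff.mp (by omega))
  have hodd : Odd (Nat.card ↥(centralizer (D₀ : Set G))) := by
    by_contra he
    rw [Nat.not_odd_iff_even, even_iff_two_dvd] at he
    obtain ⟨⟨t, ht⟩, hto⟩ := exists_prime_orderOf_dvd_card' 2 he
    rw [Subgroup.orderOf_mk] at hto
    exact hnoinv t hto ht
  refine ⟨hodd.of_dvd_nat (by rw [← Subgroup.orderOf_mk (a := a) (ha := ha)]; exact orderOf_dvd_natCard _), ?_⟩
  have hnorm : ∀ c ∈ centralizer (D₀ : Set G), u * c * u⁻¹ ∈ centralizer (D₀ : Set G) := by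
    intro c hc
    rw [mem_centralizer_iff]
    intro d hd
    have h1 : d⁻¹ * c = c * d⁻¹ := mem_centralizer_iff.mp hc _ (inv_mem hd)
    have h2 := congrArg (fun t => u * t * u⁻¹) h1
    rw [show u * (d⁻¹ * c) * u⁻¹ = (u * d⁻¹ * u⁻¹) * (u * c * u⁻¹) by group,
      show u * (c * d⁻¹) * u⁻¹ = (u * c * u⁻¹) * (u * d⁻¹ * u⁻¹) by group,
      h.inverts hu huH _ (inv_mem hd), inv_inv] at h2
    exact h2
  -- `u` acts without fixed points
  let φ : ↥(centralizer (D₀ : Set G)) → ↥(centralizer (D₀ : Set G)) :=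
    fun c => ⟨c⁻¹.1 * (u * c.1 * u⁻¹), mul_mem (inv_mem c.2) (hnorm _ c.2)⟩
  have hfpf : ∀ c ∈ centralizer (D₀ : Set G), u * c * u⁻¹ = c → c = 1 := by
    intro c hc hcu
    have h1 := (h.cen u hu).2 c (mem_centralizer_singleton_iff.mpr (mul_inv_eq_iff_eq_mul.mp hcu).symm)
    have h2 := orderOf_dvd_of_pow_eq_one h1
    have h3 : Odd (orderOf c) := hodd.of_dvd_nat (by
      rw [← Subgroup.orderOf_mk (a := c) (ha := hc)]; exact orderOf_dvd_natCard _)
    obtain ⟨k, hk⟩ := h3
    have := Nat.le_of_dvd two_pos h2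
    exact orderOf_eq_one_iff.mp (by omega)
  have hinj : Function.Injective φ := by
    intro c c' e
    have e' : c.1⁻¹ * (u * c.1 * u⁻¹) = c'.1⁻¹ * (u * c'.1 * u⁻¹) := congrArg Subtype.val e
    have := hfpf (c'.1 * c.1⁻¹) (mul_mem c'.2 (inv_mem c.2)) (by
      calc u * (c'.1 * c.1⁻¹) * u⁻¹
          = c'.1 * (c'.1⁻¹ * (u * c'.1 * u⁻¹)) * (c.1⁻¹ * (u * c.1 * u⁻¹))⁻¹ * c.1⁻¹ := by group
        _ = c'.1 * c.1⁻¹ := by rw [← e']; group)
    exact Subtype.ext (mul_inv_eq_one.mp this).symm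
  obtain ⟨c, hc⟩ := Finite.surjective_of_injective hinj ⟨a, ha⟩
  have hac : a = c.1⁻¹ * (u * c.1 * u⁻¹) := (congrArg Subtype.val hc).symm
  have huu := sq_one_of_order_two hu
  rw [hac, mul_inv_rev, inv_inv, mul_inv_rev, inv_inv, mul_inv_rev, inv_eq_of_sq_one huu]
  calc u * (c.1⁻¹ * (u * c.1 * u)) * u = u * c.1⁻¹ * u * c.1 * (u * u) := by group
    _ = u * (c.1⁻¹ * u) * c.1 := by rw [huu, mul_one]; group

include hu huH in
/-- `D` is self-centralizing and fixes only two cosets. -/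
theorem key : centralizer (D₀ : Set G) ≤ D₀ ∧ ∀ z : G ⧸ H₀, (∀ d ∈ D₀, d • z = z) →
    z = QuotientGroup.mk 1 ∨ z = QuotientGroup.mk u := by
  classical
  let _ : Fintype (G ⧸ H₀) := Fintype.ofFinite _
  let _ : Fintype G := Fintype.ofFinite G
  set x : G ⧸ H₀ := QuotientGroup.mk 1 with hxdef
  set F : Finset (G ⧸ H₀) := Finset.univ.filter fun z => ∀ d ∈ D₀, d • z = z
  set A := centralizer (D₀ : Set G)
  have hxF : x ∈ F := by
    simp only [F, Finset.mem_filter, Finset.mem_univ, true_and]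
    exact fun d hd => ((mem_pair_iff u d).mp hd).1
  have hcard : ∀ z ∈ F, z ≠ x → ∀ g : G, g • x = x → g • z = z → g ∈ D₀ := by
    intro z hzF hzx g hgx hgz
    simp only [F, Finset.mem_filter, Finset.mem_univ, true_and] at hzF
    obtain ⟨t, htH, ht⟩ := se_exists_mem h.se
    obtain ⟨s, hs, hsz⟩ : ∃ s : G, orderOf s = 2 ∧ s • z = z := by
      obtain ⟨c, rfl⟩ := QuotientGroup.mk_surjective z
      refine ⟨c * t * c⁻¹, by rw [orderOf_conj', ht], ?_⟩
      have := conj_smul_fixed (g := c) (x := x) (H := H₀) (t := t) (by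
        rw [hxdef, MulAction.Quotient.smul_mk, QuotientGroup.eq, smul_eq_mul]
        simpa using htH)
      rwa [hxdef, MulAction.Quotient.smul_mk, smul_eq_mul, mul_one] at this
    obtain ⟨v, hv, hvx, -⟩ := se_exists_swap h.se ht hs hzx.symm (by
      rw [hxdef, MulAction.Quotient.smul_mk, QuotientGroup.eq, smul_eq_mul]
      simpa using htH) hsz
    have hvH : v ∉ H₀ := fun e => hzx (by
      rw [← hvx, hxdef, MulAction.Quotient.smul_mk, QuotientGroup.eq, smul_eq_mul]
      simpa using e)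
    have hz : z = QuotientGroup.mk v := hvx.symm.trans (ux v)
    have hle : D₀ ≤ H₀ ⊓ Subgroup.map (MulAut.conj v).toMonoidHom H₀ := fun d hd =>
      (mem_pair_iff v d).mpr ⟨((mem_pair_iff u d).mp hd).1, hz ▸ hzF d hd⟩
    have heq := Subgroup.eq_of_le_of_card_ge hle (by rw [h.card_D hu huH, h.card_D hv hvH])
    rw [heq]
    exact (mem_pair_iff v g).mpr ⟨hgx, hz ▸ hgz⟩
  -- involutions inverting `D` move every point of `F`
  have hno : ∀ a ∈ A, (a * u) • x ≠ x := by
    intro a ha hfix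
    obtain ⟨-, hinv⟩ := h.cent_D_inverted hu huH ha
    set i := a * u with hidef
    have huu := sq_one_of_order_two hu
    have hii : i * i = 1 := by
      rw [hidef, show a * u * (a * u) = a * (u * a * u⁻¹) * (u * u) by group, hinv, huu, mul_one,
        mul_inv_cancel]
    have hiD : ∀ d ∈ D₀, i * d * i⁻¹ = d⁻¹ := by
      intro d hd
      rw [hidef, show a * u * d * (a * u)⁻¹ = a * (u * d * u⁻¹) * a⁻¹ by group, h.inverts hu huH d hd,
        ← mem_centralizer_iff.mp ha _ (inv_mem hd), mul_inv_cancel_right]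
    obtain ⟨d, hd, hd1⟩ := exists_ne_one_of_card' D₀ (by have := h.three_le hu huH; omega)
    have hi1 : i ≠ 1 := fun e => hd1 (by
      have h1 := hiD d hd
      rw [e, one_mul, inv_one, mul_one] at h1
      have h2 : d ^ 2 = 1 := by rw [pow_two]; nth_rw 2 [h1]; exact mul_inv_cancel d
      have h3 := Nat.le_of_dvd two_pos (orderOf_dvd_of_pow_eq_one h2)
      have h4 : Odd (orderOf d) := (h.odd_D huH).of_dvd_nat (by
        rw [← Subgroup.orderOf_mk (a := d) (ha := hd)]; exact orderOf_dvd_natCard _)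
      obtain ⟨k, hk⟩ := h4
      exact orderOf_eq_one_iff.mp (by omega))
    have hio : orderOf i = 2 := orderOf_eq_prime (by rw [pow_two]; exact hii) hi1
    have hiH : i ∈ H₀ := by
      rw [hxdef, MulAction.Quotient.smul_mk, QuotientGroup.eq, smul_eq_mul] at hfix
      simpa using hfix
    have hiT := h.mem_sylow hio hiH
    have hd2 : d * d ∈ (T : Subgroup G) := by
      have h1 : d * i * d⁻¹ ∈ (T : Subgroup G) :=
        (mem_normalizer_iff.mp (inf_le_left (a := H₀) hd) i).mp hiT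
      have h2 : i * d⁻¹ = d * i := by
        have := hiD _ (inv_mem hd)
        rw [inv_inv, mul_inv_eq_iff_eq_mul] at this
        exact this
      rw [show d * i * d⁻¹ = d * (i * d⁻¹) by group, h2, ← mul_assoc] at h1
      have := mul_mem h1 (inv_mem hiT)
      rwa [mul_inv_cancel_right] at this
    have h3 := h.inf_D huH hd2 (mul_mem hd hd)
    have h4 : Odd (orderOf d) := (h.odd_D huH).of_dvd_nat (by
      rw [← Subgroup.orderOf_mk (a := d) (ha := hd)]; exact orderOf_dvd_natCard _)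
    obtain ⟨k, hk⟩ := h4
    have h5 := Nat.le_of_dvd two_pos (orderOf_dvd_of_pow_eq_one (show d ^ 2 = 1 by rw [pow_two]; exact h3))
    exact hd1 (orderOf_eq_one_iff.mp (by omega))
  have hDA : D₀ ≤ A := fun d hd => by
    rw [mem_centralizer_iff]; exact fun e he => h.D_comm hu huH he hd
  set AF : Finset G := Finset.univ.filter fun g => g ∈ A
  -- elements of `A` and `A u` send `x` into `F`
  have mapsF : ∀ a ∈ A, a • x ∈ F ∧ (a * u) • x ∈ F := by
    intro a ha
    simp only [F, Finset.mem_filter, Finset.mem_univ, true_and]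
    have hdx : ∀ d ∈ D₀, d • x = x := fun d hd => ((mem_pair_iff u d).mp hd).1
    refine ⟨fun d hd => ?_, fun d hd => ?_⟩
    · rw [← mul_smul, mem_centralizer_iff.mp ha d hd, mul_smul, hdx d hd]
    · rw [← mul_smul, ← mul_assoc, mem_centralizer_iff.mp ha d hd, mul_assoc, mul_smul, mul_smul,
        mul_smul]
      congr 1
      have hu' : d • (u • x) = u • x := by
        rw [hxdef, ux (T := T)]; exact ((mem_pair_iff u d).mp hd).2
      exact hu'
  set S₁ : Finset (G × Bool) := AF ×ˢ Finset.univ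
  let f : G × Bool → G ⧸ H₀ := fun p => if p.2 then (p.1 * u) • x else p.1 • x
  have hS₁ : ∀ p ∈ S₁, f p ∈ F := by
    rintro ⟨a, b⟩ hp
    simp only [S₁, AF, Finset.mem_product, Finset.mem_filter, Finset.mem_univ, true_and, and_true] at hp
    cases b
    · exact (mapsF a hp).1
    · exact (mapsF a hp).2
  have hAD : ∀ c ∈ A, c • x = x → c ∈ D₀ := by
    intro c hc hcx
    refine (mem_pair_iff u c).mpr ⟨hcx, ?_⟩
    obtain ⟨-, hinv⟩ := h.cent_D_inverted hu huH hc
    have h1 : c * u = u * c⁻¹ := by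
      rw [← hinv, inv_eq_of_sq_one (sq_one_of_order_two hu), ← mul_assoc, ← mul_assoc,
        sq_one_of_order_two hu, one_mul]
    rw [← ux (T := T), ← mul_smul, h1, mul_smul]
    congr 1
    exact inv_smul_eq_iff.mpr hcx.symm
  have hub : S₁.card ≤ Nat.card ↥D₀ * F.card := by
    refine le_trans ?_ (Nat.mul_le_mul_left _ (Finset.card_le_card (Finset.image_subset_iff.mpr hS₁)))
    refine Finset.card_le_mul_card_image S₁ _ fun z hz => ?_
    obtain ⟨⟨a₀, b₀⟩, hp₀, hf₀⟩ := Finset.mem_image.mp hz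
    have ha₀ : a₀ ∈ A := by
      simp only [S₁, AF, Finset.mem_product, Finset.mem_filter, Finset.mem_univ, true_and, and_true] at hp₀
      exact hp₀
    rw [Nat.card_eq_fintype_card, ← Finset.card_univ]
    refine le_trans (Finset.card_le_card_of_injOn (fun p : G × Bool => a₀⁻¹ * p.1)
      (t := Finset.univ.filter fun g => g ∈ D₀) ?_ ?_) ?_
    · rintro ⟨a, b⟩ hp
      simp only [Finset.mem_coe, Finset.mem_filter, S₁, AF, Finset.mem_product, Finset.mem_univ, true_and,
        and_true] at hp ⊢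
      obtain ⟨ha, hfb⟩ := hp
      have hc : a₀⁻¹ * a ∈ A := mul_mem (inv_mem ha₀) ha
      refine hAD _ hc ?_
      have hfe : f (a, b) = f (a₀, b₀) := hfb.trans hf₀.symm
      simp only [f] at hfe
      cases b <;> cases b₀ <;> simp only [if_true, Bool.false_eq_true, if_false] at hfe
      · rw [mul_smul, hfe, inv_smul_smul]
      · exfalso
        refine hno _ (mul_mem (inv_mem ha) ha₀) ?_
        rw [mul_assoc, mul_smul, ← hfe, inv_smul_smul]
      · exfalso
        refine hno _ hc ?_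
        rw [mul_assoc, mul_smul, hfe, inv_smul_smul]
      · rw [mul_smul, mul_smul] at hfe
        have h2 : (a₀⁻¹ * a) • (u • x) = u • x := by rw [mul_smul, hfe, inv_smul_smul]
        obtain ⟨-, hinv⟩ := h.cent_D_inverted hu huH hc
        have h3 : (u * (a₀⁻¹ * a) * u⁻¹) • x = x := by
          rw [inv_eq_of_sq_one (sq_one_of_order_two hu), mul_smul, mul_smul u, h2,
            ← mul_smul, sq_one_of_order_two hu, one_smul]
        rw [hinv, inv_smul_eq_iff] at h3
        exact h3.symm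
    · rintro ⟨a, b⟩ hp ⟨a', b'⟩ hp' e
      simp only [Finset.mem_coe, Finset.mem_filter, S₁, AF, Finset.mem_product, Finset.mem_univ, true_and,
        and_true] at hp hp'
      obtain rfl : a = a' := mul_left_cancel e
      have hfe : f (a, b) = f (a, b') := hp.2.trans hp'.2.symm
      simp only [f] at hfe
      cases b <;> cases b' <;> simp only [if_true, Bool.false_eq_true, if_false] at hfe
      · rfl
      · exact absurd (by rw [mul_smul] at hfe; rw [one_mul]; exact (MulAction.injective a hfe).symm) (hno 1 (one_mem _))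
      · exact absurd (by rw [mul_smul] at hfe; rw [one_mul]; exact MulAction.injective a hfe) (hno 1 (one_mem _))
      · rfl
    · rw [Finset.card_univ, ← Fintype.card_subtype]
  have hlb : (F.erase x).card * Nat.card ↥D₀ ≤ AF.card := by
    let R : G ⧸ H₀ → Finset G := fun z => Finset.univ.filter fun i => orderOf i = 2 ∧ i • x = z
    have hR : ∀ z ∈ F.erase x, (R z).card = Nat.card ↥D₀ := by
      intro z hz
      rw [h.card_D hu huH, ← (se_count h.se (Finset.ne_of_mem_erase hz).symm).1,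
        Nat.card_eq_fintype_card, Fintype.card_subtype]
    rw [← smul_eq_mul, ← Finset.sum_const, ← Finset.sum_congr rfl hR, ← Finset.card_sigma]
    refine Finset.card_le_card_of_injOn (fun p => p.2 * u) ?_ ?_
    · rintro ⟨z, i⟩ hp
      simp only [Finset.mem_coe, Finset.mem_sigma, R, AF, Finset.mem_filter, Finset.mem_univ, true_and] at hp ⊢
      obtain ⟨hz, hi, hiz⟩ := hp
      obtain ⟨hzx, hzF⟩ := Finset.mem_erase.mp hz
      have hiH : i ∉ H₀ := fun e => hzx (by
        rw [← hiz, hxdef, MulAction.Quotient.smul_mk, QuotientGroup.eq, smul_eq_mul]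
        simpa using e)
      simp only [F, Finset.mem_filter, Finset.mem_univ, true_and] at hzF
      have hle : D₀ ≤ H₀ ⊓ Subgroup.map (MulAut.conj i).toMonoidHom H₀ := fun d hd =>
        (mem_pair_iff i d).mpr ⟨((mem_pair_iff u d).mp hd).1, by rw [← ux (T := T), hiz]; exact hzF d hd⟩
      rw [mem_centralizer_iff]
      intro d hd
      have h1 := h.inverts hi hiH d (hle hd)
      have h2 := h.inverts hu huH d hd
      rw [inv_eq_of_sq_one (sq_one_of_order_two hi)] at h1
      rw [inv_eq_of_sq_one (sq_one_of_order_two hu)] at h2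
      have hii := sq_one_of_order_two hi
      have huu := sq_one_of_order_two hu
      calc d * (i * u) = i * (i * d * i) * u := by simp [← mul_assoc, hii]
        _ = i * (u * d * u) * u := by rw [h1, h2]
        _ = i * u * d := by simp [mul_assoc, huu]
    · rintro ⟨z, i⟩ hp ⟨z', i'⟩ hp' e
      simp only [Finset.mem_coe, Finset.mem_sigma, R, Finset.mem_filter, Finset.mem_univ, true_and] at hp hp'
      obtain rfl : i = i' := mul_right_cancel e
      obtain rfl : z = z' := hp.2.2.symm.trans hp'.2.2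
      rfl
  have hS₁c : S₁.card = AF.card * 2 := by
    rw [Finset.card_product, Finset.card_univ, Fintype.card_bool]
  have hD0 : 0 < Nat.card ↥D₀ := Nat.card_pos
  have hFx : (F.erase x).card + 1 = F.card := Finset.card_erase_add_one hxF
  have hF2 : (F.erase x).card ≤ 1 := by
    by_contra hlt
    have : 2 ≤ (F.erase x).card := by omega
    nlinarith
  have hAle : AF.card ≤ Nat.card ↥D₀ := by nlinarith
  refine ⟨?_, ?_⟩
  · have : D₀ = A := Subgroup.eq_of_le_of_card_ge hDA (by
      rw [Nat.card_eq_fintype_card, Fintype.card_subtype]; exact hAle)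
    exact this.ge
  · intro z hz
    by_cases hzx : z = x
    · exact Or.inl hzx
    · refine Or.inr (Finset.card_le_one.mp hF2 z ?_ _ ?_)
      · simp only [Finset.mem_erase, F, Finset.mem_filter, Finset.mem_univ, true_and]
        exact ⟨hzx, hz⟩
      · simp only [Finset.mem_erase, F, Finset.mem_filter, Finset.mem_univ, true_and]
        exact ⟨(xy huH).symm, fun d hd => ((mem_pair_iff u d).mp hd).2⟩

include hu huH in
/-- `H = T D`. -/
theorem card_H : Nat.card ↥H₀ = Nat.card (T : Subgroup G) * Nat.card ↥D₀ := by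
  rw [← Nat.card_prod]
  refine (Nat.card_eq_of_bijective
    (fun p : ↥(T : Subgroup G) × ↥D₀ => (⟨p.1.1 * p.2.1, mul_mem (le_normalizer p.1.2)
      (Subgroup.mem_inf.mp p.2.2).1⟩ : ↥H₀)) ⟨?_, ?_⟩).symm
  · rintro ⟨a, d⟩ ⟨a', d'⟩ e
    have e' : a.1 * d.1 = a'.1 * d'.1 := congrArg Subtype.val e
    have h1 := h.inf_D huH (mul_mem (inv_mem a'.2) a.2)
      (by rw [show a'.1⁻¹ * a.1 = d'.1 * d.1⁻¹ by
        rw [eq_mul_inv_iff_mul_eq, mul_assoc, e', inv_mul_cancel_left]]
          exact mul_mem d'.2 (inv_mem d.2))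
    obtain rfl : a = a' := Subtype.ext (inv_mul_eq_one.mp h1).symm
    obtain rfl : d = d' := Subtype.ext (mul_left_cancel e')
    rfl
  · rintro ⟨g, hg⟩
    obtain ⟨s, hsH, hs⟩ := se_exists_mem h.se
    obtain ⟨d, hd, e⟩ := se_transitive h.se hu huH hs hsH (t := g * s * g⁻¹) (by rw [orderOf_conj', hs])
      (mul_mem (mul_mem hg hsH) (inv_mem hg))
    have h1 : d⁻¹ * g ∈ (T : Subgroup G) := by
      rw [← h.centralizer_eq hs (h.mem_sylow hs hsH), mem_centralizer_singleton_iff]
      calc d⁻¹ * g * s = d⁻¹ * (g * s * g⁻¹) * g := by group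
        _ = d⁻¹ * (d * s * d⁻¹) * g := by rw [e]
        _ = s * (d⁻¹ * g) := by group
    refine ⟨(⟨d * (d⁻¹ * g) * d⁻¹, (mem_normalizer_iff.mp (Subgroup.mem_inf.mp hd).1 _).mp h1⟩,
      ⟨d, hd⟩), Subtype.ext ?_⟩
    show d * (d⁻¹ * g) * d⁻¹ * d = g
    group

include hu huH in
theorem card_D' : Nat.card ↥D₀ = Nat.card (T : Subgroup G) - 1 := by
  rw [h.card_D hu huH]
  have := h.card_involutions
  omega

include hu huH in
theorem isComplement : IsComplement' (Subgroup.subgroupOf D₀ H₀) ((T : Subgroup G).subgroupOf H₀) := by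
  refine isComplement'_of_card_mul_and_disjoint ?_ ?_
  · rw [Nat.card_congr (subgroupOfEquivOfLe (inf_le_left (a := H₀))).toEquiv,
      Nat.card_congr (subgroupOfEquivOfLe (le_normalizer (H := (T : Subgroup G)))).toEquiv,
      h.card_H hu huH, mul_comm]
  · rw [disjoint_iff, eq_bot_iff]
    intro a ha
    obtain ⟨h1, h2⟩ := Subgroup.mem_inf.mp ha
    exact Subgroup.mem_bot.mpr (Subtype.ext (h.inf_D huH h2 h1))

include hu huH in
theorem fixed_iff (z : G ⧸ H₀) : (∀ d ∈ D₀, d • z = z) ↔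
    z = QuotientGroup.mk 1 ∨ z = QuotientGroup.mk u := by
  refine ⟨(h.key hu huH).2 z, ?_⟩
  rintro (rfl | rfl) d hd
  exacts [((mem_pair_iff u d).mp hd).1, ((mem_pair_iff u d).mp hd).2]

omit h [Finite G] in
theorem mem_norm_of_inverts {v : G} {K : Subgroup G} (hv : v⁻¹ = v) (hi : ∀ d ∈ K, v * d * v⁻¹ = d⁻¹) :
    v ∈ Subgroup.normalizer (K : Set G) := by
  refine mem_normalizer_iff.mpr fun d => ⟨fun hd => ?_, fun hd => ?_⟩
  · rw [hi d hd]; exact inv_mem hd
  · have h1 := hi _ hd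
    have h2 : v * (v * d * v⁻¹) * v⁻¹ = d := by
      have hvv : v * v = 1 := by nth_rw 1 [← hv]; exact inv_mul_cancel v
      rw [hv, show v * (v * d * v) * v = (v * v) * d * (v * v) by group, hvv, one_mul, mul_one]
    rw [h2] at h1
    rw [h1]
    exact inv_mem hd

include hu huH in
theorem normalizer_D : Subgroup.normalizer (D₀ : Set G) = D₀ ⊔ zpowers u := by
  refine le_antisymm (fun g hg => ?_) (sup_le le_normalizer (zpowers_le.mpr ?_))
  · set x : G ⧸ H₀ := QuotientGroup.mk 1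
    have hux : u • x = QuotientGroup.mk u := ux u
    have move : ∀ g ∈ Subgroup.normalizer (D₀ : Set G), ∀ z, (z = x ∨ z = QuotientGroup.mk u) →
        g • z = x ∨ g • z = QuotientGroup.mk u := by
      intro g hg z hz
      refine (h.fixed_iff hu huH _).mp fun d hd => ?_
      have h1 := (h.fixed_iff hu huH z).mpr hz _ ((mem_normalizer_iff''.mp hg d).mp hd)
      rw [mul_smul, mul_smul, inv_smul_eq_iff] at h1
      exact h1
    have stab : ∀ g ∈ Subgroup.normalizer (D₀ : Set G), g • x = x → g ∈ D₀ := by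
      intro g hg hgx
      refine (mem_pair_iff u g).mpr ⟨hgx, ?_⟩
      rcases move g hg _ (Or.inr rfl) with e | e
      · exact absurd (MulAction.injective g (e.trans hgx.symm)) (xy huH).symm
      · exact e
    have hu' : u ∈ Subgroup.normalizer (D₀ : Set G) := mem_norm_of_inverts
      (inv_eq_of_sq_one (sq_one_of_order_two hu)) (h.inverts hu huH)
    rcases move g hg x (Or.inl rfl) with e | e
    · exact mem_sup_left (stab g hg e)
    · have h1 := stab (u * g) (mul_mem hu' hg) (by rw [mul_smul, e, inv_smul_swap hu hux])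
      rw [show g = u⁻¹ * (u * g) by group]
      exact mul_mem (mem_sup_right (inv_mem (mem_zpowers u))) (mem_sup_left h1)
  · exact mem_norm_of_inverts (inv_eq_of_sq_one (sq_one_of_order_two hu)) (h.inverts hu huH)

include hu huH in
/-- `T` is transitive on the other cosets. -/
theorem exists_T_smul {z : G ⧸ H₀} (hz : z ≠ QuotientGroup.mk 1) :
    ∃ t ∈ (T : Subgroup G), t • (QuotientGroup.mk u : G ⧸ H₀) = z := by
  obtain ⟨c, rfl⟩ := QuotientGroup.mk_surjective z
  set x : G ⧸ H₀ := QuotientGroup.mk 1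
  obtain ⟨t, htH, ht⟩ := se_exists_mem h.se
  have htx : t • x = x := by
    rw [MulAction.Quotient.smul_mk, QuotientGroup.eq, smul_eq_mul]
    simpa using htH
  obtain ⟨v, hv, hvx, -⟩ := se_exists_swap h.se ht (u := c * t * c⁻¹) (by rw [orderOf_conj', ht])
    hz.symm htx (by
      have := conj_smul_fixed (g := c) htx
      rwa [ux c] at this)
  have hvH : v ∉ H₀ := fun e => hz (by
    rw [← hvx, MulAction.Quotient.smul_mk, QuotientGroup.eq, smul_eq_mul]
    simpa using e)
  have hTle : (T : Subgroup G) ≤ H₀ := le_normalizer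
  set N := (T : Subgroup G).subgroupOf H₀
  haveI : IsMulCommutative N := ⟨⟨fun a b => Subtype.ext (Subtype.ext (h.comm a.2 b.2))⟩⟩
  have hN : Nat.card N = Nat.card (T : Subgroup G) := Nat.card_congr (subgroupOfEquivOfLe hTle).toEquiv
  have hi : N.index = Nat.card (T : Subgroup G) - 1 := by
    have h1 := N.index_mul_card
    rw [hN, h.card_H hu huH, h.card_D' hu huH, mul_comm] at h1
    exact Nat.eq_of_mul_eq_mul_left Nat.card_pos h1
  have hcop : (Nat.card N).Coprime N.index := by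
    rw [hN, hi]
    exact Nat.coprime_self_sub_right Nat.card_pos |>.mpr (Nat.coprime_one_right _)
  obtain ⟨a, ha, hae⟩ := Cfsg.Agent.Core.exists_conj_eq_of_abelian hcop
    (H := Subgroup.subgroupOf D₀ H₀) (K := (H₀ ⊓ Subgroup.map (MulAut.conj v).toMonoidHom H₀).subgroupOf H₀)
    (by rw [Nat.card_congr (subgroupOfEquivOfLe (inf_le_left (a := H₀))).toEquiv, hi, h.card_D' hu huH])
    (by rw [Nat.card_congr (subgroupOfEquivOfLe (inf_le_left (a := H₀))).toEquiv, hi, h.card_D' hv hvH])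
  refine ⟨a.1, ha, ?_⟩
  have hfix : ∀ d ∈ D₀, d • (a.1⁻¹ • (QuotientGroup.mk c : G ⧸ H₀)) = a.1⁻¹ • QuotientGroup.mk c := by
    intro d hd
    have h1 : MulAut.conj a (⟨d, (Subgroup.mem_inf.mp hd).1⟩ : ↥H₀) ∈
        (H₀ ⊓ Subgroup.map (MulAut.conj v).toMonoidHom H₀).subgroupOf H₀ :=
      hae ▸ ⟨_, show (⟨d, (Subgroup.mem_inf.mp hd).1⟩ : ↥H₀) ∈ Subgroup.subgroupOf D₀ H₀ from hd, rfl⟩
    have h2 : (a.1 * d * a.1⁻¹) • (QuotientGroup.mk v : G ⧸ H₀) = QuotientGroup.mk v :=
      ((mem_pair_iff v _).mp h1).2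
    rw [← ux v, hvx, mul_smul, mul_smul] at h2
    rw [eq_inv_smul_iff]
    exact h2
  rcases (h.key hu huH).2 _ hfix with e | e
  · rw [inv_smul_eq_iff] at e
    refine absurd (e.trans ?_) hz
    rw [MulAction.Quotient.smul_mk, QuotientGroup.eq, smul_eq_mul]
    simpa using a.2
  · exact (inv_smul_eq_iff.mp e).symm

include huH in
theorem T_smul_inj {a b : G} (ha : a ∈ (T : Subgroup G)) (hb : b ∈ (T : Subgroup G))
    (e : a • (QuotientGroup.mk u : G ⧸ H₀) = b • QuotientGroup.mk u) : a = b := by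
  by_contra hne
  have hab := h.orderOf_eq_two (mul_mem (inv_mem hb) ha)
    (fun e' => hne (inv_mul_eq_one.mp e').symm)
  refine (xy huH) (se_fixed_unique h.se hab ?_ (by rw [mul_smul, e, inv_smul_smul]))
  rw [MulAction.Quotient.smul_mk, QuotientGroup.eq, smul_eq_mul]
  simpa using inv_mem (le_normalizer (H := (T : Subgroup G)) (mul_mem (inv_mem hb) ha))

include hu huH in
theorem D_free {d t : G} (hd : d ∈ D₀) (ht : t ∈ (T : Subgroup G)) (ht1 : t ≠ 1)
    (e : d • (t • (QuotientGroup.mk u : G ⧸ H₀)) = t • QuotientGroup.mk u) : d = 1 := by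
  have hdt : d * t * d⁻¹ ∈ (T : Subgroup G) :=
    (mem_normalizer_iff.mp (Subgroup.mem_inf.mp hd).1 t).mp ht
  have hdy : d⁻¹ • (QuotientGroup.mk u : G ⧸ H₀) = QuotientGroup.mk u :=
    ((mem_pair_iff u _).mp (inv_mem hd)).2
  have h1 := h.T_smul_inj huH hdt ht (by rw [mul_smul, mul_smul, hdy, e])
  exact h.eq_of_conj_eq huH hd (one_mem _) (h.orderOf_eq_two ht ht1) ht (by simpa using h1)

include hu huH in
theorem D_smul_trans {t t' : G} (ht : t ∈ (T : Subgroup G)) (ht1 : t ≠ 1)
    (ht' : t' ∈ (T : Subgroup G)) (ht'1 : t' ≠ 1) :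
    ∃ d ∈ D₀, d • (t • (QuotientGroup.mk u : G ⧸ H₀)) = t' • QuotientGroup.mk u := by
  obtain ⟨d, hd, e⟩ := se_transitive h.se hu huH (h.orderOf_eq_two ht ht1) (le_normalizer ht)
    (h.orderOf_eq_two ht' ht'1) (le_normalizer ht')
  refine ⟨d, hd, ?_⟩
  conv_rhs => rw [← e, mul_smul, mul_smul, ((mem_pair_iff u _).mp (inv_mem hd)).2]

include hu huH in
/-- The image of a frame, uniquely. -/
theorem exists_frame {s : G} (hs : s ∈ (T : Subgroup G)) (hs1 : s ≠ 1)
    {x₁ x₂ x₃ : G ⧸ H₀} (h12 : x₁ ≠ x₂) (h13 : x₁ ≠ x₃) (h23 : x₂ ≠ x₃) :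
    ∃ g : G, g • (QuotientGroup.mk 1 : G ⧸ H₀) = x₁ ∧ g • (QuotientGroup.mk u : G ⧸ H₀) = x₂ ∧
      g • (s • (QuotientGroup.mk u : G ⧸ H₀)) = x₃ := by
  set x : G ⧸ H₀ := QuotientGroup.mk 1
  set y : G ⧸ H₀ := QuotientGroup.mk u
  have hTx : ∀ a ∈ (T : Subgroup G), a • x = x := fun a ha => by
    rw [MulAction.Quotient.smul_mk, QuotientGroup.eq, smul_eq_mul]
    simpa using le_normalizer ha
  obtain ⟨g, hg⟩ := MulAction.exists_smul_eq G x x₁
  obtain ⟨a, ha, hay⟩ := h.exists_T_smul hu huH (z := g⁻¹ • x₂)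
    (fun e => h12 (by rw [← hg]; exact (inv_smul_eq_iff.mp e).symm))
  obtain ⟨b, hb, hby⟩ := h.exists_T_smul hu huH (z := (g * a)⁻¹ • x₃) (fun e => h13 (by
    rw [← hg]
    exact ((inv_smul_eq_iff.mp e).trans (by rw [mul_smul, hTx a ha])).symm))
  obtain ⟨d, hd, hde⟩ := h.D_smul_trans hu huH hs hs1 hb (fun e => h23 (by
    rw [e, one_smul, eq_inv_smul_iff, mul_smul, hay, smul_inv_smul] at hby
    exact hby))
  refine ⟨g * a * d, ?_, ?_, ?_⟩
  · rw [mul_smul, ((mem_pair_iff u d).mp hd).1, mul_smul, hTx a ha, hg]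
  · rw [mul_smul, ((mem_pair_iff u d).mp hd).2, mul_smul, hay, smul_inv_smul]
  · rw [mul_smul, hde, hby, smul_inv_smul]

include hu huH in
theorem fix_three {g : G} {x₁ x₂ x₃ : G ⧸ H₀} (h12 : x₁ ≠ x₂) (h13 : x₁ ≠ x₃) (h23 : x₂ ≠ x₃)
    (e₁ : g • x₁ = x₁) (e₂ : g • x₂ = x₂) (e₃ : g • x₃ = x₃) : g = 1 := by
  obtain ⟨s, hsH, hs⟩ := se_exists_mem h.se
  have hs1 : s ≠ 1 := fun e => by rw [e, orderOf_one] at hs; omega
  obtain ⟨k, k1, k2, k3⟩ := h.exists_frame hu huH (h.mem_sylow hs hsH) hs1 h12 h13 h23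
  have hc : ∀ {z z' : G ⧸ H₀}, k • z = z' → g • z' = z' → (k⁻¹ * g * k) • z = z := by
    intro z z' hk hg
    rw [mul_smul, mul_smul, hk, hg, ← hk, inv_smul_smul]
  have h1 := h.D_free hu huH ((mem_pair_iff u _).mpr ⟨hc k1 e₁, hc k2 e₂⟩) (h.mem_sylow hs hsH) hs1
    (hc k3 e₃)
  calc g = k * (k⁻¹ * g * k) * k⁻¹ := by group
    _ = 1 := by rw [h1]; group

include hu huH in
theorem card_G : Nat.card G = (Nat.card (T : Subgroup G) + 1) *
    (Nat.card (T : Subgroup G) * (Nat.card (T : Subgroup G) - 1)) := by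
  classical
  let f : Option (T : Subgroup G) → G ⧸ H₀ :=
    fun o => o.elim (QuotientGroup.mk 1) fun a => a.1 • QuotientGroup.mk u
  have hne : ∀ a : (T : Subgroup G), (QuotientGroup.mk 1 : G ⧸ H₀) ≠ a.1 • QuotientGroup.mk u := by
    intro a e
    refine xy huH (((MulAction.injective a.1) ((?_ : a.1 • _ = _).trans e)))
    rw [MulAction.Quotient.smul_mk, QuotientGroup.eq, smul_eq_mul]
    simpa using le_normalizer a.2
  have hf : Function.Bijective f := by
    refine ⟨?_, fun z => ?_⟩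
    · rintro (_ | a) (_ | b) e
      · rfl
      · exact absurd e (hne b)
      · exact absurd e.symm (hne a)
      · exact congrArg some (Subtype.ext (h.T_smul_inj huH a.2 b.2 e))
    · by_cases hz : z = QuotientGroup.mk 1
      · exact ⟨none, hz.symm⟩
      · obtain ⟨t, ht, e⟩ := h.exists_T_smul hu huH hz
        exact ⟨some ⟨t, ht⟩, e⟩
  rw [← Subgroup.index_mul_card H₀, Subgroup.index_eq_card, ← Nat.card_eq_of_bijective f hf,
    Finite.card_option, h.card_H hu huH, h.card_D' hu huH]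

end CHyp

end Cfsg.Agent.TwoGroups
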