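import Cfsg.Agent.OddLocal.RankTwo.Metacyclic
import Cfsg.Agent.FGS3.PGroupFrattini
import Cfsg.Agent.TwoGroups.ExtSub

/-!
Metacyclic 2-groups with an automorphism of odd order.
-/

set_option autoImplicit false

namespace Cfsg.Agent.TwoGroups.MetacyclicAut

open Cfsg Cfsg.Agent
open scoped commutatorElement

universe u

/-- An automorphism of odd prime order fixing every coset of the Frattini subgroup is trivial. -/
theorem eq_one_of_frattini {X : Type u} [Group X] [Finite X] (hX : IsPGroup 2 X) {q : ℕ}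
    (hq : q.Prime) (hq2 : q ≠ 2) {α : MulAut X} (hα : α ^ q = 1)
    (h : ∀ x, x⁻¹ * α x ∈ frattini X) : α = 1 := by
  haveI := Fact.mk Nat.prime_two
  have key : ∀ x : X, ∃ y : X, x⁻¹ * y ∈ frattini X ∧ α y = y := by
    intro x
    let A : Type u := {y : X // x⁻¹ * y ∈ frattini X}
    have hmem : ∀ y : A, x⁻¹ * α y.1 ∈ frattini X := fun y => by
      have h1 := mul_mem y.2 (h y.1)
      rwa [mul_assoc, mul_inv_cancel_left] at h1
    have hcardA : Nat.card A = Nat.card (frattini X) :=
      Nat.card_congr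
        { toFun := fun y => ⟨x⁻¹ * y.1, y.2⟩
          invFun := fun z => ⟨x * z.1, by rw [inv_mul_cancel_left]; exact z.2⟩
          left_inv := fun y => Subtype.ext (mul_inv_cancel_left _ _)
          right_inv := fun z => Subtype.ext (inv_mul_cancel_left _ _) }
    haveI : Finite A := Subtype.finite
    let f : A → A := fun y => ⟨α y.1, hmem y⟩
    have hiter : ∀ (n : ℕ) (y : A), ((f^[n] y : A) : X) = (α ^ n) y.1 := by
      intro n
      induction n with
      | zero => intro y; rfl
      | succ n ih =>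
        intro y
        rw [Function.iterate_succ_apply', pow_succ', MulAut.mul_apply]
        exact congrArg α (ih y)
    have hper : f^[q] = id := funext fun y => Subtype.ext (by rw [hiter, hα]; rfl)
    let σ : Equiv.Perm A :=
      { toFun := f
        invFun := f^[q - 1]
        left_inv := fun y => by
          rw [← Function.iterate_succ_apply f (q - 1) y, Nat.succ_eq_add_one, Nat.sub_add_cancel hq.one_le, hper]; rfl
        right_inv := fun y => by
          rw [← Function.iterate_succ_apply' f (q - 1) y, Nat.succ_eq_add_one, Nat.sub_add_cancel hq.one_le, hper]; rfl }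
    haveI := Fact.mk hq
    have hσ : σ ^ q = 1 := Equiv.ext fun y => by
      rw [Equiv.Perm.coe_pow]; exact congrFun hper y
    have hp : IsPGroup q (Subgroup.zpowers σ) := by
      obtain ⟨i, -, hi⟩ := (Nat.dvd_prime_pow hq).mp (show orderOf σ ∣ q ^ 1 from
        (pow_one q).symm ▸ orderOf_dvd_of_pow_eq_one hσ)
      exact IsPGroup.of_card (n := i) (by rw [Nat.card_zpowers, hi])
    have hne : (MulAction.fixedPoints (Subgroup.zpowers σ) A).Nonempty :=
      hp.nonempty_fixed_point_of_prime_not_dvd_card A (by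
        rw [hcardA]
        obtain ⟨k, hk⟩ := IsPGroup.iff_card.mp (hX.to_subgroup (frattini X))
        rw [hk]
        exact fun hd => hq2 ((Nat.prime_dvd_prime_iff_eq hq Nat.prime_two).mp (hq.dvd_of_dvd_pow hd)))
    obtain ⟨y, hy⟩ := hne
    exact ⟨y.1, y.2, congrArg Subtype.val (hy ⟨σ, Subgroup.mem_zpowers σ⟩)⟩
  have htop : α.toMonoidHom.eqLocus (MonoidHom.id X) ⊔ frattini X = ⊤ := by
    refine eq_top_iff.mpr fun x _ => ?_
    obtain ⟨y, hy1, hy2⟩ := key x
    have h1 := Subgroup.mul_mem _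
      (Subgroup.mem_sup_left (T := frattini X) (show y ∈ α.toMonoidHom.eqLocus (MonoidHom.id X) from hy2))
      (Subgroup.mem_sup_right (inv_mem hy1))
    rwa [mul_inv_rev, inv_inv, mul_inv_cancel_left] at h1
  have h2 := frattini_nongenerating htop
  exact MulEquiv.ext fun x => (h2 ▸ Subgroup.mem_top x : x ∈ α.toMonoidHom.eqLocus (MonoidHom.id X))

/-- Data extracted from a nontrivial automorphism of odd prime order of a metacyclic 2-group. -/
theorem exists_generators {X : Type u} [Group X] [Finite X] (hX : IsPGroup 2 X) (hm : IsMetacyclic X)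
    {q : ℕ} (hq : q.Prime) (hq2 : q ≠ 2) {α : MulAut X} (hα : α ^ q = 1) (h1 : α ≠ 1) :
    ∃ x : X, x⁻¹ * α x ∉ frattini X ∧ Subgroup.closure {x, α x} = ⊤ ∧
      ∃ f ∈ frattini X, α (α x) = x * α x * f := by
  haveI := Fact.mk Nat.prime_two
  obtain ⟨x, hx⟩ : ∃ x, x⁻¹ * α x ∉ frattini X := by
    by_contra hc
    push Not at hc
    exact h1 (eq_one_of_frattini hX hq hq2 hα hc)
  set V := X ⧸ frattini X
  have hV2 : ∀ v : V, v ^ 2 = 1 := FGS3.quotient_frattini_pow hX
  have hV4 : Nat.card V ≤ 4 := by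
    have h2 := OddLocal.RankTwo.card_le_of_metacyclic (p := 2)
      (OddLocal.RankTwo.metacyclic_quotient hm (frattini X)) ⊤ fun v _ => hV2 v
    rwa [Subgroup.card_top] at h2
  haveI : (frattini X).Characteristic := inferInstance
  have hmap : (frattini X).map α.toMonoidHom = frattini X :=
    Subgroup.characteristic_iff_map_eq.mp inferInstance α
  let β : MulAut V := QuotientGroup.congr _ _ α hmap
  have hβ : ∀ y : X, β (y : V) = (α y : V) := fun y => rfl
  set u : V := (x : V) with hu
  set v : V := β u with hv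
  have huv : u ≠ v := fun e => hx (QuotientGroup.eq.mp (e.trans (hβ x)))
  have hu1 : u ≠ 1 := fun e => huv (by rw [hv, e, map_one])
  have hv1 : v ≠ 1 := fun e => hu1 (β.injective (e.trans (map_one β).symm))
  have hinv : ∀ w : V, w⁻¹ = w := fun w => inv_eq_of_mul_eq_one_right (by rw [← pow_two]; exact hV2 w)
  have huv1 : u * v ≠ 1 := fun e => huv (by rw [← hinv u]; exact inv_eq_of_mul_eq_one_right e)
  have huvu : u * v ≠ u := fun e => hv1 (mul_eq_left.mp e)
  have huvv : u * v ≠ v := fun e => hu1 (mul_eq_right.mp e)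
  have hall : ∀ w : V, w = 1 ∨ w = u ∨ w = v ∨ w = u * v := by
    classical
    intro w
    by_contra hc
    push Not at hc
    haveI : Fintype V := Fintype.ofFinite V
    have h5 : ({1, u, v, u * v, w} : Finset V).card = 5 := by
      simp [hu1, hv1, huv, huv1, huvu, huvv, Ne.symm hu1, Ne.symm hv1, Ne.symm huv1, Ne.symm huvu,
        Ne.symm huvv, hc.1.symm, hc.2.1.symm, hc.2.2.1.symm, hc.2.2.2.symm]
    have h6 := Finset.card_le_univ ({1, u, v, u * v, w} : Finset V)
    rw [h5, ← Nat.card_eq_fintype_card] at h6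
    omega
  have hβq : β ^ q = 1 := MulEquiv.ext fun w => by
    induction w using QuotientGroup.induction_on with
    | _ y =>
      have : ∀ n : ℕ, (β ^ n) (y : V) = (((α ^ n) y : X) : V) := fun n => by
        induction n with
        | zero => rfl
        | succ n ih => rw [pow_succ', MulAut.mul_apply, ih, hβ, pow_succ', MulAut.mul_apply]
      rw [this, hα]; rfl
  have hβv : β v = u * v := by
    rcases hall (β v) with e | e | e | e
    · exact absurd (β.injective (e.trans (map_one β).symm)) hv1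
    · exfalso
      have h2 : (β ^ 2) u = u := by rw [pow_two, MulAut.mul_apply]; exact e
      obtain ⟨k, hk⟩ := hq.odd_of_ne_two hq2
      have h3 : ∀ k : ℕ, ((β ^ 2) ^ k) u = u := fun k => by
        induction k with
        | zero => rfl
        | succ k ih => rw [pow_succ', MulAut.mul_apply, ih, h2]
      have h4 : (β ^ q) u = v := by rw [hk, pow_succ', pow_mul, MulAut.mul_apply, h3]
      rw [hβq] at h4
      exact huv h4
    · exact absurd (β.injective (e : β v = β u)) huv.symm
    · exact e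
  refine ⟨x, hx, ?_, (x * α x)⁻¹ * α (α x), QuotientGroup.eq.mp ?_, by rw [mul_inv_cancel_left]⟩
  · refine FGS3.closure_eq_top_of_quotient_frattini (eq_top_iff.mpr fun w _ => ?_)
    have hm1 : u ∈ Subgroup.closure ((QuotientGroup.mk : X → V) '' {x, α x}) :=
      Subgroup.subset_closure ⟨x, by simp, rfl⟩
    have hm2 : v ∈ Subgroup.closure ((QuotientGroup.mk : X → V) '' {x, α x}) :=
      Subgroup.subset_closure ⟨α x, by simp, rfl⟩
    rcases hall w with e | e | e | e <;> rw [e]
    exacts [one_mem _, hm1, hm2, mul_mem hm1 hm2]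
  · rw [QuotientGroup.mk_mul, ← hβ x, ← hu, ← hv, ← hβv, hv, hu, hβ, hβ]

/-- The abelian case. -/
theorem homocyclic_of_abelian {X : Type u} [CommGroup X] [Finite X] (hX : IsPGroup 2 X) {α : MulAut X}
    {x : X} (hx : x⁻¹ * α x ∉ frattini X) (hgen : Subgroup.closure {x, α x} = ⊤) {f : X}
    (hf : f ∈ frattini X) (hα2 : α (α x) = x * α x * f) :
    ∃ n : ℕ, Nonempty (X ≃* Multiplicative (ZMod (2 ^ n)) × Multiplicative (ZMod (2 ^ n))) := by
  haveI := Fact.mk Nat.prime_two
  set y := α x with hy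
  obtain ⟨n, hn⟩ := IsPGroup.iff_orderOf.mp hX x
  have hyo : orderOf y = 2 ^ n := by rw [hy, MulEquiv.orderOf_eq, hn]
  have hexp : ∀ w : X, w ^ 2 ^ n = 1 := by
    intro w
    have h1 : Subgroup.closure {x, y} ≤ (powMonoidHom (2 ^ n) : X →* X).ker := by
      rw [Subgroup.closure_le]
      rintro z (rfl | rfl)
      · show z ^ 2 ^ n = 1; rw [← hn, pow_orderOf_eq_one]
      · show y ^ 2 ^ n = 1; rw [← hyo, pow_orderOf_eq_one]
    rw [hgen] at h1
    exact h1 (Subgroup.mem_top w)
  have hdis : Disjoint (Subgroup.zpowers x) (Subgroup.zpowers y) := by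
    rw [disjoint_iff, Subgroup.eq_bot_iff_forall]
    intro t ht
    by_contra ht1
    obtain ⟨k, hk⟩ := IsPGroup.iff_orderOf.mp hX t
    rcases k with _ | k
    · exact ht1 (orderOf_eq_one_iff.mp hk)
    have hs : orderOf (t ^ 2 ^ k) = 2 := by
      rw [orderOf_pow' _ (by positivity), hk, Nat.gcd_eq_right (pow_dvd_pow 2 (Nat.le_succ k)), pow_succ,
        Nat.mul_div_cancel_left _ (by positivity)]
    have hs2 : (t ^ 2 ^ k) ^ 2 = 1 := orderOf_dvd_iff_pow_eq_one.mp (dvd_of_eq hs)
    rcases n with _ | m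
    · exact ht1 (by have := hexp t; rwa [pow_zero, pow_one] at this)
    have huniq : ∀ z : X, orderOf z = 2 ^ (m + 1) → t ^ 2 ^ k ∈ Subgroup.zpowers z →
        t ^ 2 ^ k = z ^ 2 ^ m := by
      intro z hz hmem
      obtain ⟨i, hi⟩ := mem_powers_iff_mem_zpowers.mpr hmem
      have hd : 2 ^ (m + 1) ∣ i * 2 := by
        rw [← hz]
        refine orderOf_dvd_of_pow_eq_one ?_
        rw [pow_mul]
        show (z ^ i) ^ 2 = 1
        rw [show z ^ i = t ^ 2 ^ k from hi, hs2]
      rw [pow_succ] at hd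
      obtain ⟨c, hc⟩ := Nat.dvd_of_mul_dvd_mul_right two_pos hd
      have hi' : z ^ i = t ^ 2 ^ k := hi
      rw [← hi', hc, pow_mul]
      rcases Nat.even_or_odd c with ⟨d, hd'⟩ | ⟨d, hd'⟩
      · exfalso
        have h0 : t ^ 2 ^ k = 1 := by
          rw [← hi', hc, hd', ← two_mul, ← mul_assoc, ← pow_succ, pow_mul, ← hz, pow_orderOf_eq_one, one_pow]
        rw [h0, orderOf_one] at hs
        omega
      · rw [hd', pow_succ, ← pow_mul, ← mul_assoc, ← pow_succ, pow_mul, ← hz, pow_orderOf_eq_one, one_pow,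
          one_mul]
    have e1 := huniq x hn (Subgroup.pow_mem _ ht.1 _)
    have e2 := huniq y hyo (Subgroup.pow_mem _ ht.2 _)
    have hfm : f ^ 2 ^ m = 1 := by
      have h1 : frattini X ≤ (powMonoidHom (2 ^ m) : X →* X).ker := by
        rw [FGS3.frattini_eq_sup hX]
        refine sup_le ?_ ((Subgroup.closure_le _).mpr ?_)
        · rw [(_root_.commutator_eq_bot_iff X).mpr ⟨⟨mul_comm⟩⟩]; exact bot_le
        · rintro _ ⟨w, rfl⟩
          show (w ^ 2) ^ 2 ^ m = 1
          rw [← pow_mul, ← pow_succ', hexp]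
      exact h1 hf
    have h2 : (α y) ^ 2 ^ m = 1 := by
      rw [hα2, mul_pow, mul_pow, hfm, ← e1, ← e2, mul_one, ← pow_two, hs2]
    have h3 : orderOf (α y) ∣ 2 ^ m := orderOf_dvd_of_pow_eq_one h2
    rw [MulEquiv.orderOf_eq, hyo] at h3
    exact absurd (Nat.pow_dvd_pow_iff_le_right one_lt_two |>.mp h3) (by omega)
  let ψ : Subgroup.zpowers x × Subgroup.zpowers y →* X :=
    (Subgroup.zpowers x).subtype.coprod (Subgroup.zpowers y).subtype
  have hbij : Function.Bijective ψ := by
    refine ⟨(injective_iff_map_eq_one ψ).mpr fun ⟨a, b⟩ hab => ?_, fun w => ?_⟩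
    · have hab' : (a : X) * b = 1 := hab
      have ha : (a : X) ∈ Subgroup.zpowers y := by
        rw [eq_inv_of_mul_eq_one_left hab']; exact inv_mem b.2
      have ha1 : (a : X) = 1 := Subgroup.disjoint_def.mp hdis a.2 ha
      refine Prod.ext (Subtype.ext ha1) (Subtype.ext ?_)
      rwa [ha1, one_mul] at hab'
    · have h1 : Subgroup.closure {x, y} ≤ ψ.range := by
        rw [Subgroup.closure_le]
        rintro z (rfl | rfl)
        · exact ⟨(⟨z, Subgroup.mem_zpowers z⟩, 1), by simp [ψ]⟩
        · exact ⟨(1, ⟨y, Subgroup.mem_zpowers y⟩), by simp [ψ]⟩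
      rw [hgen] at h1
      exact h1 (Subgroup.mem_top w)
  have hcz : Nat.card (Multiplicative (ZMod (2 ^ n))) = 2 ^ n := by
    rw [Nat.card_congr Multiplicative.toAdd, Nat.card_zmod]
  let ex : Multiplicative (ZMod (2 ^ n)) ≃* Subgroup.zpowers x :=
    mulEquivOfCyclicCardEq (by rw [hcz, Nat.card_zpowers, hn])
  let ey : Multiplicative (ZMod (2 ^ n)) ≃* Subgroup.zpowers y :=
    mulEquivOfCyclicCardEq (by rw [hcz, Nat.card_zpowers, hyo])
  exact ⟨n, ⟨(MulEquiv.ofBijective ψ hbij).symm.trans (MulEquiv.prodCongr ex.symm ey.symm)⟩⟩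

theorem quat_facts : ∀ a b : QuaternionGroup 2, a * b ≠ b * a →
    a * a = b * b ∧ a * b * a⁻¹ * b⁻¹ = b * b := by decide

/-- A metacyclic 2-group with an automorphism of odd order is homocyclic or quaternion of order 8. -/
theorem classify_aux : ∀ (N : ℕ) (X : Type u) [Group X] [Finite X], Nat.card X = N → IsPGroup 2 X →
    IsMetacyclic X → ∀ (q : ℕ), q.Prime → q ≠ 2 → ∀ α : MulAut X, α ^ q = 1 → α ≠ 1 →
    Nonempty (X ≃* QuaternionGroup 2) ∨
      ∃ n : ℕ, Nonempty (X ≃* Multiplicative (ZMod (2 ^ n)) × Multiplicative (ZMod (2 ^ n))) := by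
  intro N
  induction N using Nat.strong_induction_on with
  | _ N ih =>
  intro X _ _ hN hX hm q hq hq2 α hα hα1
  haveI := Fact.mk Nat.prime_two
  obtain ⟨x, hxF, hgen, f, hf, hα2⟩ := exists_generators hX hm hq hq2 hα hα1
  set y := α x with hy
  by_cases hcomm : ∀ a b : X, a * b = b * a
  · letI : CommGroup X := { (inferInstance : Group X) with mul_comm := hcomm }
    exact Or.inr (homocyclic_of_abelian hX hxF hgen hf hα2)
  have hxy : x * y ≠ y * x := by
    intro h
    apply hcomm
    have h1 : Subgroup.closure {x, y} ≤ Subgroup.centralizer (Subgroup.closure ({x, y} : Set X) : Set X) := by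
      rw [Subgroup.centralizer_closure, Subgroup.closure_le]
      rintro a (rfl | rfl) b (rfl | rfl)
      exacts [rfl, h.symm, h, rfl]
    rw [hgen] at h1
    exact fun a b => (h1 (Subgroup.mem_top b) a (Subgroup.mem_top a))
  obtain ⟨A, hAn, hA, hAq⟩ := hm
  haveI := hAn; haveI := hA; haveI := hAq
  have hcA : commutator X ≤ A := by
    rw [_root_.commutator_def, Subgroup.commutator_le]
    intro a _ b _
    rw [← QuotientGroup.eq_one_iff]
    show QuotientGroup.mk' A ⁅a, b⁆ = 1
    rw [map_commutatorElement, commutatorElement_eq_one_iff_mul_comm]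
    exact (IsCyclic.commGroup (α := X ⧸ A)).mul_comm _ _
  have hne : commutator X ≠ ⊥ := fun h => hcomm fun a b => commutatorElement_eq_one_iff_mul_comm.mp
    (Subgroup.mem_bot.mp (h ▸ Subgroup.commutator_mem_commutator (Subgroup.mem_top a) (Subgroup.mem_top b)))
  obtain ⟨c, hcX', hc2⟩ : ∃ c ∈ commutator X, orderOf c = 2 := by
    obtain ⟨k, hk⟩ := IsPGroup.iff_card.mp (hX.to_subgroup (commutator X))
    have h1 := (Subgroup.one_lt_card_iff_ne_bot _).mpr hne
    obtain ⟨c, hc⟩ := exists_prime_orderOf_dvd_card' 2 (G := commutator X)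
      (hk ▸ dvd_pow_self 2 (fun e => by rw [hk, e, pow_zero] at h1; omega))
    exact ⟨c, c.2, by rw [Subgroup.orderOf_coe, hc]⟩
  have huniq : ∀ d ∈ commutator X, d ^ 2 = 1 → d = 1 ∨ d = c := by
    classical
    intro d hd hd2
    by_contra hcon
    push Not at hcon
    haveI := IsCyclic.commGroup (α := A)
    haveI : Fintype A := Fintype.ofFinite A
    have h1 := IsCyclic.card_pow_eq_one_le (α := A) two_pos
    have h2 : ({1, ⟨c, hcA hcX'⟩, ⟨d, hcA hd⟩} : Finset A) ⊆ Finset.univ.filter fun a : A => a ^ 2 = 1 := by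
      intro a ha
      simp only [Finset.mem_insert, Finset.mem_singleton] at ha
      refine Finset.mem_filter.mpr ⟨Finset.mem_univ _, Subtype.ext ?_⟩
      rcases ha with rfl | rfl | rfl
      · simp
      · show c ^ 2 = 1; rw [← hc2, pow_orderOf_eq_one]
      · show d ^ 2 = 1; exact hd2
    have hc1 : c ≠ 1 := fun e => by rw [e, orderOf_one] at hc2; omega
    have h3 : ({1, ⟨c, hcA hcX'⟩, ⟨d, hcA hd⟩} : Finset A).card = 3 := by
      have e1 : (1 : A) ≠ ⟨c, hcA hcX'⟩ := fun e => hc1 (congrArg Subtype.val e).symm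
      have e2 : (1 : A) ≠ ⟨d, hcA hd⟩ := fun e => hcon.1 (congrArg Subtype.val e).symm
      have e3 : (⟨c, hcA hcX'⟩ : A) ≠ ⟨d, hcA hd⟩ := fun e => hcon.2 (congrArg Subtype.val e).symm
      simp [e1, e2, e3]
    have h4 := Finset.card_le_card h2
    omega
  have hc1 : c ≠ 1 := fun e => by rw [e, orderOf_one] at hc2; omega
  have hcc : c * c = 1 := by rw [← pow_two, ← hc2, pow_orderOf_eq_one]
  have hfixc : ∀ β : MulAut X, β c = c := fun β => by
    refine (huniq _ ?_ ?_).resolve_left fun e => hc1 (β.injective (e.trans (map_one β).symm))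
    · have : (commutator X).map β.toMonoidHom = commutator X :=
        Subgroup.characteristic_iff_map_eq.mp inferInstance β
      exact this ▸ ⟨c, hcX', rfl⟩
    · rw [← map_pow, ← hc2, pow_orderOf_eq_one, map_one]
  have hcz : ∀ a : X, a * c = c * a := fun a => mul_inv_eq_iff_eq_mul.mp (hfixc (MulAut.conj a))
  set N := Subgroup.zpowers c with hNdef
  haveI hNn : N.Normal := ⟨fun d hd a => by
    obtain ⟨i, rfl⟩ := Subgroup.mem_zpowers_iff.mp hd
    rw [← conj_zpow, hcz a, mul_inv_cancel_right]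
    exact hd⟩
  have hNF : N ≤ frattini X :=
    (Subgroup.zpowers_le.mpr hcX').trans (FGS3.commutator_le_frattini hX)
  have hNmem : ∀ d ∈ N, d = 1 ∨ d = c := by
    intro d hd
    obtain ⟨i, rfl⟩ := Subgroup.mem_zpowers_iff.mp hd
    refine huniq _ (zpow_mem hcX' i) ?_
    rw [← zpow_natCast, ← zpow_mul, mul_comm, zpow_mul, zpow_natCast, ← hc2, pow_orderOf_eq_one, one_zpow]
  have hmapN : N.map α.toMonoidHom = N := by
    rw [hNdef, MonoidHom.map_zpowers]; exact congrArg Subgroup.zpowers (hfixc α)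
  let β : MulAut (X ⧸ N) := QuotientGroup.congr N N α hmapN
  have hβn : ∀ (k : ℕ) (a : X), (β ^ k) (a : X ⧸ N) = (((α ^ k) a : X) : X ⧸ N) := fun k a => by
    induction k with
    | zero => rfl
    | succ k ihk => rw [pow_succ', MulAut.mul_apply, ihk, pow_succ', MulAut.mul_apply]; rfl
  have hβq : β ^ q = 1 := MulEquiv.ext fun a => by
    induction a using QuotientGroup.induction_on with | _ a => rw [hβn, hα]; rfl
  have hβ1 : β ≠ 1 := fun e => hxF (hNF (QuotientGroup.eq.mp
    ((DFunLike.congr_fun e (x : X ⧸ N)).symm : ((x : X) : X ⧸ N) = (y : X ⧸ N))))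
  have hcardN : Nat.card N = 2 := by rw [hNdef, Nat.card_zpowers, hc2]
  have hcard : Nat.card X = Nat.card (X ⧸ N) * 2 := by
    rw [← hcardN]; exact Subgroup.card_eq_card_quotient_mul_card_subgroup N
  have hrec := ih _ (by have := Nat.card_pos (α := X ⧸ N); omega) (X ⧸ N) rfl (hX.to_quotient N)
    (OddLocal.RankTwo.metacyclic_quotient ⟨A, hAn, hA, hAq⟩ N) q hq hq2 β hβq hβ1
  -- a commutator generates the derived subgroup
  have hderived : ∀ c₀ : X, (∀ a, a * c₀ = c₀ * a) → x * y * x⁻¹ * y⁻¹ = c₀ →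
      commutator X ≤ Subgroup.zpowers c₀ := by
    intro c₀ hz e
    haveI : (Subgroup.zpowers c₀).Normal := ⟨fun d hd a => by
      obtain ⟨i, rfl⟩ := Subgroup.mem_zpowers_iff.mp hd
      rw [← conj_zpow, hz a, mul_inv_cancel_right]
      exact hd⟩
    set π := QuotientGroup.mk' (Subgroup.zpowers c₀)
    have hc' : π x * π y = π y * π x := by
      rw [← commutatorElement_eq_one_iff_mul_comm, ← map_commutatorElement, commutatorElement_def, e]
      exact (QuotientGroup.eq_one_iff _).mpr (Subgroup.mem_zpowers c₀)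
    have h1 : (Subgroup.closure {x, y}).map π ≤
        Subgroup.centralizer ((Subgroup.closure {x, y}).map π : Set (X ⧸ Subgroup.zpowers c₀)) := by
      rw [MonoidHom.map_closure, Subgroup.centralizer_closure, Subgroup.closure_le]
      rintro _ ⟨a, rfl | rfl, rfl⟩ _ ⟨b, rfl | rfl, rfl⟩
      exacts [rfl, hc'.symm, hc', rfl]
    rw [hgen] at h1
    rw [_root_.commutator_def, Subgroup.commutator_le]
    intro a _ b _
    rw [← QuotientGroup.eq_one_iff]
    show π ⁅a, b⁆ = 1
    rw [map_commutatorElement, commutatorElement_eq_one_iff_mul_comm]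
    exact h1 ⟨b, trivial, rfl⟩ _ ⟨a, trivial, rfl⟩
  rcases hrec with ⟨⟨φ⟩⟩ | ⟨n, ⟨φ⟩⟩
  · exfalso
    set π := QuotientGroup.mk' N
    have hq8 : π x * π y ≠ π y * π x := by
      intro h
      have h1 : (Subgroup.closure {x, y}).map π ≤
          Subgroup.centralizer ((Subgroup.closure {x, y}).map π : Set (X ⧸ N)) := by
        rw [MonoidHom.map_closure, Subgroup.centralizer_closure, Subgroup.closure_le]
        rintro _ ⟨a, rfl | rfl, rfl⟩ _ ⟨b, rfl | rfl, rfl⟩
        exacts [rfl, h.symm, h, rfl]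
      rw [hgen] at h1
      have key : ∀ u v : QuaternionGroup 2, u * v = v * u := fun u v => by
        obtain ⟨a, ha⟩ := QuotientGroup.mk'_surjective N (φ.symm u)
        obtain ⟨b, hb⟩ := QuotientGroup.mk'_surjective N (φ.symm v)
        have h2 := congrArg φ (h1 ⟨b, trivial, hb⟩ (π a) ⟨a, trivial, rfl⟩)
        rw [show π a = φ.symm u from ha, map_mul, map_mul, MulEquiv.apply_symm_apply,
          MulEquiv.apply_symm_apply] at h2
        exact h2
      exact absurd (key (QuaternionGroup.a 1) (QuaternionGroup.xa 0)) (by decide)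
    obtain ⟨e1, e2⟩ := quat_facts (φ (π x)) (φ (π y)) fun e => hq8 (φ.injective (by rw [map_mul, map_mul, e]))
    have h1 : π (x * x) = π (y * y) := φ.injective (by rw [map_mul π, map_mul π, map_mul φ, map_mul φ, e1])
    have h2 : π (x * y * x⁻¹ * y⁻¹) = π (y * y) := φ.injective (by
      simp only [map_mul, map_inv]; exact e2)
    obtain ⟨n₁, hn₁, hx2⟩ : ∃ n₁ ∈ N, x * x = y * y * n₁ :=
      ⟨(y * y)⁻¹ * (x * x), QuotientGroup.eq.mp h1.symm, by group⟩
    obtain ⟨n₂, hn₂, hxy2⟩ : ∃ n₂ ∈ N, x * y * x⁻¹ * y⁻¹ = y * y * n₂ :=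
      ⟨(y * y)⁻¹ * (x * y * x⁻¹ * y⁻¹), QuotientGroup.eq.mp h2.symm, by group⟩
    have hNc : ∀ d ∈ N, ∀ a : X, a * d = d * a := fun d hd a => by
      rcases hNmem d hd with rfl | rfl
      · simp
      · exact hcz a
    have hcen : ∀ a : X, a * (x * x) = (x * x) * a := by
      have h3 : Subgroup.closure {x, y} ≤ Subgroup.centralizer ({x * x} : Set X) := by
        rw [Subgroup.closure_le]
        rintro a (rfl | rfl) b hb
        · rw [Set.mem_singleton_iff.mp hb, mul_assoc]
        · rw [Set.mem_singleton_iff.mp hb, hx2, mul_assoc (y * y) n₁ y, ← hNc n₁ hn₁ y]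
          simp only [mul_assoc]
      rw [hgen] at h3
      exact fun a => (h3 (Subgroup.mem_top a) _ rfl).symm
    have hycen : ∀ a : X, a * (y * y) = (y * y) * a := by
      intro a
      have e : y * y = x * x * n₁⁻¹ := by rw [hx2]; group
      rw [e, ← mul_assoc, hcen, mul_assoc, hNc _ (inv_mem hn₁) a, ← mul_assoc]
    set c₀ := x * y * x⁻¹ * y⁻¹ with hc₀
    have hc₀z : ∀ a, a * c₀ = c₀ * a := fun a => by
      rw [hxy2, ← mul_assoc, hycen, mul_assoc, hNc _ hn₂ a, ← mul_assoc]
    have hX' := hderived c₀ hc₀z rfl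
    have hsq : c₀ * c₀ = 1 := by
      calc c₀ * c₀ = c₀ * (x * y * x⁻¹ * y⁻¹) := rfl
        _ = x * c₀ * y * x⁻¹ * y⁻¹ := by rw [hc₀z x]; simp only [mul_assoc]
        _ = (x * x) * y * (x * x)⁻¹ * y⁻¹ := by rw [hc₀]; group
        _ = 1 := by rw [← hcen y]; group
    have hmem : c₀ ∈ N := by
      rcases huniq c₀ (by rw [hc₀]; exact Subgroup.commutator_mem_commutator (Subgroup.mem_top x) (Subgroup.mem_top y))
        (by rw [pow_two, hsq]) with e | e <;> rw [e]
      exacts [one_mem _, Subgroup.mem_zpowers c]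
    apply hq8
    rw [← commutatorElement_eq_one_iff_mul_comm, ← map_commutatorElement, commutatorElement_def]
    exact (QuotientGroup.eq_one_iff _).mpr hmem
  have hcy : commutator X ≤ N := by
    rw [_root_.commutator_def, Subgroup.commutator_le]
    intro a _ b _
    rw [← QuotientGroup.eq_one_iff]
    show QuotientGroup.mk' N ⁅a, b⁆ = 1
    rw [map_commutatorElement, commutatorElement_eq_one_iff_mul_comm]
    exact φ.injective (by rw [map_mul, map_mul, mul_comm])
  have hpowN : ∀ w : X, w ^ 2 ^ n ∈ N := fun w => by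
    rw [← QuotientGroup.eq_one_iff, QuotientGroup.mk_pow]
    refine φ.injective ?_
    rw [map_pow, map_one]
    have : ∀ z : Multiplicative (ZMod (2 ^ n)), z ^ 2 ^ n = 1 := fun z => by
      refine Multiplicative.toAdd.injective ?_
      rw [toAdd_pow, toAdd_one, nsmul_eq_mul, ZMod.natCast_self, zero_mul]
    exact Prod.ext (this _) (this _)
  have hsq : ∀ u v : X, ∃ d ∈ N, (u * v) * (u * v) = (u * u) * (v * v) * d := by
    intro u v
    refine ⟨(u * u * (v * v))⁻¹ * ((u * v) * (u * v)), ?_, by group⟩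
    rw [← QuotientGroup.eq_one_iff]
    refine φ.injective ?_
    simp only [QuotientGroup.mk_mul, QuotientGroup.mk_inv, map_mul, map_inv, map_one]
    rw [inv_mul_eq_one, mul_mul_mul_comm]
  have hNc : ∀ d ∈ N, ∀ a : X, a * d = d * a := fun d hd a => by
    rcases hNmem d hd with rfl | rfl
    · simp
    · exact hcz a
  have hNsq : ∀ d ∈ N, d * d = 1 := fun d hd => by
    rcases hNmem d hd with rfl | rfl
    · simp
    · exact hcc
  rcases Nat.lt_or_ge n 2 with hn | hn
  swap
  · exfalso
    have hsqc : ∀ u a : X, a * (u * u) = (u * u) * a := fun u a => by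
      have hd : ⁅a, u⁆ ∈ N := hcy (Subgroup.commutator_mem_commutator (Subgroup.mem_top a) (Subgroup.mem_top u))
      have e : a * u = ⁅a, u⁆ * u * a := by rw [commutatorElement_def]; group
      calc a * (u * u) = (a * u) * u := by rw [mul_assoc]
        _ = ⁅a, u⁆ * u * (a * u) := by conv_lhs => rw [e]
                                       simp only [mul_assoc]
        _ = ⁅a, u⁆ * (u * ⁅a, u⁆) * u * a := by conv_lhs => rw [e]
                                                simp only [mul_assoc]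
        _ = (u * u) * a := by rw [hNc _ hd u, ← mul_assoc ⁅a, u⁆, hNsq _ hd, one_mul]
    have hhom : ∀ u v : X, (u * v) ^ 2 ^ n = u ^ 2 ^ n * v ^ 2 ^ n := by
      intro u v
      obtain ⟨m, rfl⟩ : ∃ m, n = m + 2 := ⟨n - 2, by omega⟩
      obtain ⟨d, hd, he⟩ := hsq u v
      have hd1 : d ^ 2 ^ (m + 1) = 1 := by rw [pow_succ', pow_mul, pow_two, hNsq d hd, one_pow]
      have e1 : ∀ w : X, w ^ 2 ^ (m + 2) = (w * w) ^ 2 ^ (m + 1) := fun w => by
        rw [← pow_two, ← pow_mul, ← pow_succ']
      rw [e1, he, e1 u, e1 v, Commute.mul_pow (show Commute (u * u * (v * v)) d from (hNc d hd _)),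
        Commute.mul_pow (show Commute (u * u) (v * v) from hsqc v _), hd1, mul_one]
    let ψ : X →* X := MonoidHom.mk' (fun w => w ^ 2 ^ n) hhom
    have hker : frattini X ≤ ψ.ker := by
      rw [FGS3.frattini_eq_sup hX]
      refine sup_le (hcy.trans fun d hd => ?_) ((Subgroup.closure_le _).mpr ?_)
      · show d ^ 2 ^ n = 1
        obtain ⟨m, rfl⟩ : ∃ m, n = m + 1 := ⟨n - 1, by omega⟩
        rw [pow_succ', pow_mul, pow_two, hNsq d hd, one_pow]
      · rintro _ ⟨w, rfl⟩
        show (w ^ 2) ^ 2 ^ n = 1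
        rw [← pow_mul, mul_comm, pow_mul, pow_two, hNsq _ (hpowN w)]
    have hyt : y ^ 2 ^ n = x ^ 2 ^ n := by
      rw [hy, ← map_pow]
      rcases hNmem _ (hpowN x) with e | e <;> rw [e]
      exacts [map_one α, hfixc α]
    have hyy : (α y) ^ 2 ^ n = y ^ 2 ^ n := by
      rw [← map_pow, hyt]
      rcases hNmem _ (hpowN x) with e | e <;> rw [e]
      exacts [map_one α, hfixc α]
    have hx1 : x ^ 2 ^ n = 1 := by
      rw [hα2, hhom, hhom, show f ^ 2 ^ n = 1 from hker hf, mul_one, hyt, mul_eq_left] at hyy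
      exact hyy
    have hexp : ∀ w : X, w ^ 2 ^ n = 1 := fun w => by
      have h1 : Subgroup.closure {x, y} ≤ ψ.ker := by
        rw [Subgroup.closure_le]
        rintro z (rfl | rfl)
        · exact hx1
        · exact hyt.trans hx1
      rw [hgen] at h1
      exact h1 (Subgroup.mem_top w)
    have hQ : Nat.card (X ⧸ N) = 2 ^ n * 2 ^ n := by
      rw [Nat.card_congr φ.toEquiv, Nat.card_prod, Nat.card_congr Multiplicative.toAdd, Nat.card_zmod]
    have hAle : ∀ (G : Type u) [Group G] [Finite G] [IsCyclic G], (∀ g : G, g ^ 2 ^ n = 1) →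
        Nat.card G ≤ 2 ^ n := fun G _ _ _ hg => by
      obtain ⟨g, hg'⟩ := IsCyclic.exists_ofOrder_eq_natCard (α := G)
      rw [← hg']
      exact Nat.le_of_dvd (by positivity) (orderOf_dvd_of_pow_eq_one (hg g))
    have h1 := hAle A fun a => Subtype.ext (hexp a)
    have h2 := hAle (X ⧸ A) fun a => by
      induction a using QuotientGroup.induction_on with
      | _ a => rw [← QuotientGroup.mk_pow, hexp]; rfl
    have h3 := Nat.mul_le_mul h2 h1
    rw [← Subgroup.card_eq_card_quotient_mul_card_subgroup A, hcard, hQ] at h3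
    have : 0 < 2 ^ n * 2 ^ n := by positivity
    omega
  have hn1 : n = 1 := by
    by_contra hne
    obtain rfl : n = 0 := by omega
    have h1 : Nat.card (X ⧸ N) = 1 := by
      rw [Nat.card_congr φ.toEquiv, Nat.card_prod, Nat.card_congr Multiplicative.toAdd, Nat.card_zmod]; simp
    rw [← Subgroup.index_eq_card, Subgroup.index_eq_one] at h1
    exact hcomm fun a b => by rw [hNc b (h1 ▸ Subgroup.mem_top b) a]
  subst hn1
  left
  rw [pow_one] at hpowN
  have hwN : ∀ w : X, w * w ∈ N := fun w => by rw [← pow_two]; exact hpowN w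
  have hyt : y * y = x * x := by
    rw [hy, ← map_mul]
    rcases hNmem _ (hwN x) with e | e <;> rw [e]
    exacts [map_one α, hfixc α]
  have hfN : f ∈ N := by
    refine (?_ : frattini X ≤ N) hf
    rw [FGS3.frattini_eq_sup hX]
    refine sup_le hcy ((Subgroup.closure_le _).mpr ?_)
    rintro _ ⟨w, rfl⟩
    exact hpowN w
  have hcom : x * y * x⁻¹ * y⁻¹ = c := by
    refine (hNmem _ (hcy (by
      rw [← commutatorElement_def]
      exact Subgroup.commutator_mem_commutator (Subgroup.mem_top x) (Subgroup.mem_top y)))).resolve_left fun e => hxy ?_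
    exact mul_inv_eq_iff_eq_mul.mp (mul_inv_eq_one.mp e)
  have hxx : x * x = c := by
    have h1 : (α y) * (α y) = x * x := by
      rw [← map_mul, hyt]
      rcases hNmem _ (hwN x) with e | e <;> rw [e]
      exacts [map_one α, hfixc α]
    rw [hα2] at h1
    have hyx : y * x = c * (x * y) := by
      have : c⁻¹ = c := inv_eq_of_mul_eq_one_right hcc
      rw [← this, ← hcom]; group
    have h2 : x * y * f * (x * y * f) = c * (x * x) * (y * y) := by
      calc x * y * f * (x * y * f) = x * y * (f * (x * y)) * f := by simp only [mul_assoc]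
        _ = x * y * (x * y) * (f * f) := by rw [← hNc f hfN (x * y)]; simp only [mul_assoc]
        _ = x * (y * x) * y := by rw [hNsq f hfN, mul_one]; simp only [mul_assoc]
        _ = x * c * (x * y) * y := by rw [hyx]; simp only [mul_assoc]
        _ = c * (x * x) * (y * y) := by rw [hcz x]; simp only [mul_assoc]
    rw [h2, hyt, mul_assoc, hNsq _ (hwN x), mul_one] at h1
    exact h1.symm
  have hX8 : Nat.card X = 4 * 2 := by
    rw [hcard, Nat.card_congr φ.toEquiv, Nat.card_prod, Nat.card_congr Multiplicative.toAdd, Nat.card_zmod]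
    norm_num
  have hu : orderOf x = 2 * 2 := by
    have h1 : x ^ 4 = 1 := by
      rw [show (4 : ℕ) = 2 * 2 by rfl, pow_mul, pow_two x, hxx, pow_two, hcc]
    rw [show (2 * 2 : ℕ) = 2 ^ (1 + 1) by rfl]
    exact orderOf_eq_prime_pow (by rw [pow_one, pow_two, hxx]; exact hc1) h1
  refine TwoGroups.exists_quaternion_equiv (u := x) (v := y) two_pos hu hX8 (fun hmem => hxy ?_) ?_ ?_
  · obtain ⟨i, hi⟩ := Subgroup.mem_zpowers_iff.mp hmem
    rw [← hi]; exact ((Commute.refl x).zpow_right i).eq
  · rw [hyt, pow_two]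
  · have h1 : x * x * x * x = 1 := by rw [hxx, mul_assoc c x x, hxx, hcc]
    have h2 : y * x * y⁻¹ = c * x := by
      have hci : c⁻¹ = c := inv_eq_of_mul_eq_one_right hcc
      rw [← hci, ← hcom]; group
    rw [h2, ← hxx, eq_inv_iff_mul_eq_one]
    exact h1

/-- A metacyclic 2-group whose automorphism group is not a 2-group is homocyclic or quaternion. -/
theorem classify {X : Type u} [Group X] [Finite X] (hX : IsPGroup 2 X) (hm : IsMetacyclic X)
    (hA : ¬ IsPGroup 2 (MulAut X)) : Nonempty (X ≃* QuaternionGroup 2) ∨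
      ∃ n : ℕ, Nonempty (X ≃* Multiplicative (ZMod (2 ^ n)) × Multiplicative (ZMod (2 ^ n))) := by
  haveI := Fact.mk Nat.prime_two
  haveI : Finite (MulAut X) := Finite.of_injective (fun a : MulAut X => (a : X → X)) fun _ _ h =>
    MulEquiv.ext (congrFun h)
  obtain ⟨q, hq, hq2, α, hα⟩ : ∃ q : ℕ, q.Prime ∧ q ≠ 2 ∧ ∃ α : MulAut X, orderOf α = q := by
    by_contra hcon
    push Not at hcon
    refine hA (IsPGroup.of_card (n := (Nat.card (MulAut X)).primeFactorsList.length) ?_)
    refine Nat.eq_prime_pow_of_unique_prime_dvd Nat.card_pos.ne' fun {d} hd hdvd => ?_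
    haveI := Fact.mk hd
    obtain ⟨a, ha⟩ := exists_prime_orderOf_dvd_card' (G := MulAut X) d hdvd
    by_contra hd2
    exact hcon d hd hd2 a ha
  exact classify_aux _ X rfl hX hm q hq hq2 α (hα ▸ pow_orderOf_eq_one α)
    fun e => hq.ne_one (by rw [← hα, e, orderOf_one])

end Cfsg.Agent.TwoGroups.MetacyclicAut
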