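import Cfsg.Agent.TwoGroups.SixtyFourPairs

set_option autoImplicit false
set_option linter.style.haveILetI false
set_option linter.unusedSectionVars false
open scoped commutatorElement Classical

namespace Cfsg.Agent.TwoGroups.SixtyFour

open Cfsg.Agent.Fusion.Heis Cfsg.Agent.KnownB Cfsg.Agent.KnownB.AutPSL

variable {T : Type*} [Group T] [Finite T]
variable {F : Type*} [Field F] [Fintype F]

/-- The four element field has the usual arithmetic. -/
structure Four (ω : F) : Prop where
  two : (2 : F) = 0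
  sq : ω * ω = ω + 1
  all : ∀ a : F, a = 0 ∨ a = 1 ∨ a = ω ∨ a = ω + 1

theorem exists_four (hF : Fintype.card F = 4) : ∃ ω : F, Four ω := by
  have h2 : (2 : F) = 0 := by
    have h := FiniteField.cast_card_eq_zero F
    rw [hF] at h
    exact mul_self_eq_zero.1 (by linear_combination (by exact_mod_cast h : ((4 : ℕ) : F) = 0))
  obtain ⟨ω, h0, h1⟩ : ∃ ω : F, ω ≠ 0 ∧ ω ≠ 1 := by
    by_contra hc
    push Not at hc
    have : (Finset.univ : Finset F) ⊆ {0, 1} := fun a _ => by
      by_cases ha : a = 0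
      · simp [ha]
      · simp [hc a ha]
    have := (Finset.card_le_card this).trans Finset.card_le_two
    rw [Finset.card_univ, hF] at this
    omega
  have hcube : ω ^ 3 = 1 := by
    have := FiniteField.pow_card_sub_one_eq_one ω h0
    rwa [hF] at this
  have hsq : ω * ω = ω + 1 := by
    have h : (ω - 1) * (ω * ω + ω + 1) = 0 := by linear_combination hcube
    rcases mul_eq_zero.mp h with h | h
    · exact absurd (sub_eq_zero.mp h) h1
    · linear_combination h - (ω + 1) * h2
  refine ⟨ω, h2, hsq, fun a => ?_⟩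
  by_contra hn
  push Not at hn
  obtain ⟨n0, n1, n2, n3⟩ := hn
  have d1 : ω + 1 ≠ 0 := fun e => h1 (by linear_combination e - h2)
  have d2 : ω + 1 ≠ 1 := fun e => h0 (by linear_combination e)
  have d3 : ω + 1 ≠ ω := fun e => one_ne_zero (α := F) (by linear_combination e)
  have hinj : Function.Injective (![0, 1, ω, ω + 1, a] : Fin 5 → F) := by
    intro i j hij
    fin_cases i <;> fin_cases j <;> first
      | rfl
      | (exfalso; simp at hij <;> first
          | exact zero_ne_one hij | exact one_ne_zero hij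
          | exact h0 hij | exact h0 hij.symm | exact h1 hij | exact h1 hij.symm
          | exact d1 hij | exact d1 hij.symm | exact d2 hij | exact d2 hij.symm | exact d3 hij | exact d3 hij.symm
          | exact n0 hij | exact n0 hij.symm | exact n1 hij | exact n1 hij.symm
          | exact n2 hij | exact n2 hij.symm | exact n3 hij | exact n3 hij.symm)
  have := Fintype.card_le_of_injective _ hinj
  rw [hF] at this
  simp at this

namespace Setup

variable {ρ x : MulAut T} (s : Setup ρ x) {ω : F} (h : Four ω)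

/-- The additive map sending `1, ω, ω + 1` to the orbit of `v`. -/
noncomputable def orb (ρ : MulAut T) (ω : F) (v : T) (a : F) : T :=
  if a = 0 then 1 else if a = 1 then v else if a = ω then ρ v else ρ (ρ v)

include h

theorem ne_facts : ω ≠ 0 ∧ ω ≠ 1 ∧ ω + 1 ≠ 0 ∧ ω + 1 ≠ 1 ∧ ω + 1 ≠ ω := by
  have h0 : ω ≠ 0 := fun e => by have := h.sq; rw [e] at this; simp at this
  have h1 : ω ≠ 1 := fun e => by
    have := h.sq; rw [e] at this
    exact one_ne_zero (α := F) (by linear_combination -this)
  exact ⟨h0, h1, fun e => h1 (by linear_combination e - h.two), fun e => h0 (by linear_combination e),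
    fun e => one_ne_zero (α := F) (by linear_combination e)⟩

theorem orb_values (v : T) : orb ρ ω v 0 = 1 ∧ orb ρ ω v 1 = v ∧ orb ρ ω v ω = ρ v ∧
    orb ρ ω v (ω + 1) = ρ (ρ v) := by
  obtain ⟨a, b, c, d, e⟩ := ne_facts h
  simp [orb, a, b, c, d, e]

include s

theorem orb_smul (v : T) (a : F) : orb ρ ω v (ω * a) = ρ (orb ρ ω v a) := by
  obtain ⟨v0, v1, v2, v3⟩ := orb_values (ρ := ρ) h v
  rcases h.all a with ha | ha | ha | ha <;> rw [ha]
  · rw [mul_zero, v0, map_one]
  · rw [mul_one, v1, v2]
  · rw [h.sq, v2, v3]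
  · rw [show ω * (ω + 1) = 1 by linear_combination h.sq + ω * h.two, v1, v3, s.h3]

theorem orb_add {v : T} (hv : v * v = 1) (a b : F) :
    orb ρ ω v (a + b) = orb ρ ω v a * orb ρ ω v b := by
  obtain ⟨v0, v1, v2, v3⟩ := orb_values (ρ := ρ) h v
  have q1 : ρ v * ρ v = 1 := by rw [← map_mul, hv, map_one]
  have q2 : ρ (ρ v) * ρ (ρ v) = 1 := by rw [← map_mul, q1, map_one]
  have ho := orbit_prod ρ s.h3 s.fpf v
  have hc := commute_image ρ s.h3 s.fpf v
  have e1 : v * ρ v = ρ (ρ v) := by
    rw [eq_inv_of_mul_eq_one_left ho, inv_eq_of_mul_eq_one_right q2]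
  have e1' : ρ v * v = ρ (ρ v) := hc.eq.symm.trans e1
  have e2 : ρ v * ρ (ρ v) = v := by rw [← e1', ← mul_assoc, q1, one_mul]
  have e2' : ρ (ρ v) * ρ v = v := by rw [← e1, mul_assoc, q1, mul_one]
  have e3 : v * ρ (ρ v) = ρ v := by rw [← e1, ← mul_assoc, hv, one_mul]
  have e3' : ρ (ρ v) * v = ρ v := by rw [← e1', mul_assoc, hv, mul_one]
  have t : (1 : F) + 1 = 0 := by linear_combination h.two
  rcases h.all a with ha | ha | ha | ha <;> rcases h.all b with hb | hb | hb | hb <;>
    rw [ha, hb] <;>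
    simp only [zero_add, add_zero, v0, v1, v2, v3, one_mul, mul_one, t, hv, q1, q2, e1, e1', e2, e2', e3, e3']
  all_goals first
    | (rw [show (1 : F) + ω = ω + 1 by ring, v3])
    | (rw [show (1 : F) + (ω + 1) = ω by linear_combination h.two, v2])
    | (rw [show ω + 1 + 1 = ω by linear_combination h.two, v2])
    | (rw [show ω + ω = 0 by linear_combination ω * h.two, v0])
    | (rw [show ω + (ω + 1) = 1 by linear_combination ω * h.two, v1])
    | (rw [show ω + 1 + ω = 1 by linear_combination ω * h.two, v1])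
    | (rw [show ω + 1 + (ω + 1) = 0 by linear_combination (ω + 1) * h.two, v0])

theorem pairing {e f c : T} (hef : ⁅e, f⁆ = c) (a b : F) :
    ⁅orb ρ ω e a, orb ρ ω f b⁆ = orb ρ ω c ((a * b) * (a * b)) := by
  have key : ∀ a b : F, ⁅orb ρ ω e a, orb ρ ω f b⁆ = orb ρ ω c ((a * b) * (a * b)) →
      ⁅orb ρ ω e (ω * a), orb ρ ω f b⁆ = orb ρ ω c ((ω * a * b) * (ω * a * b)) := fun a b hab => by
    rw [orb_smul s h, s.shift_left, hab, ← orb_smul s h, ← orb_smul s h]
    congr 1; ring
  have key' : ∀ a b : F, ⁅orb ρ ω e a, orb ρ ω f b⁆ = orb ρ ω c ((a * b) * (a * b)) →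
      ⁅orb ρ ω e a, orb ρ ω f (ω * b)⁆ = orb ρ ω c ((a * (ω * b)) * (a * (ω * b))) := fun a b hab => by
    rw [orb_smul s h, s.shift_right, hab, ← orb_smul s h, ← orb_smul s h]
    congr 1; ring
  have base : ⁅orb ρ ω e (1 : F), orb ρ ω f (1 : F)⁆ = orb ρ ω c (((1 : F) * 1) * (1 * 1)) := by
    rw [(orb_values h e).2.1, (orb_values h f).2.1, one_mul, one_mul, (orb_values h c).2.1, hef]
  have hω1 : ω + 1 = ω * ω := h.sq.symm
  have all_a : ∀ a : F, ⁅orb ρ ω e a, orb ρ ω f (1 : F)⁆ = orb ρ ω c ((a * 1) * (a * 1)) := fun a => by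
    rcases h.all a with rfl | rfl | ha | ha
    · simp [(orb_values (ρ := ρ) h e).1, (orb_values (ρ := ρ) h c).1]
    · exact base
    · have := key 1 1 base
      rw [mul_one ω] at this
      rw [ha]; simpa using this
    · have := key _ 1 (key 1 1 base)
      rw [mul_one ω, ← hω1] at this
      rw [ha]; exact this
  rcases h.all b with rfl | rfl | hb | hb
  · simp [(orb_values (ρ := ρ) h f).1, (orb_values (ρ := ρ) h c).1]
  · exact all_a a
  · have := key' a 1 (all_a a)
    rw [mul_one ω] at this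
    rw [hb]; exact this
  · have := key' a _ (key' a 1 (all_a a))
    rw [mul_one ω, ← hω1] at this
    rw [hb]; exact this

omit [Fintype F] in
theorem orb_mem {v : T} (hv : v ∈ Subgroup.center T) (a : F) : orb ρ ω v a ∈ Subgroup.center T := by
  unfold orb
  split_ifs
  · exact one_mem _
  · exact hv
  · exact s.map_center hv
  · exact s.map_center (s.map_center hv)

theorem exists_equiv {e f z : T} (he : e * e = 1) (hf : f * f = 1) (hef : ⁅e, f⁆ = z)
    (hz : z ∈ Subgroup.center T) (hz1 : z ≠ 1) :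
    ∃ Ψ : upperUni 3 F ≃* T, ∀ u, ∃ a b c : F, Ψ u = orb ρ ω f b * orb ρ ω e a * orb ρ ω z c := by
  set E := orb ρ ω e
  set P := orb ρ ω f
  set Q : F → T := fun c => orb ρ ω z (c * c) with hQ
  have hQm : ∀ c, Q c ∈ Subgroup.center T := fun c => orb_mem s h hz _
  have hQadd : ∀ c d, Q (c + d) = Q c * Q d := fun c d => by
    simp only [hQ]
    rw [← orb_add s h (s.sq_eq_one hz)]
    congr 1
    linear_combination c * d * h.two
  have hE : ∀ a b, E (a + b) = E a * E b := orb_add s h he
  have hP : ∀ a b, P (a + b) = P a * P b := orb_add s h hf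
  have hp : ∀ a b, ⁅E a, P b⁆ = Q (a * b) := fun a b => pairing s h hef a b
  let g : upperUni 3 F → T := fun u =>
    P (u.val.val 1 2) * E (u.val.val 0 1) * Q (u.val.val 0 2)
  let φ : upperUni 3 F →* T := MonoidHom.mk' g (by
    rintro ⟨u, hu⟩ ⟨v, hv⟩
    obtain ⟨a, b, c, rfl⟩ : ∃ a b c : F, u = hMat a b c := ⟨_, _, _, eq_hMat hu⟩
    obtain ⟨a', b', c', rfl⟩ : ∃ a b c : F, v = hMat a b c := ⟨_, _, _, eq_hMat hv⟩
    have hcz : ∀ c t, Q c * t = t * Q c := fun c t => (Subgroup.mem_center_iff.mp (hQm c) t).symm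
    have hsw : E a * P b' = P b' * E a * Q (a * b') := by
      rw [← hp, Subgroup.mem_center_iff.mp (s.comm_mem _ _) (P b' * E a)]
      simp only [commutatorElement_def]; group
    show g ⟨hMat a b c * hMat a' b' c', _⟩ = _
    simp only [g, hMat_mul]
    simp [hMat, hP, hE, hQadd]
    calc P b * P b' * (E a * E a') * (Q c * Q c' * Q (a * b'))
        = P b * (P b' * E a) * E a' * (Q (a * b') * (Q c * Q c')) := by
          rw [hcz (a * b') (Q c * Q c')]; simp only [mul_assoc]
      _ = P b * (P b' * E a * Q (a * b')) * E a' * (Q c * Q c') := by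
          simp only [mul_assoc]
          rw [← mul_assoc (E a') (Q (a * b')), ← hcz (a * b') (E a')]
          simp only [mul_assoc]
      _ = P b * (E a * P b') * E a' * (Q c * Q c') := by rw [hsw]
      _ = P b * E a * Q c * (P b' * E a' * Q c') := by
          simp only [mul_assoc]
          rw [← mul_assoc (Q c) (P b'), hcz c (P b'), mul_assoc (P b') (Q c), ← mul_assoc (Q c) (E a'),
            hcz c (E a'), mul_assoc (E a') (Q c)])
  have hQ0 : ∀ d, Q d = 1 → d = 0 := fun d hd => by
    obtain ⟨v0, v1, v2, v3⟩ := orb_values (ρ := ρ) h z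
    rcases h.all (d * d) with e0 | e0 | e0 | e0
    · exact mul_self_eq_zero.mp e0
    all_goals
      exfalso
      simp only [hQ, e0] at hd
    · exact hz1 (v1 ▸ hd)
    · exact hz1 (ρ.injective (by rw [← v2, hd, map_one]))
    · exact hz1 (ρ.injective (ρ.injective (by rw [← v3, hd, map_one, map_one])))
  have hinj : Function.Injective φ := by
    rw [injective_iff_map_eq_one]
    rintro ⟨u, hu⟩ h1
    obtain ⟨a, b, c, rfl⟩ : ∃ a b c : F, u = hMat a b c := ⟨_, _, _, eq_hMat hu⟩
    have h1' : P b * E a * Q c = 1 := by simpa [φ, g, hMat] using h1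
    have hm : P b * E a ∈ Subgroup.center T := by
      rw [eq_inv_of_mul_eq_one_left h1']; exact inv_mem (hQm c)
    have hb0 : b = 0 := by
      have hh := comm_center hm (E 1)
      rw [s.comm_mul_right, hp, show ⁅E 1, E a⁆ = 1 by
        rw [commutatorElement_eq_one_iff_mul_comm, ← hE, ← hE, add_comm], mul_one, one_mul] at hh
      exact hQ0 _ hh
    have ha0 : a = 0 := by
      have hh := comm_center hm (P 1)
      rw [s.comm_mul_right, s.comm_symm (E a) (P 1), hp, show ⁅P 1, P b⁆ = 1 by
        rw [commutatorElement_eq_one_iff_mul_comm, ← hP, ← hP, add_comm], one_mul, mul_one] at hh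
      exact hQ0 _ hh
    subst ha0; subst hb0
    have hc : c = 0 := hQ0 _ (by simpa [P, E, (orb_values (ρ := ρ) h e).1, (orb_values (ρ := ρ) h f).1] using h1')
    subst hc
    exact Subtype.ext hMat_one
  have hcard : Nat.card (upperUni 3 F) = 64 := by
    let eqv : F × F × F → upperUni 3 F := fun t => ⟨hMat t.1 t.2.1 t.2.2, hMat_mem _ _ _⟩
    have hb : Function.Bijective eqv := by
      refine ⟨fun t t' ht => ?_, fun u => ⟨(u.val.val 0 1, u.val.val 1 2, u.val.val 0 2),
        Subtype.ext (eq_hMat u.2).symm⟩⟩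
      obtain ⟨a1, a2, a3⟩ := hMat_inj (congrArg Subtype.val ht)
      exact Prod.ext a1 (Prod.ext a2 a3)
    rw [← Nat.card_congr (Equiv.ofBijective eqv hb), Nat.card_eq_fintype_card]
    have hF4 : Fintype.card F = 4 := by
      obtain ⟨a0, b0, c0, d0, e0⟩ := ne_facts h
      have : (Finset.univ : Finset F) = {0, 1, ω, ω + 1} := by
        ext t
        simpa using h.all t
      rw [← Finset.card_univ, this]
      simp [a0.symm, b0.symm, c0.symm, d0.symm, e0.symm, zero_ne_one]
    simp [hF4]
  have hbij : Function.Bijective φ :=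
    (Nat.bijective_iff_injective_and_card φ).mpr ⟨hinj, by rw [hcard, s.card]⟩
  exact ⟨MulEquiv.ofBijective φ hbij, fun u => ⟨u.val.val 0 1, u.val.val 1 2,
    u.val.val 0 2 * u.val.val 0 2, rfl⟩⟩

end Setup

end Cfsg.Agent.TwoGroups.SixtyFour
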