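import Cfsg.Agent.TwoGroups.SixtyFourSymThree

set_option autoImplicit false
set_option linter.style.haveILetI false
set_option linter.unusedSectionVars false
open scoped commutatorElement

namespace Cfsg.Agent.TwoGroups.SixtyFour

variable {T : Type*} [Group T] [Finite T]

namespace Setup

variable {ρ x : MulAut T} (s : Setup ρ x)

include s

theorem exists_z : ∃ z ∈ Subgroup.center T, z ≠ 1 ∧ x z = z := by
  haveI : Nontrivial (Subgroup.center T) :=
    Finite.one_lt_card_iff_nontrivial.mp (by rw [s.card_center]; norm_num)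
  obtain ⟨⟨w, hw⟩, hw1⟩ := exists_ne (1 : Subgroup.center T)
  have hw1' : w ≠ 1 := fun e => hw1 (Subtype.ext e)
  by_cases h : w * x w = 1
  · exact ⟨w, hw, hw1', by rw [eq_inv_of_mul_eq_one_right h, s.inv_self hw]⟩
  · refine ⟨w * x w, mul_mem hw (map_mem_center x hw), h, ?_⟩
    rw [map_mul, s.inv, Subgroup.mem_center_iff.mp hw (x w)]

variable {z : T} (hz : z ∈ Subgroup.center T) (hz1 : z ≠ 1) (hzx : x z = z)

include hz hz1 hzx

theorem x_rho_z : x (ρ z) = ρ (ρ z) := by rw [s.xρ, hzx]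

theorem fixed_center {v : T} (hv : v ∈ Subgroup.center T) (hvx : x v = v) : v = 1 ∨ v = z := by
  rcases s.mem_list hz hz1 hv with h | h | h | h
  · exact Or.inl h
  · exact Or.inr h
  · rw [h, s.xρ, hzx] at hvx
    exact absurd (s.fpf _ (ρ.injective hvx)) hz1
  · rw [h, s.xρ, s.xρ, hzx, s.h3] at hvx
    exact absurd (s.fpf _ (ρ.injective hvx).symm) hz1

theorem z_prod : ρ (ρ z) * ρ z = z ∧ z * ρ z = ρ (ρ z) ∧ z * ρ (ρ z) = ρ z := by
  have h := orbit_prod ρ s.h3 s.fpf z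
  have h1 := s.inv_self hz
  have h2 := s.inv_self (s.map_center hz)
  have h3 := s.inv_self (s.map_center (s.map_center hz))
  have e1 : z * ρ z = ρ (ρ z) := by rw [eq_inv_of_mul_eq_one_left h, h3]
  refine ⟨?_, e1, ?_⟩
  · rw [← e1, mul_assoc, s.sq_eq_one (s.map_center hz), mul_one]
  · rw [← e1, ← mul_assoc, s.sq_eq_one hz, one_mul]

theorem lift {w c : T} (hc : c ∈ Subgroup.center T) (hw : x w = w * c) :
    ∃ d ∈ Subgroup.center T, x (w * d) = w * d := by
  have hcc : x c = c := by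
    have h := congrArg x hw
    rw [s.inv, map_mul, hw, mul_assoc] at h
    have h' : c * x c = 1 := mul_eq_left.mp h.symm
    rw [eq_inv_of_mul_eq_one_right h', s.inv_self hc]
  rcases s.fixed_center hz hz1 hzx hc hcc with h | h
  · exact ⟨1, one_mem _, by rw [mul_one, hw, h, mul_one]⟩
  · refine ⟨ρ z, s.map_center hz, ?_⟩
    rw [map_mul, hw, h, s.x_rho_z hz hz1 hzx, mul_assoc, (s.z_prod hz hz1 hzx).2.2]

theorem exists_e : ∃ e, x e = e ∧ e ∉ Subgroup.center T := by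
  obtain ⟨a, b, hab⟩ : ∃ a b : T, a * b ≠ b * a := by
    by_contra h
    push Not at h
    exact s.nab ⟨⟨h⟩⟩
  have ha : a ∉ Subgroup.center T := fun h => hab (Subgroup.mem_center_iff.mp h b).symm
  suffices ∃ w c, w ∉ Subgroup.center T ∧ c ∈ Subgroup.center T ∧ x w = w * c by
    obtain ⟨w, c, hw, hc, h⟩ := this
    obtain ⟨d, hd, hfix⟩ := s.lift hz hz1 hzx hc h
    exact ⟨w * d, hfix, fun hm => hw (by simpa using mul_mem hm (inv_mem hd))⟩
  by_cases h : a * x a ∈ Subgroup.center T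
  · refine ⟨a, (a * a)⁻¹ * (a * x a), ha, mul_mem (inv_mem (s.sq_mem a)) h, ?_⟩
    group
  · refine ⟨a * x a, ⁅x a, a⁆, h, s.comm_mem _ _, ?_⟩
    rw [map_mul, s.inv, Subgroup.mem_center_iff.mp (s.comm_mem (x a) a) (a * x a)]
    simp only [commutatorElement_def]; group

theorem exists_pair : ∃ e f : T, x e = e ∧ x f = f ∧ ⁅e, f⁆ = z ∧ (e * e = 1 ∨ e * e = z) ∧
    (f * f = 1 ∨ f * f = z) := by
  obtain ⟨e, he, hez⟩ := s.exists_e hz hz1 hzx
  obtain ⟨b, hb⟩ : ∃ b : T, ⁅e, b⁆ ≠ 1 := by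
    by_contra h
    push Not at h
    exact hez (Subgroup.mem_center_iff.mpr fun g => (commutatorElement_eq_one_iff_mul_comm.mp (h g)).symm)
  obtain ⟨y, hy⟩ : ∃ y, ⁅e, y⁆ = z := by
    rcases s.mem_list hz hz1 (s.comm_mem e b) with h | h | h | h
    · exact absurd h hb
    · exact ⟨b, h⟩
    · exact ⟨ρ b, by rw [s.shift_right, h, s.h3]⟩
    · exact ⟨ρ (ρ b), by rw [s.shift_right, s.shift_right, h, s.h3, s.h3]⟩
  set v := ρ y with hv
  have hev : ⁅e, v⁆ = ρ (ρ z) := by rw [hv, s.shift_right, hy]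
  have hexv : ⁅e, x v⁆ = ρ z := by
    have : x ⁅e, v⁆ = ⁅e, x v⁆ := by rw [map_commutatorElement, he]
    rw [← this, hev, s.xρ, s.xρ, hzx, s.h3]
  have hw : ⁅e, v * x v⁆ = z := by
    rw [s.comm_mul_right, hev, hexv, (s.z_prod hz hz1 hzx).1]
  obtain ⟨d, hd, hfix⟩ := s.lift hz hz1 hzx (w := v * x v) (c := ⁅x v, v⁆) (s.comm_mem _ _) (by
    rw [map_mul, s.inv, Subgroup.mem_center_iff.mp (s.comm_mem (x v) v) (v * x v)]
    simp only [commutatorElement_def]; group)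
  refine ⟨e, v * x v * d, he, hfix, by rw [s.comm_mul_right, hw, comm_center hd, mul_one],
    s.fixed_center hz hz1 hzx (s.sq_mem e) (by rw [map_mul, he]),
    s.fixed_center hz hz1 hzx (s.sq_mem _) (by rw [map_mul, hfix])⟩

theorem exists_involutions {e f : T} (hef : ⁅e, f⁆ = z) (he : e * e = 1 ∨ e * e = z)
    (hf : f * f = 1 ∨ f * f = z) :
    ∃ e' f' : T, e' * e' = 1 ∧ f' * f' = 1 ∧ ⁅e', f'⁆ = z ∧
      ∀ y : T, ⁅y, e⁆ = 1 → ⁅y, f⁆ = 1 → ⁅y, e'⁆ = 1 ∧ ⁅y, f'⁆ = 1 := by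
  have hzz := s.sq_eq_one hz
  have hp := s.z_prod hz hz1 hzx
  rcases he with he | he <;> rcases hf with hf | hf
  · exact ⟨e, f, he, hf, hef, fun y h1 h2 => ⟨h1, h2⟩⟩
  · refine ⟨e, e * f, he, by rw [s.sq_mul, he, hf, hef, one_mul, hzz], ?_,
      fun y h1 h2 => ⟨h1, by rw [s.comm_mul_right, h1, h2, one_mul]⟩⟩
    rw [s.comm_mul_right, commutatorElement_self, hef, one_mul]
  · refine ⟨e * f, f, by rw [s.sq_mul, he, hf, hef, mul_one, hzz], hf, ?_,
      fun y h1 h2 => ⟨by rw [s.comm_mul_right, h1, h2, one_mul], h2⟩⟩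
    rw [s.comm_mul_left, commutatorElement_self, hef, mul_one]
  · have r1 : ⁅e, ρ f⁆ = ρ (ρ z) := by rw [s.shift_right, hef]
    have r2 : ⁅e, ρ (ρ f)⁆ = ρ z := by rw [s.shift_right, r1, s.h3]
    have q1 : ρ f * ρ f = ρ z := by rw [← map_mul, hf]
    have q2 : ρ (ρ f) * ρ (ρ f) = ρ (ρ z) := by rw [← map_mul, q1]
    refine ⟨e * ρ f, e * ρ (ρ f), ?_, ?_, ?_, fun y h1 h2 => ?_⟩
    · rw [s.sq_mul, he, q1, r1, hp.2.1, s.sq_eq_one (s.map_center (s.map_center hz))]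
    · rw [s.sq_mul, he, q2, r2, hp.2.2, s.sq_eq_one (s.map_center hz)]
    · rw [s.comm_mul_left, s.comm_mul_right, s.comm_mul_right, commutatorElement_self, one_mul, r2,
        s.comm_symm e (ρ f), r1, s.shift_right (ρ f) (ρ f), commutatorElement_self, map_one, map_one,
        mul_one, Subgroup.mem_center_iff.mp (s.map_center (s.map_center hz)) (ρ z), hp.1]
    · constructor <;> simp only [s.comm_mul_right, s.shift_right, h1, h2, map_one, one_mul]

end Setup

end Cfsg.Agent.TwoGroups.SixtyFour
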