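import Mathlib
import Cfsg.Agent.Fusion.HeisSL3
import Cfsg.Agent.Fusion.EssentialFour
import Cfsg.Agent.TwoGroups.ExtSub

/-!
Groups of order 64 admitting a symmetric group of degree three of automorphisms with a fixed-point-free
element of order three.
-/

set_option autoImplicit false
set_option linter.style.haveILetI false
set_option linter.unusedSectionVars false
open scoped commutatorElement

namespace Cfsg.Agent.TwoGroups.SixtyFour

theorem map_mem_center {H : Type*} [Group H] (α : H ≃* H) {v : H} (hv : v ∈ Subgroup.center H) :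
    α v ∈ Subgroup.center H :=
  Subgroup.mem_center_iff.mpr fun g => by
    rw [← α.apply_symm_apply g, ← map_mul, ← map_mul, Subgroup.mem_center_iff.mp hv]

section FPF

variable {H : Type*} [Group H] [Finite H] (ρ : H ≃* H) (h3 : ∀ y, ρ (ρ (ρ y)) = y)
  (hfp : ∀ y, ρ y = y → y = 1)

include h3 hfp

theorem orbit_prod (y : H) : y * ρ y * ρ (ρ y) = 1 := by
  have hinj : Function.Injective fun u : H => u⁻¹ * ρ u := by
    intro u v huv
    have huv' : u⁻¹ * ρ u = v⁻¹ * ρ v := huv
    apply mul_inv_eq_one.mp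
    apply hfp
    rw [map_mul, map_inv]
    calc ρ u * (ρ v)⁻¹ = u * (u⁻¹ * ρ u) * (ρ v)⁻¹ := by group
      _ = u * v⁻¹ := by rw [huv']; group
  obtain ⟨u, rfl⟩ := Finite.surjective_of_injective hinj y
  simp only [map_mul, map_inv, h3]
  group

theorem commute_image (y : H) : Commute y (ρ y) := by
  have h1 := orbit_prod ρ h3 hfp y
  have h2 := orbit_prod (ρ.trans ρ) (fun a => by simp [h3]) (fun a ha => hfp a (by
    have := congrArg ρ ha
    simp only [MulEquiv.trans_apply, h3] at this
    exact this.symm)) (ρ y)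
  simp only [MulEquiv.trans_apply, h3] at h2
  have e1 : (y * ρ y)⁻¹ = ρ (ρ y) := inv_eq_of_mul_eq_one_right h1
  have e2 : (ρ y * y)⁻¹ = ρ (ρ y) := inv_eq_of_mul_eq_one_right h2
  exact inv_injective (e1.trans e2.symm)

theorem card_mod : Nat.card H % 3 = 1 := by
  classical
  cases nonempty_fintype H
  haveI : Fact (Nat.Prime 3) := ⟨Nat.prime_three⟩
  have hσ : (ρ.toEquiv : Equiv.Perm H) ^ 3 ^ 1 = 1 := by
    ext a
    simp [pow_succ, h3]
  have h := Equiv.Perm.card_compl_support_modEq (p := 3) (n := 1) hσ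
  have hs : (Equiv.Perm.support (ρ.toEquiv : Equiv.Perm H))ᶜ = {1} := by
    ext a
    simp only [Finset.mem_compl, Equiv.Perm.mem_support, not_not, Finset.mem_singleton]
    exact ⟨fun h => hfp a h, fun h => by subst h; exact map_one ρ⟩
  rw [hs, Finset.card_singleton] at h
  rw [Nat.card_eq_fintype_card]
  exact h.symm

theorem center_card_mod : Nat.card (Subgroup.center H) % 3 = 1 := by
  apply card_mod (Subgroup.centerCongr ρ)
  · exact fun z => Subtype.ext (h3 z)
  · exact fun z hz => Subtype.ext (hfp z (congrArg Subtype.val hz))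

theorem comm_of_index_four (h2 : IsPGroup 2 H) (hi : (Subgroup.center H).index = 4) : False := by
  obtain ⟨a, ha⟩ : ∃ a, a ∉ Subgroup.center H := by
    by_contra hc
    push Not at hc
    have : Subgroup.center H = ⊤ := (Subgroup.eq_top_iff' _).mpr hc
    rw [this, Subgroup.index_top] at hi
    omega
  set C := Subgroup.centralizer ({a} : Set H)
  have hZC : Subgroup.center H ≤ C := Subgroup.center_le_centralizer _
  have hC : C ≠ ⊤ := fun e => ha (Subgroup.mem_center_iff.mpr fun b => by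
    have hb : b ∈ C := e ▸ Subgroup.mem_top b
    exact (Subgroup.mem_centralizer_singleton_iff.mp hb))
  have haC : a ∈ C := Subgroup.mem_centralizer_singleton_iff.mpr rfl
  have hρC : ρ a ∈ C := Subgroup.mem_centralizer_singleton_iff.mpr (commute_image ρ h3 hfp a).eq.symm
  have hmul := Subgroup.relIndex_mul_index hZC
  rw [hi] at hmul
  have hCi : C.index ≠ 1 := fun e => hC (Subgroup.index_eq_one.mp e)
  have hdvd : (Subgroup.center H).relIndex C ∣ 4 := ⟨_, hmul.symm⟩
  have hr : (Subgroup.center H).relIndex C = 2 := by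
    have h1 : (Subgroup.center H).relIndex C ≠ 1 := fun e => ha (Subgroup.relIndex_eq_one.mp e haC)
    have hle : (Subgroup.center H).relIndex C ≤ 4 := Nat.le_of_dvd (by norm_num) hdvd
    interval_cases (Subgroup.center H).relIndex C <;> omega
  have hρZ : ρ a ∉ Subgroup.center H := by
    intro h
    apply ha
    simpa using map_mem_center ρ.symm h
  have hq : a⁻¹ * ρ a ∈ Subgroup.center H := by
    have hm := Subgroup.mul_mem_iff_of_index_two (H := (Subgroup.center H).subgroupOf C)
      (show ((Subgroup.center H).subgroupOf C).index = 2 from hr) (a := ⟨a⁻¹, inv_mem haC⟩) (b := ⟨ρ a, hρC⟩)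
    exact hm.mpr ⟨fun h => absurd (inv_mem_iff.mp h) ha, fun h => absurd h hρZ⟩
  apply ha
  have h3m : a * a * a ∈ Subgroup.center H := by
    set q := a⁻¹ * ρ a with hqdef
    have e1 : ρ a = a * q := by rw [hqdef, mul_inv_cancel_left]
    have hρq : ρ q ∈ Subgroup.center H := map_mem_center ρ hq
    have h1 := orbit_prod ρ h3 hfp a
    rw [show ρ (ρ a) = a * q * ρ q by rw [e1, map_mul, e1]] at h1
    rw [e1] at h1
    have hc : ∀ b, q * b = b * q := fun b => (Subgroup.mem_center_iff.mp hq b).symm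
    rw [show a * (a * q) * (a * q * ρ q) = a * a * a * (q * q * ρ q) by
      simp only [mul_assoc]; rw [← mul_assoc q a, hc a]; simp only [mul_assoc]] at h1
    rw [eq_inv_of_mul_eq_one_left h1]
    exact inv_mem (mul_mem (mul_mem hq hq) hρq)
  obtain ⟨k, hk⟩ := h2 a
  have hcop : Nat.Coprime 3 (orderOf a) :=
    Nat.Coprime.coprime_dvd_right (orderOf_dvd_of_pow_eq_one hk)
      (Nat.Coprime.pow_right _ (by norm_num))
  obtain ⟨m, hm⟩ := exists_pow_eq_self_of_coprime hcop
  rw [← hm]
  exact pow_mem (by rw [pow_succ, pow_two]; exact h3m) m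

end FPF

variable {T : Type*} [Group T] [Finite T]

/-- The group theoretical conclusions. -/
structure Setup (ρ x : MulAut T) : Prop where
  card : Nat.card T = 64
  nab : ¬ IsMulCommutative T
  h3 : ∀ y, ρ (ρ (ρ y)) = y
  fpf : ∀ y, ρ y = y → y = 1
  inv : ∀ y, x (x y) = y
  xρ : ∀ y, x (ρ y) = ρ (ρ (x y))

namespace Setup

variable {ρ x : MulAut T} (s : Setup ρ x)

include s

theorem pgroup : IsPGroup 2 T := IsPGroup.of_card (n := 6) (by rw [s.card]; norm_num)

theorem map_center {v : T} (hv : v ∈ Subgroup.center T) : ρ v ∈ Subgroup.center T :=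
  map_mem_center ρ hv


theorem card_center : Nat.card (Subgroup.center T) = 4 := by
  have hmod := center_card_mod ρ s.h3 s.fpf
  have hd := Subgroup.card_subgroup_dvd_card (Subgroup.center T)
  rw [s.card, show 64 = 2 ^ 6 by norm_num, Nat.dvd_prime_pow Nat.prime_two] at hd
  obtain ⟨k, hk, hc⟩ := hd
  have hidx := Subgroup.card_mul_index (Subgroup.center T)
  rw [s.card, hc] at hidx
  rw [hc] at hmod
  interval_cases k
  · haveI : Nontrivial T := Finite.one_lt_card_iff_nontrivial.mp (by rw [s.card]; norm_num)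
    haveI := (s.pgroup).center_nontrivial
    have := Finite.one_lt_card (α := Subgroup.center T)
    omega
  · norm_num at hmod
  · exact hc
  · norm_num at hmod
  · exact (comm_of_index_four ρ s.h3 s.fpf s.pgroup (by omega)).elim
  · norm_num at hmod
  · have hi1 : (Subgroup.center T).index = 1 := by omega
    exact absurd ⟨⟨fun a b => (Subgroup.mem_center_iff.mp
      ((Subgroup.index_eq_one.mp hi1).symm ▸ Subgroup.mem_top b : b ∈ Subgroup.center T) a)⟩⟩ s.nab

theorem comm_mem (a b : T) : ⁅a, b⁆ ∈ Subgroup.center T := by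
  set Z := Subgroup.center T
  have hρZ : Z.map (ρ : T ≃* T).toMonoidHom = Z := by
    ext v
    constructor
    · rintro ⟨w, hw, rfl⟩; exact s.map_center hw
    · intro hv
      exact ⟨ρ (ρ v), s.map_center (s.map_center hv), s.h3 v⟩
  let ρ' : T ⧸ Z ≃* T ⧸ Z := QuotientGroup.congr Z Z ρ hρZ
  have hmk : ∀ t : T, ρ' (t : T ⧸ Z) = ((ρ t : T) : T ⧸ Z) := fun t => rfl
  have h3' : ∀ y, ρ' (ρ' (ρ' y)) = y := fun y => by
    induction y using QuotientGroup.induction_on with
    | H t => rw [hmk, hmk, hmk, s.h3]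
  have hfp' : ∀ y, ρ' y = y → y = 1 := fun y => by
    induction y using QuotientGroup.induction_on with
    | H t =>
      intro h
      rw [hmk] at h
      have h1 := congrArg (fun v : T ⧸ Z => v * v * v) (rfl : (t : T ⧸ Z) = t)
      have h2 : ((t * ρ t * ρ (ρ t) : T) : T ⧸ Z) = 1 := by rw [orbit_prod ρ s.h3 s.fpf]; rfl
      simp only [QuotientGroup.mk_mul] at h2
      rw [h, ← hmk (ρ t), h, hmk, h] at h2
      obtain ⟨k, hk⟩ := (s.pgroup.to_quotient Z) (t : T ⧸ Z)
      have hcop : Nat.Coprime 3 (orderOf (t : T ⧸ Z)) :=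
        Nat.Coprime.coprime_dvd_right (orderOf_dvd_of_pow_eq_one hk)
          (Nat.Coprime.pow_right _ (by norm_num))
      obtain ⟨m, hm⟩ := exists_pow_eq_self_of_coprime hcop
      rw [← hm, pow_succ, pow_two, h2, one_pow]
  have hidx : Nat.card (T ⧸ Z) = 16 := by
    have := Subgroup.card_mul_index Z
    rw [s.card, s.card_center, Subgroup.index_eq_card] at this
    omega
  have hq : IsPGroup 2 (T ⧸ Z) := s.pgroup.to_quotient Z
  have htop : Subgroup.center (T ⧸ Z) = ⊤ := by
    have hmod := center_card_mod ρ' h3' hfp'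
    have hd := Subgroup.card_subgroup_dvd_card (Subgroup.center (T ⧸ Z))
    rw [hidx, show 16 = 2 ^ 4 by norm_num, Nat.dvd_prime_pow Nat.prime_two] at hd
    obtain ⟨k, hk, hc⟩ := hd
    have hmul := Subgroup.card_mul_index (Subgroup.center (T ⧸ Z))
    rw [hidx, hc] at hmul
    rw [hc] at hmod
    interval_cases k
    · haveI : Nontrivial (T ⧸ Z) := Finite.one_lt_card_iff_nontrivial.mp (by rw [hidx]; norm_num)
      haveI := hq.center_nontrivial
      have := Finite.one_lt_card (α := Subgroup.center (T ⧸ Z))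
      omega
    · norm_num at hmod
    · exact (comm_of_index_four ρ' h3' hfp' hq (by omega)).elim
    · norm_num at hmod
    · exact Subgroup.index_eq_one.mp (by omega)
  rw [← QuotientGroup.eq_one_iff (N := Z), show ((⁅a, b⁆ : T) : T ⧸ Z) = ⁅(a : T ⧸ Z), (b : T ⧸ Z)⁆ from
    map_commutatorElement (QuotientGroup.mk' Z) a b, commutatorElement_eq_one_iff_mul_comm]
  exact (Subgroup.mem_center_iff.mp (htop ▸ Subgroup.mem_top (b : T ⧸ Z)) _)

theorem mem_list {z : T} (hz : z ∈ Subgroup.center T) (hz1 : z ≠ 1) {v : T}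
    (hv : v ∈ Subgroup.center T) : v = 1 ∨ v = z ∨ v = ρ z ∨ v = ρ (ρ z) := by
  classical
  by_contra hn
  push Not at hn
  obtain ⟨n1, n2, n3, n4⟩ := hn
  have hρ1 : ρ z ≠ 1 := fun e => hz1 (ρ.injective (by rw [e, map_one]))
  have hρρ1 : ρ (ρ z) ≠ 1 := fun e => hρ1 (ρ.injective (by rw [e, map_one]))
  have hd1 : ρ z ≠ z := fun e => hz1 (s.fpf z e)
  have hd2 : ρ (ρ z) ≠ ρ z := fun e => hd1 (ρ.injective e)
  have hd3 : ρ (ρ z) ≠ z := fun e => hd1 (by
    have := congrArg ρ e
    rw [s.h3] at this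
    exact this.symm)
  let f : Fin 5 → Subgroup.center T :=
    ![1, ⟨z, hz⟩, ⟨ρ z, s.map_center hz⟩, ⟨ρ (ρ z), s.map_center (s.map_center hz)⟩, ⟨v, hv⟩]
  have hf : Function.Injective f := by
    intro i j hij
    fin_cases i <;> fin_cases j <;> first
      | rfl
      | (exfalso; simp [f, Subtype.ext_iff] at hij; first
          | exact n1 hij | exact n1 hij.symm | exact n2 hij | exact n2 hij.symm | exact n3 hij
          | exact n3 hij.symm | exact n4 hij | exact n4 hij.symm | exact hz1 hij | exact hz1 hij.symm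
          | exact hρ1 hij | exact hρ1 hij.symm | exact hρρ1 hij | exact hρρ1 hij.symm
          | exact hd1 hij | exact hd1 hij.symm | exact hd2 hij | exact hd2 hij.symm
          | exact hd3 hij | exact hd3 hij.symm)
  have := Nat.card_le_card_of_injective f hf
  rw [s.card_center] at this
  simp at this

theorem sq_eq_one {v : T} (hv : v ∈ Subgroup.center T) : v * v = 1 := by
  by_cases hv1 : v = 1
  · simp [hv1]
  have h7 : v ^ 7 = 1 → False := fun h => by
    obtain ⟨k, hk⟩ := s.pgroup v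
    have : orderOf v ∣ 1 := by
      have hcop : Nat.Coprime 7 (2 ^ k) := Nat.Coprime.pow_right _ (by norm_num)
      rw [← hcop]
      exact Nat.dvd_gcd (orderOf_dvd_of_pow_eq_one h) (orderOf_dvd_of_pow_eq_one hk)
    exact hv1 (orderOf_eq_one_iff.mp (Nat.dvd_one.mp this))
  have ho := orbit_prod ρ s.h3 s.fpf v
  rcases s.mem_list hv hv1 (mul_mem hv hv) with h | h | h | h
  · exact h
  · exact absurd (mul_eq_left.mp h) hv1
  · rw [← h, map_mul, ← h] at ho
    exact (h7 (by rw [← ho]; simp only [pow_succ, pow_zero, one_mul, mul_assoc])).elim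
  · have h' : ρ v = v * v * (v * v) := by
      have := congrArg (fun w => ρ (ρ w)) h
      simp only [s.h3] at this
      rw [map_mul, map_mul, ← h] at this
      exact this.symm
    rw [← h, h'] at ho
    exact (h7 (by rw [← ho]; simp only [pow_succ, pow_zero, one_mul, mul_assoc])).elim

theorem inv_self {v : T} (hv : v ∈ Subgroup.center T) : v⁻¹ = v :=
  inv_eq_of_mul_eq_one_right (s.sq_eq_one hv)

theorem comm_mul_left (a b c : T) : ⁅a * b, c⁆ = ⁅a, c⁆ * ⁅b, c⁆ := by
  calc ⁅a * b, c⁆ = a * ⁅b, c⁆ * a⁻¹ * ⁅a, c⁆ := by simp only [commutatorElement_def]; group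
    _ = ⁅b, c⁆ * ⁅a, c⁆ := by
      rw [Subgroup.mem_center_iff.mp (s.comm_mem b c) a, mul_inv_cancel_right]
    _ = _ := Subgroup.mem_center_iff.mp (s.comm_mem a c) _

theorem comm_symm (a b : T) : ⁅b, a⁆ = ⁅a, b⁆ := by
  rw [← commutatorElement_inv, s.inv_self (s.comm_mem a b)]

theorem comm_mul_right (a b c : T) : ⁅a, b * c⁆ = ⁅a, b⁆ * ⁅a, c⁆ := by
  rw [s.comm_symm (b * c) a, s.comm_mul_left, s.comm_symm a b, s.comm_symm a c]

omit [Finite T] s in
theorem comm_center {d : T} (hd : d ∈ Subgroup.center T) (a : T) : ⁅a, d⁆ = 1 :=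
  commutatorElement_eq_one_iff_mul_comm.mpr (Subgroup.mem_center_iff.mp hd a)

theorem comm_inv_right (a b : T) : ⁅a, b⁻¹⁆ = ⁅a, b⁆ := by
  have h := s.comm_mul_right a b b⁻¹
  rw [mul_inv_cancel, commutatorElement_one_right] at h
  exact (eq_inv_of_mul_eq_one_right h.symm).trans (s.inv_self (s.comm_mem a b))

theorem shift_right (a b : T) : ⁅a, ρ b⁆ = ρ (ρ ⁅a, b⁆) := by
  set c := ⁅a, b⁆ with hc
  have hcm := s.comm_mem a b
  have hu := s.comm_mem a (ρ b)
  set u := ⁅a, ρ b⁆ with hudef
  set w := ⁅ρ a, b⁆ with hwdef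
  have e2 : ρ (ρ b) = (b * ρ b)⁻¹ :=
    eq_inv_of_mul_eq_one_right (orbit_prod ρ s.h3 s.fpf b)
  have e2a : ρ (ρ a) = (a * ρ a)⁻¹ :=
    eq_inv_of_mul_eq_one_right (orbit_prod ρ s.h3 s.fpf a)
  have hρc : ρ c = ⁅ρ a, ρ b⁆ := map_commutatorElement ρ a b
  have h1 : ρ u = w * ρ c := by
    rw [hudef, map_commutatorElement, e2, s.comm_inv_right, s.comm_mul_right, hρc]
  have h2 : ρ w = u * ρ c := by
    rw [hwdef, map_commutatorElement, e2a, ← s.comm_symm, s.comm_inv_right, s.comm_mul_right,
      s.comm_symm a, s.comm_symm (ρ a), hρc]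
  have h3 : ρ (ρ u) = u * c := by
    rw [h1, map_mul, h2, mul_assoc]
    congr 1
    have := orbit_prod ρ s.h3 s.fpf c
    rw [mul_assoc] at this
    rw [← eq_inv_of_mul_eq_one_right this |>.symm.trans rfl, s.inv_self hcm]
  have ho := orbit_prod ρ s.h3 s.fpf u
  rw [h3, mul_assoc, ← mul_assoc (ρ u), Subgroup.mem_center_iff.mp hu (ρ u), mul_assoc, ← mul_assoc,
    s.sq_eq_one hu, one_mul] at ho
  have hρu : ρ u = c := by rw [eq_inv_of_mul_eq_one_left ho, s.inv_self hcm]
  rw [← hρu, s.h3]

theorem shift_left (a b : T) : ⁅ρ a, b⁆ = ρ (ρ ⁅a, b⁆) := by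
  rw [s.comm_symm b (ρ a), s.shift_right, s.comm_symm a b]

theorem sq_mem (a : T) : a * a ∈ Subgroup.center T :=
  Subgroup.mem_center_iff.mpr fun b => commutatorElement_eq_one_iff_mul_comm.mp (by
    rw [s.comm_mul_right, s.sq_eq_one (s.comm_mem b a)])

theorem sq_mul (a b : T) : a * b * (a * b) = a * a * (b * b) * ⁅a, b⁆ := by
  have h : b * a = ⁅a, b⁆ * (a * b) := by
    rw [← s.comm_symm a b]; simp only [commutatorElement_def]; group
  calc a * b * (a * b) = a * (b * a) * b := by group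
    _ = a * (⁅a, b⁆ * (a * b)) * b := by rw [h]
    _ = ⁅a, b⁆ * (a * a * (b * b)) := by
      rw [← mul_assoc a ⁅a, b⁆, Subgroup.mem_center_iff.mp (s.comm_mem a b) a]; group
    _ = _ := (Subgroup.mem_center_iff.mp (s.comm_mem a b) _).symm

end Setup

end Cfsg.Agent.TwoGroups.SixtyFour
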